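import Cfsg.Agent.H498.RP.Chev

/-!
# Tables (helper498), generated
-/

set_option autoImplicit false
set_option maxRecDepth 100000
set_option maxHeartbeats 0

open Cfsg

namespace Cfsg.Agent.H498.RP

open Cfsg.Agent.ChevalleyStructure.CoxeterGeom Cfsg.Agent.H35.ExcIdx Cfsg.Lie Cfsg.Agent.Nodes.RGDChev
  Cfsg.Agent.Nodes.LeviDec Cfsg.Agent.ChevalleyStructure.CoxeterGeomTypes

universe u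

/-- the Cartan matrix -/
def cE7 : Fin 7 → Fin 7 → ℤ := ![![2, 0, -1, 0, 0, 0, 0], ![0, 2, 0, -1, 0, 0, 0], ![-1, 0, 2, -1, 0, 0, 0], ![0, -1, -1, 2, -1, 0, 0], ![0, 0, 0, -1, 2, -1, 0], ![0, 0, 0, 0, -1, 2, -1], ![0, 0, 0, 0, 0, -1, 2]]

theorem cE7_eq : cartanOf chevE7 7 = cE7 := by
  funext i j
  revert i j
  decide +kernel

theorem isCartan_cE7 : IsCartan CoxeterMatrix.E₇ cE7 := by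
  rw [← cE7_eq]
  exact isCartan_E7

namespace E7D6

/-- the vectors -/
def vecT : Fin 126 → Fin 7 → ℤ := ![![2, 2, 3, 4, 3, 2, 1], ![1, 2, 3, 4, 3, 2, 1], ![1, 2, 2, 4, 3, 2, 1],
  ![1, 2, 2, 3, 3, 2, 1], ![1, 2, 2, 3, 2, 2, 1], ![1, 1, 2, 3, 3, 2, 1], ![1, 2, 2, 3, 2, 1, 1], ![1, 1, 2,
  3, 2, 2, 1], ![1, 2, 2, 3, 2, 1, 0], ![1, 1, 2, 3, 2, 1, 1], ![1, 1, 2, 2, 2, 2, 1], ![1, 1, 2, 3, 2, 1,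
  0], ![1, 1, 2, 2, 2, 1, 1], ![1, 1, 1, 2, 2, 2, 1], ![1, 1, 2, 2, 2, 1, 0], ![1, 1, 2, 2, 1, 1, 1], ![1, 1,
  1, 2, 2, 1, 1], ![1, 1, 2, 2, 1, 1, 0], ![1, 1, 1, 2, 2, 1, 0], ![1, 1, 1, 2, 1, 1, 1], ![1, 1, 2, 2, 1, 0,
  0], ![1, 1, 1, 2, 1, 1, 0], ![1, 1, 1, 1, 1, 1, 1], ![1, 1, 1, 2, 1, 0, 0], ![1, 1, 1, 1, 1, 1, 0], ![1, 0,
  1, 1, 1, 1, 1], ![1, 1, 1, 1, 1, 0, 0], ![1, 0, 1, 1, 1, 1, 0], ![1, 1, 1, 1, 0, 0, 0], ![1, 0, 1, 1, 1, 0,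
  0], ![1, 0, 1, 1, 0, 0, 0], ![1, 0, 1, 0, 0, 0, 0], ![1, 0, 0, 0, 0, 0, 0], ![0, 1, 1, 2, 2, 2, 1], ![0, 1,
  1, 2, 2, 1, 1], ![0, 1, 1, 2, 2, 1, 0], ![0, 1, 1, 2, 1, 1, 1], ![0, 1, 1, 2, 1, 1, 0], ![0, 1, 1, 1, 1, 1,
  1], ![0, 1, 1, 2, 1, 0, 0], ![0, 1, 1, 1, 1, 1, 0], ![0, 1, 0, 1, 1, 1, 1], ![0, 0, 1, 1, 1, 1, 1], ![0, 1,
  1, 1, 1, 0, 0], ![0, 1, 0, 1, 1, 1, 0], ![0, 0, 1, 1, 1, 1, 0], ![0, 0, 0, 1, 1, 1, 1], ![0, 1, 1, 1, 0, 0,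
  0], ![0, 1, 0, 1, 1, 0, 0], ![0, 0, 1, 1, 1, 0, 0], ![0, 0, 0, 1, 1, 1, 0], ![0, 0, 0, 0, 1, 1, 1], ![0, 1,
  0, 1, 0, 0, 0], ![0, 0, 1, 1, 0, 0, 0], ![0, 0, 0, 1, 1, 0, 0], ![0, 0, 0, 0, 1, 1, 0], ![0, 0, 0, 0, 0, 1,
  1], ![0, 1, 0, 0, 0, 0, 0], ![0, 0, 1, 0, 0, 0, 0], ![0, 0, 0, 1, 0, 0, 0], ![0, 0, 0, 0, 1, 0, 0], ![0, 0,
  0, 0, 0, 1, 0], ![0, 0, 0, 0, 0, 0, 1], ![0, 0, 0, 0, 0, 0, -1], ![0, 0, 0, 0, 0, -1, 0], ![0, 0, 0, 0, -1,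
  0, 0], ![0, 0, 0, -1, 0, 0, 0], ![0, 0, -1, 0, 0, 0, 0], ![0, -1, 0, 0, 0, 0, 0], ![0, 0, 0, 0, 0, -1, -1],
  ![0, 0, 0, 0, -1, -1, 0], ![0, 0, 0, -1, -1, 0, 0], ![0, 0, -1, -1, 0, 0, 0], ![0, -1, 0, -1, 0, 0, 0],
  ![0, 0, 0, 0, -1, -1, -1], ![0, 0, 0, -1, -1, -1, 0], ![0, 0, -1, -1, -1, 0, 0], ![0, -1, 0, -1, -1, 0, 0],
  ![0, -1, -1, -1, 0, 0, 0], ![0, 0, 0, -1, -1, -1, -1], ![0, 0, -1, -1, -1, -1, 0], ![0, -1, 0, -1, -1, -1,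
  0], ![0, -1, -1, -1, -1, 0, 0], ![0, 0, -1, -1, -1, -1, -1], ![0, -1, 0, -1, -1, -1, -1], ![0, -1, -1, -1,
  -1, -1, 0], ![0, -1, -1, -2, -1, 0, 0], ![0, -1, -1, -1, -1, -1, -1], ![0, -1, -1, -2, -1, -1, 0], ![0, -1,
  -1, -2, -1, -1, -1], ![0, -1, -1, -2, -2, -1, 0], ![0, -1, -1, -2, -2, -1, -1], ![0, -1, -1, -2, -2, -2,
  -1], ![-1, 0, 0, 0, 0, 0, 0], ![-1, 0, -1, 0, 0, 0, 0], ![-1, 0, -1, -1, 0, 0, 0], ![-1, 0, -1, -1, -1, 0,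
  0], ![-1, -1, -1, -1, 0, 0, 0], ![-1, 0, -1, -1, -1, -1, 0], ![-1, -1, -1, -1, -1, 0, 0], ![-1, 0, -1, -1,
  -1, -1, -1], ![-1, -1, -1, -1, -1, -1, 0], ![-1, -1, -1, -2, -1, 0, 0], ![-1, -1, -1, -1, -1, -1, -1],
  ![-1, -1, -1, -2, -1, -1, 0], ![-1, -1, -2, -2, -1, 0, 0], ![-1, -1, -1, -2, -1, -1, -1], ![-1, -1, -1, -2,
  -2, -1, 0], ![-1, -1, -2, -2, -1, -1, 0], ![-1, -1, -1, -2, -2, -1, -1], ![-1, -1, -2, -2, -1, -1, -1],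
  ![-1, -1, -2, -2, -2, -1, 0], ![-1, -1, -1, -2, -2, -2, -1], ![-1, -1, -2, -2, -2, -1, -1], ![-1, -1, -2,
  -3, -2, -1, 0], ![-1, -1, -2, -2, -2, -2, -1], ![-1, -1, -2, -3, -2, -1, -1], ![-1, -2, -2, -3, -2, -1, 0],
  ![-1, -1, -2, -3, -2, -2, -1], ![-1, -2, -2, -3, -2, -1, -1], ![-1, -1, -2, -3, -3, -2, -1], ![-1, -2, -2,
  -3, -2, -2, -1], ![-1, -2, -2, -3, -3, -2, -1], ![-1, -2, -2, -4, -3, -2, -1], ![-1, -2, -3, -4, -3, -2,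
  -1], ![-2, -2, -3, -4, -3, -2, -1]]

/-- the action -/
def actT : Fin 7 → Fin 126 → Fin 126 := ![![1, 0, 2, 3, 4, 5, 6, 7, 8, 9, 10, 11, 12, 33, 14, 15, 34, 17, 35,
  36, 20, 37, 38, 39, 40, 42, 43, 45, 47, 49, 53, 58, 93, 13, 16, 18, 19, 21, 22, 23, 24, 41, 25, 26, 44, 27,
  46, 28, 48, 29, 50, 51, 52, 30, 54, 55, 56, 57, 31, 59, 60, 61, 62, 63, 64, 65, 66, 94, 68, 69, 70, 71, 95,
  73, 74, 75, 96, 77, 97, 79, 98, 81, 99, 100, 84, 101, 102, 103, 104, 106, 107, 109, 112, 32, 67, 72, 76,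
  78, 80, 82, 83, 85, 86, 87, 88, 105, 89, 90, 108, 91, 110, 111, 92, 113, 114, 115, 116, 117, 118, 119, 120,
  121, 122, 123, 125, 124], ![0, 1, 2, 5, 7, 3, 9, 4, 11, 6, 10, 8, 12, 13, 14, 15, 16, 17, 18, 19, 20, 21,
  25, 23, 27, 22, 29, 24, 30, 26, 28, 31, 32, 33, 34, 35, 36, 37, 42, 39, 45, 46, 38, 49, 50, 40, 41, 53, 54,
  43, 44, 51, 59, 47, 48, 55, 56, 68, 58, 52, 60, 61, 62, 63, 64, 65, 73, 67, 57, 69, 70, 77, 78, 66, 74, 81,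
  82, 71, 72, 84, 85, 75, 76, 87, 79, 80, 86, 83, 88, 89, 90, 91, 92, 93, 94, 97, 99, 95, 101, 96, 103, 98,
  102, 100, 104, 105, 106, 107, 108, 109, 110, 111, 112, 113, 117, 115, 119, 114, 121, 116, 122, 118, 120,
  123, 124, 125], ![0, 2, 1, 3, 4, 5, 6, 7, 8, 9, 13, 11, 16, 10, 18, 19, 12, 21, 14, 15, 23, 17, 22, 20, 24,
  25, 26, 27, 28, 29, 30, 32, 31, 33, 34, 35, 36, 37, 41, 39, 44, 38, 46, 48, 40, 50, 42, 52, 43, 54, 45, 51,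
  47, 59, 49, 55, 56, 57, 67, 53, 60, 61, 62, 63, 64, 65, 72, 58, 68, 69, 70, 76, 66, 78, 74, 80, 71, 82, 73,
  83, 75, 85, 77, 79, 87, 81, 86, 84, 88, 89, 90, 91, 92, 94, 93, 95, 96, 97, 98, 99, 100, 101, 105, 103,
  108, 102, 110, 111, 104, 113, 106, 107, 115, 109, 114, 112, 116, 117, 118, 119, 120, 121, 122, 124, 123,
  125], ![0, 1, 3, 2, 4, 5, 6, 10, 8, 12, 7, 14, 9, 13, 11, 15, 16, 17, 18, 22, 20, 24, 19, 26, 21, 25, 23,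
  27, 28, 29, 31, 30, 32, 33, 34, 35, 38, 40, 36, 43, 37, 41, 42, 39, 44, 45, 51, 47, 48, 49, 55, 46, 57, 58,
  60, 50, 56, 52, 53, 66, 54, 61, 62, 63, 64, 71, 59, 72, 73, 69, 75, 65, 67, 68, 79, 70, 76, 77, 78, 74, 80,
  81, 86, 83, 84, 88, 82, 89, 85, 87, 90, 91, 92, 93, 95, 94, 96, 97, 98, 102, 100, 104, 99, 106, 101, 105,
  103, 107, 108, 109, 110, 114, 112, 116, 111, 118, 113, 117, 115, 119, 120, 121, 123, 122, 124, 125], ![0,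
  1, 2, 4, 3, 7, 6, 5, 8, 9, 10, 11, 15, 13, 17, 12, 19, 14, 21, 16, 20, 18, 22, 23, 24, 25, 28, 27, 26, 30,
  29, 31, 32, 33, 36, 37, 34, 35, 38, 39, 40, 41, 42, 47, 44, 45, 46, 43, 52, 53, 50, 56, 48, 49, 59, 61, 51,
  57, 58, 54, 65, 55, 62, 63, 70, 60, 71, 67, 68, 74, 64, 66, 76, 77, 69, 75, 72, 73, 82, 79, 80, 81, 78, 83,
  84, 85, 86, 87, 90, 91, 88, 89, 92, 93, 94, 96, 95, 99, 98, 97, 100, 101, 102, 103, 107, 105, 109, 104,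
  111, 106, 113, 108, 112, 110, 114, 115, 116, 117, 120, 119, 118, 122, 121, 123, 124, 125], ![0, 1, 2, 3, 6,
  5, 4, 9, 8, 7, 12, 11, 10, 16, 14, 15, 13, 20, 18, 19, 17, 23, 22, 21, 26, 25, 24, 29, 28, 27, 30, 31, 32,
  34, 33, 35, 36, 39, 38, 37, 43, 41, 42, 40, 48, 49, 46, 47, 44, 45, 54, 51, 52, 53, 50, 60, 62, 57, 58, 59,
  55, 64, 56, 69, 61, 70, 66, 67, 68, 63, 65, 75, 72, 73, 74, 71, 80, 81, 78, 79, 76, 77, 85, 83, 84, 82, 88,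
  87, 86, 89, 90, 92, 91, 93, 94, 95, 98, 97, 96, 101, 100, 99, 104, 103, 102, 108, 106, 107, 105, 112, 110,
  111, 109, 115, 114, 113, 118, 117, 116, 121, 120, 119, 122, 123, 124, 125], ![0, 1, 2, 3, 4, 5, 8, 7, 6,
  11, 10, 9, 14, 13, 12, 17, 18, 15, 16, 21, 20, 19, 24, 23, 22, 27, 26, 25, 28, 29, 30, 31, 32, 33, 35, 34,
  37, 36, 40, 39, 38, 44, 45, 43, 41, 42, 50, 47, 48, 49, 46, 55, 52, 53, 54, 51, 61, 57, 58, 59, 60, 56, 63,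
  62, 69, 65, 66, 67, 68, 64, 74, 71, 72, 73, 70, 79, 76, 77, 78, 75, 83, 84, 82, 80, 81, 87, 86, 85, 89, 88,
  91, 90, 92, 93, 94, 95, 96, 97, 100, 99, 98, 103, 102, 101, 106, 105, 104, 109, 110, 107, 108, 113, 112,
  111, 116, 115, 114, 119, 118, 117, 120, 121, 122, 123, 124, 125]]

/-- the levels -/
def lvT : Fin 126 → Fin 5 := ![0, 1, 1, 1, 1, 1, 1, 1, 1, 1, 1, 1, 1, 1, 1, 1, 1, 1, 1, 1, 1, 1, 1, 1, 1, 1,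
  1, 1, 1, 1, 1, 1, 1, 2, 2, 2, 2, 2, 2, 2, 2, 2, 2, 2, 2, 2, 2, 2, 2, 2, 2, 2, 2, 2, 2, 2, 2, 2, 2, 2, 2, 2,
  2, 2, 2, 2, 2, 2, 2, 2, 2, 2, 2, 2, 2, 2, 2, 2, 2, 2, 2, 2, 2, 2, 2, 2, 2, 2, 2, 2, 2, 2, 2, 3, 3, 3, 3, 3,
  3, 3, 3, 3, 3, 3, 3, 3, 3, 3, 3, 3, 3, 3, 3, 3, 3, 3, 3, 3, 3, 3, 3, 3, 3, 3, 3, 4]

/-- the exponents of the weights -/
def ex : Fin 126 → ℕ := ![0, 0, 1, 2, 3, 3, 4, 4, 5, 5, 5, 6, 6, 6, 7, 7, 7, 8, 8, 8, 9, 9, 9, 10, 10, 10,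
  11, 11, 12, 12, 13, 14, 15, 0, 1, 2, 2, 3, 3, 4, 4, 4, 4, 5, 5, 5, 5, 6, 6, 6, 6, 6, 7, 7, 7, 7, 7, 8, 8,
  8, 8, 8, 8, 9, 9, 9, 9, 9, 9, 10, 10, 10, 10, 10, 11, 11, 11, 11, 11, 12, 12, 12, 12, 13, 13, 13, 13, 14,
  14, 15, 15, 16, 17, 0, 1, 2, 3, 3, 4, 4, 5, 5, 5, 6, 6, 6, 7, 7, 7, 8, 8, 8, 9, 9, 9, 10, 10, 10, 11, 11,
  12, 12, 13, 14, 15, 0]

theorem inj : ∀ a b, vecT a = vecT b → a = b := by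
  have h1 : ∀ a b : Fin 126, (∑ i, (![1, 3, 9, 27, 81, 243, 729] : Fin 7 → ℤ) i * vecT a i) = (∑ i, (![1, 3, 9, 27, 81, 243, 729] : Fin 7 → ℤ) i * vecT b i) → a = b :=
    inj_of_nodup (by decide +kernel)
  intro a b hab
  exact h1 a b (by rw [hab])

theorem vaA : ∀ (i : Fin 7) (b : Fin 126), b.val < 92 → refl cE7 i (vecT b) = vecT (actT i b) := by decide +kernel

theorem vaB : ∀ (i : Fin 7) (b : Fin 126), ¬ b.val < 92 → refl cE7 i (vecT b) = vecT (actT i b) := by decide +kernel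

theorem va (i : Fin 7) (b : Fin 126) : refl cE7 i (vecT b) = vecT (actT i b) := by
  by_cases h : b.val < 92
  · exact vaA i b h
  · exact vaB i b h

/-- the table -/
def orb : Orb cE7 0 126 5 where
  vec := vecT
  act := actT
  lv := lvT
  base := ![0, 1, 33, 93, 125]
  dp := ex
  dd := fun _ => 1
  b0 := 0
  wd := ![[], [0], [0, 2, 3, 1, 4, 3, 2, 0], [0, 2, 3, 1, 4, 3, 2, 5, 4, 3, 1, 6, 5, 4, 3, 2, 0], [0, 2, 3, 1, 4, 3, 2, 0, 5, 4, 3, 1, 2, 3, 4, 5, 6, 5, 4, 3, 1, 2, 0, 3, 2, 4, 3, 1, 5, 4, 3, 2, 0]]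
  dd_pos := fun _ => one_pos
  symm := by decide +kernel
  dom := by decide +kernel
  dom0 := by decide +kernel
  domJ := by decide +kernel
  inj := inj
  vec_act := va
  lv_act' := by decide +kernel
  lv_base := by decide +kernel
  down := by decide +kernel
  word := by decide +kernel

/-- level, exponent, sign, level of the image -/
def dat : List (Fin 5 × ℕ × ℕ × Fin 5) := [(0, 0, 1, 1), (1, 0, 2, 0), (1, 1, 0, 1), (1, 2, 0, 1), (1, 3, 0,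
  1), (1, 3, 0, 1), (1, 4, 0, 1), (1, 4, 0, 1), (1, 5, 0, 1), (1, 5, 0, 1), (1, 5, 0, 1), (1, 6, 0, 1), (1,
  6, 0, 1), (1, 6, 1, 2), (1, 7, 0, 1), (1, 7, 0, 1), (1, 7, 1, 2), (1, 8, 0, 1), (1, 8, 1, 2), (1, 8, 1, 2),
  (1, 9, 0, 1), (1, 9, 1, 2), (1, 9, 1, 2), (1, 10, 1, 2), (1, 10, 1, 2), (1, 10, 1, 2), (1, 11, 1, 2), (1,
  11, 1, 2), (1, 12, 1, 2), (1, 12, 1, 2), (1, 13, 1, 2), (1, 14, 1, 2), (1, 15, 1, 3), (2, 0, 2, 1), (2, 1,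
  2, 1), (2, 2, 2, 1), (2, 2, 2, 1), (2, 3, 2, 1), (2, 3, 2, 1), (2, 4, 2, 1), (2, 4, 2, 1), (2, 4, 0, 2),
  (2, 4, 2, 1), (2, 5, 2, 1), (2, 5, 0, 2), (2, 5, 2, 1), (2, 5, 0, 2), (2, 6, 2, 1), (2, 6, 0, 2), (2, 6, 2,
  1), (2, 6, 0, 2), (2, 6, 0, 2), (2, 7, 0, 2), (2, 7, 2, 1), (2, 7, 0, 2), (2, 7, 0, 2), (2, 7, 0, 2), (2,
  8, 0, 2), (2, 8, 2, 1), (2, 8, 0, 2), (2, 8, 0, 2), (2, 8, 0, 2), (2, 8, 0, 2), (2, 9, 0, 2), (2, 9, 0, 2),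
  (2, 9, 0, 2), (2, 9, 0, 2), (2, 9, 1, 3), (2, 9, 0, 2), (2, 10, 0, 2), (2, 10, 0, 2), (2, 10, 0, 2), (2,
  10, 1, 3), (2, 10, 0, 2), (2, 11, 0, 2), (2, 11, 0, 2), (2, 11, 1, 3), (2, 11, 0, 2), (2, 11, 1, 3), (2,
  12, 0, 2), (2, 12, 1, 3), (2, 12, 0, 2), (2, 12, 1, 3), (2, 13, 1, 3), (2, 13, 0, 2), (2, 13, 1, 3), (2,
  13, 1, 3), (2, 14, 1, 3), (2, 14, 1, 3), (2, 15, 1, 3), (2, 15, 1, 3), (2, 16, 1, 3), (2, 17, 1, 3), (3, 0,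
  2, 1), (3, 1, 2, 2), (3, 2, 2, 2), (3, 3, 2, 2), (3, 3, 2, 2), (3, 4, 2, 2), (3, 4, 2, 2), (3, 5, 2, 2),
  (3, 5, 2, 2), (3, 5, 2, 2), (3, 6, 2, 2), (3, 6, 2, 2), (3, 6, 0, 3), (3, 7, 2, 2), (3, 7, 2, 2), (3, 7, 0,
  3), (3, 8, 2, 2), (3, 8, 0, 3), (3, 8, 0, 3), (3, 9, 2, 2), (3, 9, 0, 3), (3, 9, 0, 3), (3, 10, 0, 3), (3,
  10, 0, 3), (3, 10, 0, 3), (3, 11, 0, 3), (3, 11, 0, 3), (3, 12, 0, 3), (3, 12, 0, 3), (3, 13, 0, 3), (3,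
  14, 0, 3), (3, 15, 1, 4), (4, 0, 2, 3)]

theorem dat_eq : datO orb ex = dat := by decide +kernel

theorem ex1 : ∀ k, ex (orb.base k) = 0 := by decide +kernel

theorem ex2 : ∀ j, j ≠ 0 → ∀ b, 0 < pairing cE7 j (orb.vec b) → ex (orb.act j b) = ex b + 1 := by decide +kernel

/-- the eigenvalues -/
def NN : Fin 5 → List ℤ := ![[0, 1, 1, 1, 2, 2, 3, 3, 3, 3, 3, 3, 2, 2, 1, 1, 1], [-1, 0, 0, 0, 1, 1, 2, 2,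
  3, 2, 2, 2, 1, 1], [-1, 0, 0, -1, 0, 0, 1, 1, 1, 1, 1, 1], [-1, 0, 0, -1, 0, -1, 0, 0, 1], [-1, 0, 0, -1,
  0, -1, 0, 0, -1]]

/-- the eigenvectors -/
def UU : Fin 5 → Fin 5 → List ℤ := ![![[1], [1], [1], [1], [1]], ![[0, 0, 0, 0, 0, 0, 0, 0, 0, 1, 0, 0, 0, 0,
  1], [0, 0, 0, 0, 0, 0, 0, 0, -1, 1, 0, 1], [0, 0, 0, 0, 0, -1, 0, 0, 0, 1], [0, 0, 0, -1, 0, -1, 1], [-1,
  0, 0, 0, 0, -1]], ![[0, 0, 0, 0, 0, 0, 0, 0, 0, 0, 0, 0, 0, 0, 1, 0, 2, 0, 3, 1, 3, 2, 2, 3, 1, 3, 0, 2, 0,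
  1], [0, 0, 0, 0, 0, 0, 0, 0, 0, 0, 0, 0, 0, -1, 1, -2, 2, -3, 3, -2, 3, -1, 2, 0, 1], [0, 0, 0, 0, 0, 0, 0,
  0, 0, 1, -1, 1, -2, 0, -1, -1, 0, -2, 1, -1, 1], [0, 0, 0, 0, 0, 1, 0, 2, -1, 3, -2, 3, -3, 2, -2, 1, -1],
  [1, 0, 2, 0, 3, 1, 3, 2, 2, 3, 1, 3, 0, 2, 0, 1]], ![[0, 0, 0, 0, 0, 0, 0, 0, 0, 0, 0, 0, 0, 0, 0, 0, 0, 0,
  1, 1, 0, 1, 2, 2, 1, 1, 2, 2, 1, 0, 1, 1], [0, 0, 0, 0, 0, 0, 0, 0, 0, 0, 0, 0, 0, 0, 0, 0, 0, -1, 0, 1,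
  -1, -1, 0, 1], [0, 0, 0, 0, 0, 0, 0, 0, 0, 0, 0, 0, 0, 1, 0, -1, 1, 0, -1], [0, 0, 0, 0, 0, 0, 0, 0, -1, 0,
  1, 1, -1, 0, 1], [-1, -1, 0, -1, -2, -2, -1, -1, -2, -2, -1, 0, -1, -1]], ![[0, 0, 0, 0, 0, 0, 0, 0, 0, 0,
  0, 0, 0, 0, 0, 0, 0, 0, 1, 2, 3, 4, 5, 5, 5, 5, 4, 3, 2, 1], [0, 0, 0, 0, 0, 0, 0, 0, 0, 0, 0, 0, 0, 0, 0,
  0, 0, -1, -1, -1, -1, -1], [0, 0, 0, 0, 0, 0, 0, 0, 0, 0, 0, 0, 0, 1, 1, 1, 1], [0, 0, 0, 0, 0, 0, 0, 0,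
  -1, -1, -1, -1, -1], [1, 2, 3, 4, 5, 5, 5, 5, 4, 3, 2, 1]]]

theorem check : checkU dat 1 NN UU := by decide +kernel

theorem hz : ∀ k, posL (zk dat k) = true := by decide +kernel

theorem hN : ∀ i j, i < j → posL (addL (NN i) (smL (-1) (NN j))) = true := by decide +kernel

theorem hU0 : ∀ i, posL (UU i 0) = true := by decide +kernel

end E7D6

/-- `E₇`, the parabolic subgroup of type `D₆` -/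
theorem int_E7_D6 (K : Type u) [Field K] [Fintype K]
    [Fintype (PJ CoxeterMatrix.E₇.toCoxeterSystem hpE7.isCartan (TT chevE7 K) (XX chevE7 7 K) {j | j ≠ 0})]
    {χ : ↥((chevE7).group K) → ℂ} (hχ : IsIrrCharacter ↥((chevE7).group K) χ)
    (h0 : ∑ g : PJ CoxeterMatrix.E₇.toCoxeterSystem hpE7.isCartan (TT chevE7 K) (XX chevE7 7 K) {j | j ≠ 0}, χ g ≠ 0)
    (g : ↥((chevE7).group K)) : ∃ k : ℤ, χ g = k :=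
  int_chev hpE7 K isCartan_cE7 E7D6.orb E7D6.ex1 E7D6.ex2 E7D6.dat_eq E7D6.check E7D6.hz E7D6.hN E7D6.hU0 hχ h0 g

end Cfsg.Agent.H498.RP
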