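import Cfsg.Agent.H498.RP.Chev

/-!
# Tables (helper498), generated
-/

set_option autoImplicit false
set_option maxRecDepth 100000
set_option maxHeartbeats 0

open Cfsg

namespace Cfsg.Agent.H498.RP

open Cfsg.Agent.ChevalleyStructure.CoxeterGeom Cfsg.Agent.H35.ExcIdx Cfsg.Lie Cfsg.Agent.Nodes.RGDChev
  Cfsg.Agent.Nodes.LeviDec Cfsg.Agent.ChevalleyStructure.CoxeterGeomTypes

universe u

/-- the Cartan matrix -/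
def cE6 : Fin 6 → Fin 6 → ℤ := ![![2, 0, -1, 0, 0, 0], ![0, 2, 0, -1, 0, 0], ![-1, 0, 2, -1, 0, 0], ![0, -1, -1, 2, -1, 0], ![0, 0, 0, -1, 2, -1], ![0, 0, 0, 0, -1, 2]]

theorem cE6_eq : cartanOf chevE6 6 = cE6 := by
  funext i j
  revert i j
  decide +kernel

theorem isCartan_cE6 : IsCartan CoxeterMatrix.E₆ cE6 := by
  rw [← cE6_eq]
  exact isCartan_E6

namespace E6A5

/-- the vectors -/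
def vecT : Fin 72 → Fin 6 → ℤ := ![![1, 2, 2, 3, 2, 1], ![1, 1, 2, 3, 2, 1], ![1, 1, 2, 2, 2, 1], ![1, 1, 2,
  2, 1, 1], ![1, 1, 1, 2, 2, 1], ![1, 1, 2, 2, 1, 0], ![1, 1, 1, 2, 1, 1], ![0, 1, 1, 2, 2, 1], ![1, 1, 1, 2,
  1, 0], ![1, 1, 1, 1, 1, 1], ![0, 1, 1, 2, 1, 1], ![1, 1, 1, 1, 1, 0], ![0, 1, 1, 2, 1, 0], ![0, 1, 1, 1, 1,
  1], ![1, 1, 1, 1, 0, 0], ![0, 1, 1, 1, 1, 0], ![0, 1, 0, 1, 1, 1], ![0, 1, 1, 1, 0, 0], ![0, 1, 0, 1, 1,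
  0], ![0, 1, 0, 1, 0, 0], ![0, 1, 0, 0, 0, 0], ![1, 0, 1, 1, 1, 1], ![1, 0, 1, 1, 1, 0], ![0, 0, 1, 1, 1,
  1], ![1, 0, 1, 1, 0, 0], ![0, 0, 1, 1, 1, 0], ![0, 0, 0, 1, 1, 1], ![1, 0, 1, 0, 0, 0], ![0, 0, 1, 1, 0,
  0], ![0, 0, 0, 1, 1, 0], ![0, 0, 0, 0, 1, 1], ![1, 0, 0, 0, 0, 0], ![0, 0, 1, 0, 0, 0], ![0, 0, 0, 1, 0,
  0], ![0, 0, 0, 0, 1, 0], ![0, 0, 0, 0, 0, 1], ![0, 0, 0, 0, 0, -1], ![0, 0, 0, 0, -1, 0], ![0, 0, 0, -1, 0,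
  0], ![0, 0, -1, 0, 0, 0], ![-1, 0, 0, 0, 0, 0], ![0, 0, 0, 0, -1, -1], ![0, 0, 0, -1, -1, 0], ![0, 0, -1,
  -1, 0, 0], ![-1, 0, -1, 0, 0, 0], ![0, 0, 0, -1, -1, -1], ![0, 0, -1, -1, -1, 0], ![-1, 0, -1, -1, 0, 0],
  ![0, 0, -1, -1, -1, -1], ![-1, 0, -1, -1, -1, 0], ![-1, 0, -1, -1, -1, -1], ![0, -1, 0, 0, 0, 0], ![0, -1,
  0, -1, 0, 0], ![0, -1, 0, -1, -1, 0], ![0, -1, -1, -1, 0, 0], ![0, -1, 0, -1, -1, -1], ![0, -1, -1, -1, -1,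
  0], ![-1, -1, -1, -1, 0, 0], ![0, -1, -1, -1, -1, -1], ![0, -1, -1, -2, -1, 0], ![-1, -1, -1, -1, -1, 0],
  ![0, -1, -1, -2, -1, -1], ![-1, -1, -1, -1, -1, -1], ![-1, -1, -1, -2, -1, 0], ![0, -1, -1, -2, -2, -1],
  ![-1, -1, -1, -2, -1, -1], ![-1, -1, -2, -2, -1, 0], ![-1, -1, -1, -2, -2, -1], ![-1, -1, -2, -2, -1, -1],
  ![-1, -1, -2, -2, -2, -1], ![-1, -1, -2, -3, -2, -1], ![-1, -2, -2, -3, -2, -1]]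

/-- the action -/
def actT : Fin 6 → Fin 72 → Fin 72 := ![![0, 1, 2, 3, 7, 5, 10, 4, 12, 13, 6, 15, 8, 9, 17, 11, 16, 14, 18,
  19, 20, 23, 25, 21, 28, 22, 26, 32, 24, 29, 30, 40, 27, 33, 34, 35, 36, 37, 38, 44, 31, 41, 42, 47, 39, 45,
  49, 43, 50, 46, 48, 51, 52, 53, 57, 55, 60, 54, 62, 63, 56, 65, 58, 59, 67, 61, 66, 64, 68, 69, 70, 71],
  ![1, 0, 2, 3, 4, 5, 6, 7, 8, 21, 10, 22, 12, 23, 24, 25, 26, 28, 29, 33, 51, 9, 11, 13, 14, 15, 16, 27, 17,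
  18, 30, 31, 32, 19, 34, 35, 36, 37, 52, 39, 40, 41, 53, 54, 44, 55, 56, 57, 58, 60, 62, 20, 38, 42, 43, 45,
  46, 47, 48, 59, 49, 61, 50, 63, 64, 65, 66, 67, 68, 69, 71, 70], ![0, 1, 4, 6, 2, 8, 3, 7, 5, 9, 10, 11,
  12, 16, 14, 18, 13, 19, 15, 17, 20, 21, 22, 26, 24, 29, 23, 31, 33, 25, 30, 27, 39, 28, 34, 35, 36, 37, 43,
  32, 44, 41, 46, 38, 40, 48, 42, 47, 45, 49, 50, 51, 54, 56, 52, 58, 53, 57, 55, 59, 60, 61, 62, 66, 64, 68,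
  63, 69, 65, 67, 70, 71], ![0, 2, 1, 3, 4, 5, 9, 7, 11, 6, 13, 8, 15, 10, 14, 12, 16, 17, 18, 20, 19, 21,
  22, 23, 27, 25, 30, 24, 32, 34, 26, 31, 28, 38, 29, 35, 36, 42, 33, 43, 40, 45, 37, 39, 47, 41, 46, 44, 48,
  49, 50, 52, 51, 53, 54, 55, 59, 57, 61, 56, 63, 58, 65, 60, 64, 62, 66, 67, 68, 70, 69, 71], ![0, 1, 3, 2,
  6, 5, 4, 10, 8, 9, 7, 14, 12, 13, 11, 17, 16, 15, 19, 18, 20, 21, 24, 23, 22, 28, 26, 27, 25, 33, 35, 31,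
  32, 29, 37, 30, 41, 34, 42, 39, 40, 36, 38, 46, 44, 45, 43, 49, 48, 47, 50, 51, 53, 52, 56, 55, 54, 60, 58,
  59, 57, 64, 62, 63, 61, 67, 66, 65, 69, 68, 70, 71], ![0, 1, 2, 5, 4, 3, 8, 7, 6, 11, 12, 9, 10, 15, 14,
  13, 18, 17, 16, 19, 20, 22, 21, 25, 24, 23, 29, 27, 28, 26, 34, 31, 32, 33, 30, 36, 35, 41, 38, 39, 40, 37,
  45, 43, 44, 42, 48, 47, 46, 50, 49, 51, 52, 55, 54, 53, 58, 57, 56, 61, 62, 59, 60, 65, 64, 63, 68, 67, 66,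
  69, 70, 71]]

/-- the levels -/
def lvT : Fin 72 → Fin 5 := ![0, 1, 1, 1, 1, 1, 1, 1, 1, 1, 1, 1, 1, 1, 1, 1, 1, 1, 1, 1, 1, 2, 2, 2, 2, 2,
  2, 2, 2, 2, 2, 2, 2, 2, 2, 2, 2, 2, 2, 2, 2, 2, 2, 2, 2, 2, 2, 2, 2, 2, 2, 3, 3, 3, 3, 3, 3, 3, 3, 3, 3, 3,
  3, 3, 3, 3, 3, 3, 3, 3, 3, 4]

/-- the exponents of the weights -/
def ex : Fin 72 → ℕ := ![0, 0, 1, 2, 2, 3, 3, 3, 4, 4, 4, 5, 5, 5, 6, 6, 6, 7, 7, 8, 9, 0, 1, 1, 2, 2, 2, 3,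
  3, 3, 3, 4, 4, 4, 4, 4, 5, 5, 5, 5, 5, 6, 6, 6, 6, 7, 7, 7, 8, 8, 9, 0, 1, 2, 2, 3, 3, 3, 4, 4, 4, 5, 5, 5,
  6, 6, 6, 7, 7, 8, 9, 0]

theorem inj : ∀ a b, vecT a = vecT b → a = b := by
  have h1 : ∀ a b : Fin 72, (∑ i, (![1, 3, 9, 27, 81, 243] : Fin 6 → ℤ) i * vecT a i) = (∑ i, (![1, 3, 9, 27, 81, 243] : Fin 6 → ℤ) i * vecT b i) → a = b :=
    inj_of_nodup (by decide +kernel)
  intro a b hab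
  exact h1 a b (by rw [hab])

/-- the table -/
def orb : Orb cE6 1 72 5 where
  vec := vecT
  act := actT
  lv := lvT
  base := ![0, 1, 21, 51, 71]
  dp := ex
  dd := fun _ => 1
  b0 := 0
  wd := ![[], [1], [1, 3, 2, 4, 3, 1], [1, 3, 2, 0, 4, 3, 2, 5, 4, 3, 1], [1, 3, 2, 0, 4, 3, 1, 2, 3, 4, 5, 4, 3, 1, 2, 0, 3, 2, 4, 3, 1]]
  dd_pos := fun _ => one_pos
  symm := by decide +kernel
  dom := by decide +kernel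
  dom0 := by decide +kernel
  domJ := by decide +kernel
  inj := inj
  vec_act := by decide +kernel
  lv_act' := by decide +kernel
  lv_base := by decide +kernel
  down := by decide +kernel
  word := by decide +kernel

/-- level, exponent, sign, level of the image -/
def dat : List (Fin 5 × ℕ × ℕ × Fin 5) := [(0, 0, 1, 1), (1, 0, 2, 0), (1, 1, 0, 1), (1, 2, 0, 1), (1, 2, 0,
  1), (1, 3, 0, 1), (1, 3, 0, 1), (1, 3, 0, 1), (1, 4, 0, 1), (1, 4, 1, 2), (1, 4, 0, 1), (1, 5, 1, 2), (1,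
  5, 0, 1), (1, 5, 1, 2), (1, 6, 1, 2), (1, 6, 1, 2), (1, 6, 1, 2), (1, 7, 1, 2), (1, 7, 1, 2), (1, 8, 1, 2),
  (1, 9, 1, 3), (2, 0, 2, 1), (2, 1, 2, 1), (2, 1, 2, 1), (2, 2, 2, 1), (2, 2, 2, 1), (2, 2, 2, 1), (2, 3, 0,
  2), (2, 3, 2, 1), (2, 3, 2, 1), (2, 3, 0, 2), (2, 4, 0, 2), (2, 4, 0, 2), (2, 4, 2, 1), (2, 4, 0, 2), (2,
  4, 0, 2), (2, 5, 0, 2), (2, 5, 0, 2), (2, 5, 1, 3), (2, 5, 0, 2), (2, 5, 0, 2), (2, 6, 0, 2), (2, 6, 1, 3),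
  (2, 6, 1, 3), (2, 6, 0, 2), (2, 7, 1, 3), (2, 7, 1, 3), (2, 7, 1, 3), (2, 8, 1, 3), (2, 8, 1, 3), (2, 9, 1,
  3), (3, 0, 2, 1), (3, 1, 2, 2), (3, 2, 2, 2), (3, 2, 2, 2), (3, 3, 2, 2), (3, 3, 2, 2), (3, 3, 2, 2), (3,
  4, 2, 2), (3, 4, 0, 3), (3, 4, 2, 2), (3, 5, 0, 3), (3, 5, 2, 2), (3, 5, 0, 3), (3, 6, 0, 3), (3, 6, 0, 3),
  (3, 6, 0, 3), (3, 7, 0, 3), (3, 7, 0, 3), (3, 8, 0, 3), (3, 9, 1, 4), (4, 0, 2, 3)]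

theorem dat_eq : datO orb ex = dat := by decide +kernel

theorem ex1 : ∀ k, ex (orb.base k) = 0 := by decide +kernel

theorem ex2 : ∀ j, j ≠ 1 → ∀ b, 0 < pairing cE6 j (orb.vec b) → ex (orb.act j b) = ex b + 1 := by decide +kernel

/-- the eigenvalues -/
def NN : Fin 5 → List ℤ := ![[0, 1, 1, 2, 3, 3, 3, 3, 2, 1, 1], [-1, 0, 0, 1, 2, 3, 2, 2, 1], [-1, 0, -1, 0,
  1, 1, 1, 1], [-1, 0, -1, -1, 0, 1], [-1, 0, -1, -1, 0, -1]]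

/-- the eigenvectors -/
def UU : Fin 5 → Fin 5 → List ℤ := ![![[1], [1], [1], [1], [1]], ![[0, 0, 0, 0, 0, 0, 1, 0, 0, 1], [0, 0, 0,
  0, 0, -1, 1, 1], [0, 0, 0, -1, 0, 0, 1], [0, 0, -1, -1, 1], [-1, 0, 0, -1]], ![[0, 0, 0, 0, 0, 0, 0, 0, 0,
  1, 1, 1, 2, 2, 1, 1, 1], [0, 0, 0, 0, 0, 0, 0, 0, -1, 0, 0, 0, 1, 1], [0, 0, 0, 0, 0, 1, -1, -1, 0, -1, -1,
  1], [0, 0, 0, 1, 1, 0, 0, 0, -1], [1, 1, 1, 2, 2, 1, 1, 1]], ![[0, 0, 0, 0, 0, 0, 0, 0, 0, 0, 0, 0, 1, 1,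
  2, 3, 3, 3, 3, 2, 1, 1], [0, 0, 0, 0, 0, 0, 0, 0, 0, 0, 0, -1, 0, -1, -1, 0, 1], [0, 0, 0, 0, 0, 0, 0, 0,
  1, 0, 1, -1, 0, -1], [0, 0, 0, 0, 0, -1, 0, 1, 1, 0, 1], [-1, -1, -2, -3, -3, -3, -3, -2, -1, -1]], ![[0,
  0, 0, 0, 0, 0, 0, 0, 0, 0, 0, 0, 1, 1, 1, 1, 1], [0, 0, 0, 0, 0, 0, 0, 0, 0, 0, 0, -1], [0, 0, 0, 0, 0, 0,
  0, 0, 1], [0, 0, 0, 0, 0, -1], [1, 1, 1, 1, 1]]]

theorem check : checkU dat 1 NN UU := by decide +kernel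

theorem hz : ∀ k, posL (zk dat k) = true := by decide +kernel

theorem hN : ∀ i j, i < j → posL (addL (NN i) (smL (-1) (NN j))) = true := by decide +kernel

theorem hU0 : ∀ i, posL (UU i 0) = true := by decide +kernel

end E6A5

/-- `E₆`, the parabolic subgroup of type `A₅` -/
theorem int_E6_A5 (K : Type u) [Field K] [Fintype K]
    [Fintype (PJ CoxeterMatrix.E₆.toCoxeterSystem hpE6.isCartan (TT chevE6 K) (XX chevE6 6 K) {j | j ≠ 1})]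
    {χ : ↥((chevE6).group K) → ℂ} (hχ : IsIrrCharacter ↥((chevE6).group K) χ)
    (h0 : ∑ g : PJ CoxeterMatrix.E₆.toCoxeterSystem hpE6.isCartan (TT chevE6 K) (XX chevE6 6 K) {j | j ≠ 1}, χ g ≠ 0)
    (g : ↥((chevE6).group K)) : ∃ k : ℤ, χ g = k :=
  int_chev hpE6 K isCartan_cE6 E6A5.orb E6A5.ex1 E6A5.ex2 E6A5.dat_eq E6A5.check E6A5.hz E6A5.hN E6A5.hU0 hχ h0 g

end Cfsg.Agent.H498.RP
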