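import Cfsg.Agent.H498.RP.E7D6

/-!
# Tables (helper498), generated
-/

set_option autoImplicit false
set_option maxRecDepth 100000
set_option maxHeartbeats 0

open Cfsg

namespace Cfsg.Agent.H498.RP

open Cfsg.Agent.ChevalleyStructure.CoxeterGeom Cfsg.Agent.H35.ExcIdx Cfsg.Lie Cfsg.Agent.Nodes.RGDChev
  Cfsg.Agent.Nodes.LeviDec Cfsg.Agent.ChevalleyStructure.CoxeterGeomTypes

universe u

namespace E7E6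

/-- the vectors -/
def vecT : Fin 56 → Fin 7 → ℤ := ![![2, 3, 4, 6, 5, 4, 3], ![2, 3, 4, 6, 5, 4, 1], ![2, 3, 4, 6, 5, 2, 1],
  ![2, 3, 4, 6, 3, 2, 1], ![2, 3, 4, 4, 3, 2, 1], ![2, 3, 2, 4, 3, 2, 1], ![2, 1, 4, 4, 3, 2, 1], ![2, 1, 2,
  4, 3, 2, 1], ![0, 3, 2, 4, 3, 2, 1], ![2, 1, 2, 2, 3, 2, 1], ![0, 1, 2, 4, 3, 2, 1], ![2, 1, 2, 2, 1, 2,
  1], ![0, 1, 2, 2, 3, 2, 1], ![2, 1, 2, 2, 1, 0, 1], ![0, 1, 2, 2, 1, 2, 1], ![0, 1, 0, 2, 3, 2, 1], ![0, 1,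
  2, 2, 1, 0, 1], ![0, 1, 0, 2, 1, 2, 1], ![0, 1, 0, 2, 1, 0, 1], ![0, 1, 0, 0, 1, 2, 1], ![0, 1, 0, 0, 1, 0,
  1], ![0, -1, 0, 0, 1, 2, 1], ![0, 1, 0, 0, -1, 0, 1], ![0, -1, 0, 0, 1, 0, 1], ![0, -1, 0, 0, -1, 0, 1],
  ![0, -1, 0, -2, -1, 0, 1], ![0, -1, -2, -2, -1, 0, 1], ![-2, -1, -2, -2, -1, 0, 1], ![2, 1, 2, 2, 1, 0,
  -1], ![0, 1, 2, 2, 1, 0, -1], ![0, 1, 0, 2, 1, 0, -1], ![0, 1, 0, 0, 1, 0, -1], ![0, 1, 0, 0, -1, 0, -1],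
  ![0, -1, 0, 0, 1, 0, -1], ![0, 1, 0, 0, -1, -2, -1], ![0, -1, 0, 0, -1, 0, -1], ![0, -1, 0, 0, -1, -2, -1],
  ![0, -1, 0, -2, -1, 0, -1], ![0, -1, 0, -2, -1, -2, -1], ![0, -1, -2, -2, -1, 0, -1], ![0, -1, 0, -2, -3,
  -2, -1], ![0, -1, -2, -2, -1, -2, -1], ![-2, -1, -2, -2, -1, 0, -1], ![0, -1, -2, -2, -3, -2, -1], ![-2,
  -1, -2, -2, -1, -2, -1], ![0, -1, -2, -4, -3, -2, -1], ![-2, -1, -2, -2, -3, -2, -1], ![0, -3, -2, -4, -3,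
  -2, -1], ![-2, -1, -2, -4, -3, -2, -1], ![-2, -1, -4, -4, -3, -2, -1], ![-2, -3, -2, -4, -3, -2, -1], ![-2,
  -3, -4, -4, -3, -2, -1], ![-2, -3, -4, -6, -3, -2, -1], ![-2, -3, -4, -6, -5, -2, -1], ![-2, -3, -4, -6,
  -5, -4, -1], ![-2, -3, -4, -6, -5, -4, -3]]

/-- the action -/
def actT : Fin 7 → Fin 56 → Fin 56 := ![![0, 1, 2, 3, 4, 8, 6, 10, 5, 12, 7, 14, 9, 16, 11, 15, 13, 17, 18,
  19, 20, 21, 22, 23, 24, 25, 27, 26, 29, 28, 30, 31, 32, 33, 34, 35, 36, 37, 38, 42, 40, 44, 39, 46, 41, 48,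
  43, 50, 45, 49, 47, 51, 52, 53, 54, 55], ![0, 1, 2, 3, 6, 7, 4, 5, 10, 9, 8, 11, 12, 13, 14, 15, 16, 17,
  18, 21, 23, 19, 24, 20, 22, 25, 26, 27, 28, 29, 30, 33, 35, 31, 36, 32, 34, 37, 38, 39, 40, 41, 42, 43, 44,
  47, 46, 45, 50, 51, 48, 49, 52, 53, 54, 55], ![0, 1, 2, 3, 5, 4, 7, 6, 8, 9, 10, 11, 15, 13, 17, 12, 18,
  14, 16, 19, 20, 21, 22, 23, 24, 26, 25, 27, 28, 30, 29, 31, 32, 33, 34, 35, 36, 39, 41, 37, 43, 38, 42, 40,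
  44, 45, 46, 47, 49, 48, 51, 50, 52, 53, 54, 55], ![0, 1, 2, 4, 3, 5, 6, 9, 8, 7, 12, 11, 10, 13, 14, 15,
  16, 19, 20, 17, 18, 21, 22, 23, 25, 24, 26, 27, 28, 29, 31, 30, 32, 33, 34, 37, 38, 35, 36, 39, 40, 41, 42,
  45, 44, 43, 48, 47, 46, 49, 50, 52, 51, 53, 54, 55], ![0, 1, 3, 2, 4, 5, 6, 7, 8, 11, 10, 9, 14, 13, 12,
  17, 16, 15, 18, 19, 22, 21, 20, 24, 23, 25, 26, 27, 28, 29, 30, 32, 31, 35, 34, 33, 36, 37, 40, 39, 38, 43,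
  42, 41, 46, 45, 44, 47, 48, 49, 50, 51, 53, 52, 54, 55], ![0, 2, 1, 3, 4, 5, 6, 7, 8, 9, 10, 13, 12, 11,
  16, 15, 14, 18, 17, 20, 19, 23, 22, 21, 24, 25, 26, 27, 28, 29, 30, 31, 34, 33, 32, 36, 35, 38, 37, 41, 40,
  39, 44, 43, 42, 45, 46, 47, 48, 49, 50, 51, 52, 54, 53, 55], ![1, 0, 2, 3, 4, 5, 6, 7, 8, 9, 10, 11, 12,
  28, 14, 15, 29, 17, 30, 19, 31, 21, 32, 33, 35, 37, 39, 42, 13, 16, 18, 20, 22, 23, 34, 24, 36, 25, 38, 26,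
  40, 41, 27, 43, 44, 45, 46, 47, 48, 49, 50, 51, 52, 53, 55, 54]]

/-- the levels -/
def lvT : Fin 56 → Fin 4 := ![0, 1, 1, 1, 1, 1, 1, 1, 1, 1, 1, 1, 1, 1, 1, 1, 1, 1, 1, 1, 1, 1, 1, 1, 1, 1,
  1, 1, 2, 2, 2, 2, 2, 2, 2, 2, 2, 2, 2, 2, 2, 2, 2, 2, 2, 2, 2, 2, 2, 2, 2, 2, 2, 2, 2, 3]

/-- the exponents of the weights -/
def ex : Fin 56 → ℕ := ![0, 0, 1, 2, 3, 4, 4, 5, 5, 6, 6, 7, 7, 8, 8, 8, 9, 9, 10, 10, 11, 11, 12, 12, 13,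
  14, 15, 16, 0, 1, 2, 3, 4, 4, 5, 5, 6, 6, 7, 7, 8, 8, 8, 9, 9, 10, 10, 11, 11, 12, 12, 13, 14, 15, 16, 0]

theorem inj : ∀ a b, vecT a = vecT b → a = b := by
  have h1 : ∀ a b : Fin 56, (∑ i, (![1, 3, 9, 27, 81, 243, 729] : Fin 7 → ℤ) i * vecT a i) = (∑ i, (![1, 3, 9, 27, 81, 243, 729] : Fin 7 → ℤ) i * vecT b i) → a = b :=
    inj_of_nodup (by decide +kernel)
  intro a b hab
  exact h1 a b (by rw [hab])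

/-- the table -/
def orb : Orb cE7 6 56 4 where
  vec := vecT
  act := actT
  lv := lvT
  base := ![0, 1, 28, 55]
  dp := ex
  dd := fun _ => 1
  b0 := 0
  wd := ![[], [6], [6, 5, 4, 3, 1, 2, 3, 4, 5, 6], [6, 5, 4, 3, 1, 2, 0, 3, 2, 4, 3, 1, 5, 4, 3, 2, 0, 6, 5, 4, 3, 1, 2, 3, 4, 5, 6]]
  dd_pos := fun _ => one_pos
  symm := by decide +kernel
  dom := by decide +kernel
  dom0 := by decide +kernel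
  domJ := by decide +kernel
  inj := inj
  vec_act := by decide +kernel
  lv_act' := by decide +kernel
  lv_base := by decide +kernel
  down := by decide +kernel
  word := by decide +kernel

/-- level, exponent, sign, level of the image -/
def dat : List (Fin 4 × ℕ × ℕ × Fin 4) := [(0, 0, 1, 1), (1, 0, 2, 0), (1, 1, 0, 1), (1, 2, 0, 1), (1, 3, 0,
  1), (1, 4, 0, 1), (1, 4, 0, 1), (1, 5, 0, 1), (1, 5, 0, 1), (1, 6, 0, 1), (1, 6, 0, 1), (1, 7, 0, 1), (1,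
  7, 0, 1), (1, 8, 1, 2), (1, 8, 0, 1), (1, 8, 0, 1), (1, 9, 1, 2), (1, 9, 0, 1), (1, 10, 1, 2), (1, 10, 0,
  1), (1, 11, 1, 2), (1, 11, 0, 1), (1, 12, 1, 2), (1, 12, 1, 2), (1, 13, 1, 2), (1, 14, 1, 2), (1, 15, 1,
  2), (1, 16, 1, 2), (2, 0, 2, 1), (2, 1, 2, 1), (2, 2, 2, 1), (2, 3, 2, 1), (2, 4, 2, 1), (2, 4, 2, 1), (2,
  5, 0, 2), (2, 5, 2, 1), (2, 6, 0, 2), (2, 6, 2, 1), (2, 7, 0, 2), (2, 7, 2, 1), (2, 8, 0, 2), (2, 8, 0, 2),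
  (2, 8, 2, 1), (2, 9, 0, 2), (2, 9, 0, 2), (2, 10, 0, 2), (2, 10, 0, 2), (2, 11, 0, 2), (2, 11, 0, 2), (2,
  12, 0, 2), (2, 12, 0, 2), (2, 13, 0, 2), (2, 14, 0, 2), (2, 15, 0, 2), (2, 16, 1, 3), (3, 0, 2, 2)]

theorem dat_eq : datO orb ex = dat := by decide +kernel

theorem ex1 : ∀ k, ex (orb.base k) = 0 := by decide +kernel

theorem ex2 : ∀ j, j ≠ 6 → ∀ b, 0 < pairing cE7 j (orb.vec b) → ex (orb.act j b) = ex b + 1 := by decide +kernel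

/-- the eigenvalues -/
def NN : Fin 4 → List ℤ := ![[0, 1, 1, 1, 1, 2, 2, 2, 2, 3, 2, 2, 2, 2, 1, 1, 1, 1], [-1, 0, 0, 0, 0, 1, 1,
  1, 1, 2, 1, 1, 1, 1], [-1, 0, 0, 0, -1, 0, 0, 0, 0, 1], [-1, 0, 0, 0, -1, 0, 0, 0, -1]]

/-- the eigenvectors -/
def UU : Fin 4 → Fin 4 → List ℤ := ![![[1], [1], [1], [1]], ![[0, 0, 0, 0, 0, 0, 0, 0, 0, 1, 1, 0, -1, 0, 1,
  1], [0, 0, 0, 0, 0, 0, 0, 0, -1, 0, 1, 1], [0, 0, 0, 0, -1, -1, 0, 1], [-1, -1, 0, 1, 0, -1, -1]], ![[0, 0,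
  0, 0, 0, 0, 0, 0, 0, 0, 0, 0, 0, 0, 1, 1, 1, 1, 2, 2, 2, 2, 3, 2, 2, 2, 2, 1, 1, 1, 1], [0, 0, 0, 0, 0, 0,
  0, 0, 0, 0, 0, 0, 0, -1, 0, 0, 0, -1, 0, 0, 0, 0, 1], [0, 0, 0, 0, 0, 0, 0, 0, 1, 0, 0, 0, 0, -1, 0, 0, 0,
  -1], [1, 1, 1, 1, 2, 2, 2, 2, 3, 2, 2, 2, 2, 1, 1, 1, 1]], ![[0, 0, 0, 0, 0, 0, 0, 0, 0, 0, 0, 0, 0, 0, 0,
  1, 1, 1, 1, 1, 1, 1, 1, 1], [0, 0, 0, 0, 0, 0, 0, 0, 0, 0, 0, 0, 0, 0, -1], [0, 0, 0, 0, 0, 0, 0, 0, 0, 1],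
  [-1, -1, -1, -1, -1, -1, -1, -1, -1]]]

theorem check : checkU dat 1 NN UU := by decide +kernel

theorem hz : ∀ k, posL (zk dat k) = true := by decide +kernel

theorem hN : ∀ i j, i < j → posL (addL (NN i) (smL (-1) (NN j))) = true := by decide +kernel

theorem hU0 : ∀ i, posL (UU i 0) = true := by decide +kernel

end E7E6

/-- `E₇`, the parabolic subgroup of type `E₆` -/
theorem int_E7_E6 (K : Type u) [Field K] [Fintype K]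
    [Fintype (PJ CoxeterMatrix.E₇.toCoxeterSystem hpE7.isCartan (TT chevE7 K) (XX chevE7 7 K) {j | j ≠ 6})]
    {χ : ↥((chevE7).group K) → ℂ} (hχ : IsIrrCharacter ↥((chevE7).group K) χ)
    (h0 : ∑ g : PJ CoxeterMatrix.E₇.toCoxeterSystem hpE7.isCartan (TT chevE7 K) (XX chevE7 7 K) {j | j ≠ 6}, χ g ≠ 0)
    (g : ↥((chevE7).group K)) : ∃ k : ℤ, χ g = k :=
  int_chev hpE7 K isCartan_cE7 E7E6.orb E7E6.ex1 E7E6.ex2 E7E6.dat_eq E7E6.check E7E6.hz E7E6.hN E7E6.hU0 hχ h0 g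

end Cfsg.Agent.H498.RP
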