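import Cfsg.Agent.H498.RP.ChevK
import Cfsg.Agent.H498.RP.E7D6

/-!
# Tables (helper498), generated
-/

set_option autoImplicit false
set_option maxRecDepth 100000
set_option maxHeartbeats 0

open Cfsg

namespace Cfsg.Agent.H498.RP

open Cfsg.Agent.ChevalleyStructure.CoxeterGeom Cfsg.Agent.H35.ExcIdx Cfsg.Lie Cfsg.Agent.Nodes.RGDChev
  Cfsg.Agent.Nodes.LeviDec Cfsg.Agent.ChevalleyStructure.CoxeterGeomTypes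

universe u

namespace E7D6K

/-- the table: vector, images, level, exponent -/
def T : BT Rw := .nd (.nd (.nd (.nd (.nd (.nd (.nd (.lf ⟨[-2, -2, -3, -4, -3, -2, -1], [1, 0, 0, 0, 0, 0, 0],
  4, 0⟩) (.lf ⟨[0, 1, 0, 0, 0, 0, 0], [64, 61, 64, 68, 64, 64, 64], 2, 8⟩)) (.nd (.lf ⟨[-1, -1, -2, -2, -1,
  -1, 0], [32, 32, 33, 32, 29, 43, 15], 3, 7⟩) (.lf ⟨[1, 1, 2, 2, 2, 1, 0], [96, 96, 95, 97, 93, 96, 113], 1,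
  7⟩))) (.nd (.nd (.lf ⟨[-1, -1, -1, -2, -1, -1, -1], [17, 16, 15, 18, 13, 16, 33], 3, 7⟩) (.lf ⟨[0, 1, 1, 2,
  1, 0, 0], [81, 80, 80, 78, 80, 91, 80], 2, 4⟩)) (.nd (.lf ⟨[-1, 0, -1, -1, -1, 0, 0], [49, 46, 48, 48, 55,
  37, 48], 3, 3⟩) (.lf ⟨[1, 1, 1, 2, 2, 1, 1], [111, 112, 113, 112, 109, 117, 95], 1, 7⟩)))) (.nd (.nd (.nd
  (.lf ⟨[-1, -1, -1, -2, -2, -2, -1], [9, 8, 7, 8, 8, 13, 8], 3, 9⟩) (.lf ⟨[1, 1, 1, 1, 0, 0, 0], [71, 70,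
  72, 72, 79, 72, 72], 1, 12⟩)) (.nd (.lf ⟨[0, 0, 0, -1, -1, -1, 0], [40, 39, 38, 41, 40, 51, 23], 2, 11⟩)
  (.lf ⟨[0, 0, 1, 1, 1, 1, 1], [105, 106, 102, 104, 104, 104, 87], 2, 4⟩))) (.nd (.nd (.lf ⟨[0, 0, 0, 0, -1,
  -1, -1], [24, 24, 24, 23, 25, 24, 41], 2, 11⟩) (.lf ⟨[1, 0, 1, 1, 1, 1, 0], [87, 90, 88, 88, 88, 77, 105],
  1, 11⟩)) (.nd (.lf ⟨[0, 0, -1, -1, 0, 0, 0], [55, 54, 58, 60, 49, 56, 56], 2, 10⟩) (.lf ⟨[1, 2, 2, 3, 2, 2,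
  1], [120, 119, 120, 120, 122, 115, 120], 1, 3⟩))))) (.nd (.nd (.nd (.nd (.lf ⟨[-1, -1, -2, -3, -3, -2, -1],
  [4, 3, 4, 4, 6, 4, 4], 3, 12⟩) (.lf ⟨[0, 1, 0, 1, 0, 0, 0], [68, 67, 71, 64, 75, 68, 68], 2, 7⟩)) (.nd (.lf
  ⟨[0, -1, -1, -1, -1, -1, 0], [35, 38, 39, 34, 36, 47, 19], 2, 13⟩) (.lf ⟨[0, 0, 0, 0, 0, 1, 1], [100, 100,
  100, 100, 101, 99, 83], 2, 7⟩))) (.nd (.nd (.lf ⟨[-1, 0, -1, -1, -1, -1, -1], [21, 18, 20, 20, 20, 20, 37],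
  3, 5⟩) (.lf ⟨[0, 0, 0, 0, 1, 1, 0], [84, 84, 84, 85, 83, 73, 101], 2, 7⟩)) (.nd (.lf ⟨[0, 0, 0, 0, -1, 0,
  0], [52, 52, 52, 51, 73, 41, 52], 2, 9⟩) (.lf ⟨[0, 1, 1, 2, 2, 2, 1], [117, 116, 116, 116, 116, 111, 116],
  2, 0⟩)))) (.nd (.nd (.nd (.lf ⟨[-1, -1, -2, -2, -2, -1, -1], [12, 12, 13, 11, 15, 7, 29], 3, 9⟩) (.lf ⟨[0,
  0, 1, 1, 1, 0, 0], [77, 78, 74, 76, 69, 87, 76], 2, 6⟩)) (.nd (.lf ⟨[-1, -1, -1, -2, -1, 0, 0], [45, 44,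
  43, 46, 44, 33, 44], 3, 5⟩) (.lf ⟨[0, 1, 1, 2, 1, 1, 1], [109, 108, 108, 106, 111, 108, 91], 2, 2⟩))) (.nd
  (.nd (.lf ⟨[-1, -1, -2, -3, -2, -1, 0], [28, 27, 28, 29, 28, 28, 11], 3, 9⟩) (.lf ⟨[1, 1, 1, 2, 1, 1, 0],
  [91, 92, 93, 90, 95, 81, 109], 1, 9⟩)) (.nd (.lf ⟨[0, 0, -1, 0, 0, 0, 0], [59, 60, 65, 56, 60, 60, 60], 2,
  9⟩) (.lf ⟨[1, 2, 3, 4, 3, 2, 1], [125, 124, 123, 124, 124, 124, 124], 1, 0⟩)))))) (.nd (.nd (.nd (.nd (.nd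
  (.lf ⟨[-1, -2, -2, -4, -3, -2, -1], [2, 2, 1, 3, 2, 2, 2], 3, 14⟩) (.lf ⟨[1, 0, 1, 0, 0, 0, 0], [65, 66,
  63, 70, 66, 66, 66], 1, 14⟩)) (.nd (.lf ⟨[0, -1, -1, -2, -1, -1, 0], [33, 34, 34, 36, 31, 45, 17], 2, 14⟩)
  (.lf ⟨[1, 2, 2, 3, 2, 1, 0], [98, 97, 98, 98, 98, 98, 115], 1, 5⟩))) (.nd (.nd (.lf ⟨[-1, -1, -1, -1, -1,
  -1, -1], [19, 20, 18, 16, 18, 18, 35], 3, 6⟩) (.lf ⟨[1, 1, 2, 2, 1, 0, 0], [82, 82, 81, 82, 82, 93, 82], 1,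
  9⟩)) (.nd (.lf ⟨[0, -1, 0, -1, -1, 0, 0], [50, 51, 47, 50, 57, 39, 50], 2, 11⟩) (.lf ⟨[1, 1, 2, 3, 2, 1,
  1], [114, 115, 114, 113, 114, 119, 97], 1, 5⟩)))) (.nd (.nd (.nd (.lf ⟨[-1, -2, -2, -3, -2, -1, -1], [10,
  11, 10, 10, 10, 5, 27], 3, 11⟩) (.lf ⟨[0, 0, 0, 1, 1, 0, 0], [74, 75, 76, 73, 67, 85, 74], 2, 7⟩)) (.nd
  (.lf ⟨[0, 0, 0, 0, 0, -1, 0], [42, 42, 42, 42, 41, 83, 25], 2, 9⟩) (.lf ⟨[0, 1, 1, 1, 1, 1, 1], [107, 104,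
  103, 108, 106, 106, 89], 2, 3⟩))) (.nd (.nd (.lf ⟨[0, 0, 0, 0, 0, 0, -1], [26, 26, 26, 26, 26, 25, 99], 2,
  9⟩) (.lf ⟨[1, 1, 1, 1, 1, 1, 0], [89, 88, 90, 92, 90, 79, 107], 1, 10⟩)) (.nd (.lf ⟨[0, 0, 0, -1, 0, 0, 0],
  [58, 57, 56, 67, 51, 58, 58], 2, 9⟩) (.lf ⟨[1, 2, 2, 3, 3, 2, 1], [122, 121, 122, 123, 120, 122, 122], 1,
  2⟩))))) (.nd (.nd (.nd (.nd (.lf ⟨[-1, -1, -2, -3, -2, -2, -1], [6, 5, 6, 7, 4, 11, 6], 3, 11⟩) (.lf ⟨[1,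
  0, 1, 1, 0, 0, 0], [69, 72, 70, 66, 77, 70, 70], 1, 13⟩)) (.nd (.lf ⟨[0, 0, -1, -1, -1, -1, 0], [37, 36,
  40, 38, 38, 49, 21], 2, 12⟩) (.lf ⟨[0, 0, 0, 1, 1, 1, 1], [102, 103, 104, 101, 102, 102, 85], 2, 5⟩))) (.nd
  (.nd (.lf ⟨[0, -1, 0, -1, -1, -1, -1], [22, 23, 19, 22, 22, 22, 39], 2, 13⟩) (.lf ⟨[0, 1, 0, 1, 1, 1, 0],
  [86, 85, 89, 86, 86, 75, 103], 2, 5⟩)) (.nd (.lf ⟨[0, -1, -1, -1, 0, 0, 0], [53, 56, 57, 54, 47, 54, 54],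
  2, 11⟩) (.lf ⟨[1, 1, 2, 2, 2, 2, 1], [118, 118, 117, 119, 118, 113, 118], 1, 5⟩)))) (.nd (.nd (.nd (.lf
  ⟨[0, -1, -1, -2, -2, -1, -1], [13, 14, 14, 14, 17, 9, 31], 2, 16⟩) (.lf ⟨[0, 1, 1, 1, 1, 0, 0], [79, 76,
  75, 80, 71, 89, 78], 2, 5⟩)) (.nd (.lf ⟨[-1, -1, -1, -1, -1, 0, 0], [47, 48, 46, 44, 53, 35, 46], 3, 4⟩)
  (.lf ⟨[1, 1, 2, 2, 1, 1, 1], [110, 110, 109, 110, 113, 110, 93], 1, 7⟩))) (.nd (.nd (.lf ⟨[-1, -1, -1, -2,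
  -2, -1, 0], [31, 30, 29, 30, 33, 30, 13], 3, 7⟩) (.lf ⟨[0, 1, 1, 2, 2, 1, 0], [95, 94, 94, 94, 91, 94,
  111], 2, 2⟩)) (.lf ⟨[-1, 0, 0, 0, 0, 0, 0], [63, 62, 59, 62, 62, 62, 62], 3, 0⟩)))))) (.nd (.nd (.nd (.nd
  (.nd (.nd (.lf ⟨[-1, -2, -3, -4, -3, -2, -1], [0, 1, 2, 1, 1, 1, 1], 3, 15⟩) (.lf ⟨[0, 0, 1, 0, 0, 0, 0],
  [66, 65, 60, 69, 65, 65, 65], 2, 8⟩)) (.nd (.lf ⟨[-1, -1, -1, -2, -1, -1, 0], [34, 33, 32, 35, 30, 44, 16],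
  3, 6⟩) (.lf ⟨[1, 1, 2, 3, 2, 1, 0], [97, 98, 97, 96, 97, 97, 114], 1, 6⟩))) (.nd (.nd (.lf ⟨[0, -1, -1, -2,
  -1, -1, -1], [16, 17, 17, 19, 14, 17, 34], 2, 15⟩) (.lf ⟨[1, 1, 1, 2, 1, 0, 0], [80, 81, 82, 79, 81, 92,
  81], 1, 10⟩)) (.nd (.lf ⟨[0, 0, -1, -1, -1, 0, 0], [48, 47, 51, 49, 56, 38, 49], 2, 11⟩) (.lf ⟨[1, 1, 2, 2,
  2, 1, 1], [113, 113, 112, 114, 110, 118, 96], 1, 6⟩)))) (.nd (.nd (.nd (.lf ⟨[0, -1, -1, -2, -2, -2, -1],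
  [8, 9, 9, 9, 9, 14, 9], 2, 17⟩) (.lf ⟨[0, 0, 0, 0, 1, 0, 0], [73, 73, 73, 74, 52, 84, 73], 2, 8⟩)) (.nd
  (.lf ⟨[0, 0, 0, 0, -1, -1, 0], [41, 41, 41, 40, 42, 52, 24], 2, 10⟩) (.lf ⟨[1, 0, 1, 1, 1, 1, 1], [104,
  107, 105, 105, 105, 105, 88], 1, 10⟩))) (.nd (.nd (.lf ⟨[0, 0, 0, 0, 0, -1, -1], [25, 25, 25, 25, 24, 26,
  42], 2, 10⟩) (.lf ⟨[0, 1, 1, 1, 1, 1, 0], [90, 87, 86, 91, 89, 78, 106], 2, 4⟩)) (.nd (.lf ⟨[0, -1, 0, -1,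
  0, 0, 0], [57, 58, 54, 61, 50, 57, 57], 2, 10⟩) (.lf ⟨[1, 1, 2, 3, 3, 2, 1], [121, 122, 121, 121, 119, 121,
  121], 1, 3⟩))))) (.nd (.nd (.nd (.nd (.lf ⟨[-1, -2, -2, -3, -2, -2, -1], [5, 6, 5, 5, 3, 10, 5], 3, 12⟩)
  (.lf ⟨[0, 0, 1, 1, 0, 0, 0], [70, 71, 67, 65, 76, 69, 69], 2, 7⟩)) (.nd (.lf ⟨[-1, 0, -1, -1, -1, -1, 0],
  [38, 35, 37, 37, 37, 48, 20], 3, 4⟩) (.lf ⟨[0, 0, 0, 0, 1, 1, 1], [101, 101, 101, 102, 100, 101, 84], 2,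
  6⟩))) (.nd (.nd (.lf ⟨[0, 0, -1, -1, -1, -1, -1], [20, 19, 23, 21, 21, 21, 38], 2, 13⟩) (.lf ⟨[0, 0, 0, 1,
  1, 1, 0], [85, 86, 87, 84, 85, 74, 102], 2, 6⟩)) (.nd (.lf ⟨[-1, -1, -1, -1, 0, 0, 0], [54, 55, 53, 53, 46,
  53, 53], 3, 3⟩) (.lf ⟨[1, 1, 1, 2, 2, 2, 1], [116, 117, 118, 117, 117, 112, 117], 1, 6⟩)))) (.nd (.nd (.nd
  (.lf ⟨[-1, -1, -1, -2, -2, -1, -1], [14, 13, 12, 13, 16, 8, 30], 3, 8⟩) (.lf ⟨[1, 0, 1, 1, 1, 0, 0], [76,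
  79, 77, 77, 70, 88, 77], 1, 12⟩)) (.nd (.lf ⟨[0, -1, -1, -2, -1, 0, 0], [44, 45, 45, 47, 45, 34, 45], 2,
  13⟩) (.lf ⟨[1, 1, 1, 2, 1, 1, 1], [108, 109, 110, 107, 112, 109, 92], 1, 8⟩))) (.nd (.nd (.lf ⟨[-1, -1, -2,
  -2, -2, -1, 0], [29, 29, 30, 28, 32, 29, 12], 3, 8⟩) (.lf ⟨[1, 1, 2, 2, 1, 1, 0], [93, 93, 92, 93, 96, 82,
  110], 1, 8⟩)) (.nd (.lf ⟨[0, -1, 0, 0, 0, 0, 0], [61, 64, 61, 57, 61, 61, 61], 2, 9⟩) (.lf ⟨[2, 2, 3, 4, 3,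
  2, 1], [124, 125, 125, 125, 125, 125, 125], 0, 0⟩)))))) (.nd (.nd (.nd (.nd (.nd (.lf ⟨[-1, -2, -2, -3, -3,
  -2, -1], [3, 4, 3, 2, 5, 3, 3], 3, 13⟩) (.lf ⟨[0, 0, 0, 1, 0, 0, 0], [67, 68, 69, 58, 74, 67, 67], 2, 8⟩))
  (.nd (.lf ⟨[-1, -1, -1, -1, -1, -1, 0], [36, 37, 35, 33, 35, 46, 18], 3, 5⟩) (.lf ⟨[0, 0, 0, 0, 0, 0, 1],
  [99, 99, 99, 99, 99, 100, 26], 2, 8⟩))) (.nd (.nd (.lf ⟨[0, -1, -1, -1, -1, -1, -1], [18, 21, 22, 17, 19,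
  19, 36], 2, 14⟩) (.lf ⟨[0, 0, 0, 0, 0, 1, 0], [83, 83, 83, 83, 84, 42, 100], 2, 8⟩)) (.nd (.lf ⟨[0, 0, 0,
  -1, -1, 0, 0], [51, 50, 49, 52, 58, 40, 51], 2, 10⟩) (.lf ⟨[1, 2, 2, 3, 2, 1, 1], [115, 114, 115, 115, 115,
  120, 98], 1, 4⟩)))) (.nd (.nd (.nd (.lf ⟨[-1, -1, -2, -3, -2, -1, -1], [11, 10, 11, 12, 11, 6, 28], 3, 10⟩)
  (.lf ⟨[0, 1, 0, 1, 1, 0, 0], [75, 74, 78, 75, 68, 86, 75], 2, 6⟩)) (.nd (.lf ⟨[-1, -1, -2, -2, -1, 0, 0],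
  [43, 43, 44, 43, 43, 32, 43], 3, 6⟩) (.lf ⟨[1, 1, 1, 1, 1, 1, 1], [106, 105, 107, 109, 107, 107, 90], 1,
  9⟩))) (.nd (.nd (.lf ⟨[-1, -2, -2, -3, -2, -1, 0], [27, 28, 27, 27, 27, 27, 10], 3, 10⟩) (.lf ⟨[0, 1, 1, 2,
  1, 1, 0], [92, 91, 91, 89, 94, 80, 108], 2, 3⟩)) (.nd (.lf ⟨[-1, 0, -1, 0, 0, 0, 0], [60, 59, 62, 55, 59,
  59, 59], 3, 1⟩) (.lf ⟨[1, 2, 2, 4, 3, 2, 1], [123, 123, 124, 122, 123, 123, 123], 1, 1⟩))))) (.nd (.nd (.nd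
  (.nd (.lf ⟨[-1, -1, -2, -2, -2, -2, -1], [7, 7, 8, 6, 7, 12, 7], 3, 10⟩) (.lf ⟨[0, 1, 1, 1, 0, 0, 0], [72,
  69, 68, 71, 78, 71, 71], 2, 6⟩)) (.nd (.lf ⟨[0, -1, 0, -1, -1, -1, 0], [39, 40, 36, 39, 39, 50, 22], 2,
  12⟩) (.lf ⟨[0, 1, 0, 1, 1, 1, 1], [103, 102, 106, 103, 103, 103, 86], 2, 4⟩))) (.nd (.nd (.lf ⟨[0, 0, 0,
  -1, -1, -1, -1], [23, 22, 21, 24, 23, 23, 40], 2, 12⟩) (.lf ⟨[0, 0, 1, 1, 1, 1, 0], [88, 89, 85, 87, 87,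
  76, 104], 2, 5⟩)) (.nd (.lf ⟨[-1, 0, -1, -1, 0, 0, 0], [56, 53, 55, 59, 48, 55, 55], 3, 2⟩) (.lf ⟨[1, 1, 2,
  3, 2, 2, 1], [119, 120, 119, 118, 121, 114, 119], 1, 4⟩)))) (.nd (.nd (.nd (.lf ⟨[-1, -1, -2, -2, -1, -1,
  -1], [15, 15, 16, 15, 12, 15, 32], 3, 8⟩) (.lf ⟨[1, 1, 1, 1, 1, 0, 0], [78, 77, 79, 81, 72, 90, 79], 1,
  11⟩)) (.nd (.lf ⟨[0, -1, -1, -1, -1, 0, 0], [46, 49, 50, 45, 54, 36, 47], 2, 12⟩) (.lf ⟨[0, 1, 1, 2, 2, 1,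
  1], [112, 111, 111, 111, 108, 116, 94], 2, 1⟩))) (.nd (.nd (.lf ⟨[0, -1, -1, -2, -2, -1, 0], [30, 31, 31,
  31, 34, 31, 14], 2, 15⟩) (.lf ⟨[1, 1, 1, 2, 2, 1, 0], [94, 95, 96, 95, 92, 95, 112], 1, 8⟩)) (.lf ⟨[1, 0,
  0, 0, 0, 0, 0], [62, 63, 66, 63, 63, 63, 63], 1, 15⟩))))))

/-- the rows of the Cartan matrix -/
def rows : List (List ℤ) := [[2, 0, -1, 0, 0, 0, 0], [0, 2, 0, -1, 0, 0, 0], [-1, 0, 2, -1, 0, 0, 0], [0, -1,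
  -1, 2, -1, 0, 0], [0, 0, 0, -1, 2, -1, 0], [0, 0, 0, 0, -1, 2, -1], [0, 0, 0, 0, 0, -1, 2]]

theorem hc : allB (chkB T rows 7 126 5 0 [125, 124, 116, 62, 0] [1, 3, 9, 27, 81, 243, 729]) 126 = true := by decide +kernel

theorem tab : TabC 126 5 cE7 0 T rows [125, 124, 116, 62, 0] [1, 3, 9, 27, 81, 243, 729] 125
    ![[], [0], [0, 2, 3, 1, 4, 3, 2, 0], [0, 2, 3, 1, 4, 3, 2, 5, 4, 3, 1, 6, 5, 4, 3, 2, 0], [0, 2, 3, 1, 4, 3, 2, 0, 5, 4, 3, 1, 2, 3, 4, 5, 6, 5, 4, 3, 1, 2, 0, 3, 2, 4, 3, 1, 5, 4, 3, 2, 0]] where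
  hr1 := by decide +kernel
  hr2 := by decide +kernel
  hr3 := by decide +kernel
  hh := by decide +kernel
  hsy := by decide +kernel
  hc := hc
  hb0 := by decide +kernel
  hd1 := by decide +kernel
  hd2 := by decide +kernel
  hd3 := by decide +kernel
  hbs := by decide +kernel
  hwd := by decide +kernel

theorem ex1 : ∀ k : Fin 5, (T.get (nn [125, 124, 116, 62, 0] k)).e = 0 := by decide +kernel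

/-- exponent, sign, level of the image -/
def dg : Fin 5 → List (ℕ × ℕ × Fin 5) := ![[(0, 1, 1)], [(15, 1, 3), (14, 1, 2), (13, 1, 2), (12, 1, 2), (12,
  1, 2), (11, 1, 2), (10, 1, 2), (9, 0, 1), (11, 1, 2), (10, 1, 2), (9, 1, 2), (8, 0, 1), (8, 1, 2), (7, 0,
  1), (6, 0, 1), (5, 0, 1), (10, 1, 2), (9, 1, 2), (8, 1, 2), (7, 0, 1), (7, 1, 2), (6, 0, 1), (5, 0, 1), (4,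
  0, 1), (6, 1, 2), (5, 0, 1), (4, 0, 1), (3, 0, 1), (3, 0, 1), (2, 0, 1), (1, 0, 1), (0, 2, 0)], [(17, 1,
  3), (16, 1, 3), (15, 1, 3), (14, 1, 3), (13, 1, 3), (13, 0, 2), (12, 0, 2), (11, 0, 2), (10, 0, 2), (9, 0,
  2), (15, 1, 3), (14, 1, 3), (13, 1, 3), (12, 1, 3), (12, 0, 2), (11, 0, 2), (10, 0, 2), (9, 0, 2), (13, 1,
  3), (12, 1, 3), (11, 1, 3), (11, 0, 2), (10, 0, 2), (9, 0, 2), (11, 1, 3), (10, 1, 3), (10, 0, 2), (9, 0,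
  2), (9, 1, 3), (9, 0, 2), (8, 0, 2), (8, 2, 1), (8, 0, 2), (7, 0, 2), (7, 2, 1), (6, 2, 1), (8, 0, 2), (7,
  0, 2), (6, 0, 2), (6, 2, 1), (5, 2, 1), (4, 2, 1), (8, 0, 2), (7, 0, 2), (6, 0, 2), (5, 0, 2), (5, 2, 1),
  (4, 2, 1), (3, 2, 1), (2, 2, 1), (8, 0, 2), (7, 0, 2), (6, 0, 2), (5, 0, 2), (4, 0, 2), (4, 2, 1), (3, 2,
  1), (2, 2, 1), (1, 2, 1), (0, 2, 1)], [(15, 1, 4), (14, 0, 3), (13, 0, 3), (12, 0, 3), (12, 0, 3), (11, 0,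
  3), (10, 0, 3), (9, 2, 2), (11, 0, 3), (10, 0, 3), (9, 0, 3), (8, 2, 2), (8, 0, 3), (7, 2, 2), (6, 2, 2),
  (5, 2, 2), (10, 0, 3), (9, 0, 3), (8, 0, 3), (7, 2, 2), (7, 0, 3), (6, 2, 2), (5, 2, 2), (4, 2, 2), (6, 0,
  3), (5, 2, 2), (4, 2, 2), (3, 2, 2), (3, 2, 2), (2, 2, 2), (1, 2, 2), (0, 2, 1)], [(0, 2, 3)]]

theorem hdg : ∀ k : Fin 5, eqE (gath T (nl rows ((0 : Fin 7) : ℕ)) ((0 : Fin 7) : ℕ) k 126 []) (dg k) = true := by decide +kernel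

theorem hne : ∀ k, dg k ≠ [] := by decide +kernel

/-- the eigenvalues -/
def NN : Fin 5 → List ℤ := ![[0, 1, 1, 1, 2, 2, 3, 3, 3, 3, 3, 3, 2, 2, 1, 1, 1], [-1, 0, 0, 0, 1, 1, 2, 2,
  3, 2, 2, 2, 1, 1], [-1, 0, 0, -1, 0, 0, 1, 1, 1, 1, 1, 1], [-1, 0, 0, -1, 0, -1, 0, 0, 1], [-1, 0, 0, -1,
  0, -1, 0, 0, -1]]

/-- the eigenvectors -/
def UU : Fin 5 → Fin 5 → List ℤ := ![![[1], [1], [1], [1], [1]], ![[0, 0, 0, 0, 0, 0, 0, 0, 0, 1, 0, 0, 0, 0,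
  1], [0, 0, 0, 0, 0, 0, 0, 0, -1, 1, 0, 1], [0, 0, 0, 0, 0, -1, 0, 0, 0, 1], [0, 0, 0, -1, 0, -1, 1], [-1,
  0, 0, 0, 0, -1]], ![[0, 0, 0, 0, 0, 0, 0, 0, 0, 0, 0, 0, 0, 0, 1, 0, 2, 0, 3, 1, 3, 2, 2, 3, 1, 3, 0, 2, 0,
  1], [0, 0, 0, 0, 0, 0, 0, 0, 0, 0, 0, 0, 0, -1, 1, -2, 2, -3, 3, -2, 3, -1, 2, 0, 1], [0, 0, 0, 0, 0, 0, 0,
  0, 0, 1, -1, 1, -2, 0, -1, -1, 0, -2, 1, -1, 1], [0, 0, 0, 0, 0, 1, 0, 2, -1, 3, -2, 3, -3, 2, -2, 1, -1],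
  [1, 0, 2, 0, 3, 1, 3, 2, 2, 3, 1, 3, 0, 2, 0, 1]], ![[0, 0, 0, 0, 0, 0, 0, 0, 0, 0, 0, 0, 0, 0, 0, 0, 0, 0,
  1, 1, 0, 1, 2, 2, 1, 1, 2, 2, 1, 0, 1, 1], [0, 0, 0, 0, 0, 0, 0, 0, 0, 0, 0, 0, 0, 0, 0, 0, 0, -1, 0, 1,
  -1, -1, 0, 1], [0, 0, 0, 0, 0, 0, 0, 0, 0, 0, 0, 0, 0, 1, 0, -1, 1, 0, -1], [0, 0, 0, 0, 0, 0, 0, 0, -1, 0,
  1, 1, -1, 0, 1], [-1, -1, 0, -1, -2, -2, -1, -1, -2, -2, -1, 0, -1, -1]], ![[0, 0, 0, 0, 0, 0, 0, 0, 0, 0,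
  0, 0, 0, 0, 0, 0, 0, 0, 1, 2, 3, 4, 5, 5, 5, 5, 4, 3, 2, 1], [0, 0, 0, 0, 0, 0, 0, 0, 0, 0, 0, 0, 0, 0, 0,
  0, 0, -1, -1, -1, -1, -1], [0, 0, 0, 0, 0, 0, 0, 0, 0, 0, 0, 0, 0, 1, 1, 1, 1], [0, 0, 0, 0, 0, 0, 0, 0,
  -1, -1, -1, -1, -1], [1, 2, 3, 4, 5, 5, 5, 5, 4, 3, 2, 1]]]

theorem check : checkK dg 1 NN UU 524288 40 60 32 := by decide +kernel

theorem hN : ∀ i j, i < j → posL (addL (NN i) (smL (-1) (NN j))) = true := by decide +kernel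

theorem hU0 : ∀ i, posL (UU i 0) = true := by decide +kernel

end E7D6K


end Cfsg.Agent.H498.RP
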