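import Cfsg.Agent.H498.RP.Mbr
import Cfsg.Agent.H498.RP.E7D6K

/-!
# `E7`, node 0: the constituents of the character induced from the Steinberg character (helper498)
-/

set_option autoImplicit false
set_option maxRecDepth 100000
set_option maxHeartbeats 0

open Cfsg

namespace Cfsg.Agent.H498.RP

open CoxeterSystem Cfsg.Agent.ChevalleyStructure.CoxeterGeom Cfsg.Agent.Tits.Roots Cfsg.Agent.Tits.Core
  Cfsg.Agent.Tits.Exchange Cfsg.Agent.Nodes.Reps Cfsg.Agent.Nodes.BNOf Cfsg.Agent.Nodes.StabComb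
  Cfsg.Agent.Nodes.Bruhat Cfsg.Agent.Nodes.OppDec Cfsg.Agent.Nodes.LeviDec Cfsg.Agent.Nodes.NormalForm
  Cfsg.Agent.H35.ExcIdx Cfsg.Lie Cfsg.Agent.Nodes.RGDChev Cfsg.Agent.ChevalleyStructure.NPerm
  Cfsg.Agent.ChevalleyStructure.CoxeterGeomTypes Cfsg.Agent.H667.BR

universe u

namespace E7D6M

/-- the words -/
def wd : Fin 5 → List (Fin 7) := ![[], [0], [0, 2, 3, 1, 4, 3, 2, 0], [0, 2, 3, 1, 4, 3, 2, 5, 4, 3, 1, 6, 5,
  4, 3, 2, 0], [0, 2, 3, 1, 4, 3, 2, 0, 5, 4, 3, 1, 2, 3, 4, 5, 6, 5, 4, 3, 1, 2, 0, 3, 2, 4, 3, 1, 5, 4, 3,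
  2, 0]]

/-- the weights of the levels -/
def NK : Fin 5 → List ℤ := ![[1], [0, 1, 1, 1, 2, 2, 3, 3, 3, 3, 3, 3, 2, 2, 1, 1, 1], [0, 0, 0, 0, 0, 0, 0,
  0, 1, 1, 2, 2, 4, 4, 5, 5, 6, 6, 5, 5, 4, 4, 2, 2, 1, 1], [0, 0, 0, 0, 0, 0, 0, 0, 0, 0, 0, 0, 0, 0, 0, 0,
  0, 1, 1, 1, 2, 2, 3, 3, 3, 3, 3, 3, 2, 2, 1, 1, 1], [0, 0, 0, 0, 0, 0, 0, 0, 0, 0, 0, 0, 0, 0, 0, 0, 0, 0,
  0, 0, 0, 0, 0, 0, 0, 0, 0, 0, 0, 0, 0, 0, 0, 1]]

/-- the spherical functions times the weights -/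
def PP : Fin 5 → Fin 5 → List ℤ := ![![[1], [0, 1, 1, 1, 2, 2, 3, 3, 3, 3, 3, 3, 2, 2, 1, 1, 1], [0, 0, 0, 0,
  0, 0, 0, 0, 1, 1, 2, 2, 4, 4, 5, 5, 6, 6, 5, 5, 4, 4, 2, 2, 1, 1], [0, 0, 0, 0, 0, 0, 0, 0, 0, 0, 0, 0, 0,
  0, 0, 0, 0, 1, 1, 1, 2, 2, 3, 3, 3, 3, 3, 3, 2, 2, 1, 1, 1], [0, 0, 0, 0, 0, 0, 0, 0, 0, 0, 0, 0, 0, 0, 0,
  0, 0, 0, 0, 0, 0, 0, 0, 0, 0, 0, 0, 0, 0, 0, 0, 0, 0, 1]], ![[1], [-1, 0, 0, 0, 1, 1, 2, 2, 3, 2, 2, 2, 1,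
  1], [0, 0, 0, 0, -1, -1, -2, -2, -3, -2, -2, -1, 0, 1, 2, 2, 3, 2, 2, 1, 1], [0, 0, 0, 0, 0, 0, 0, 0, 0, 0,
  0, -1, -1, -2, -2, -2, -3, -2, -2, -1, -1, 0, 0, 0, 1], [0, 0, 0, 0, 0, 0, 0, 0, 0, 0, 0, 0, 0, 0, 0, 0, 0,
  0, 0, 0, 0, 0, 0, 0, -1]], ![[1], [-1, 0, 0, -1, 0, 0, 1, 1, 1, 1, 1, 1], [0, 0, 0, 1, 0, 0, -1, -1, -2,
  -2, -2, -2, -1, -1, 0, 0, 1], [0, 0, 0, 0, 0, 0, 0, 0, 1, 1, 1, 1, 1, 1, 0, 0, -1, 0, 0, -1], [0, 0, 0, 0,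
  0, 0, 0, 0, 0, 0, 0, 0, 0, 0, 0, 0, 0, 0, 0, 1]], ![[1], [-1, 0, 0, -1, 0, -1, 0, 0, 1], [0, 0, 0, 1, 0, 1,
  0, 1, -1, 0, -1, 0, -1], [0, 0, 0, 0, 0, 0, 0, -1, 0, 0, 1, 0, 1, 0, 0, 1], [0, 0, 0, 0, 0, 0, 0, 0, 0, 0,
  0, 0, 0, 0, 0, -1]], ![[1], [-1, 0, 0, -1, 0, -1, 0, 0, -1], [0, 0, 0, 1, 0, 1, 0, 1, 1, 0, 1, 0, 1], [0,
  0, 0, 0, 0, 0, 0, -1, 0, 0, -1, 0, -1, 0, 0, -1], [0, 0, 0, 0, 0, 0, 0, 0, 0, 0, 0, 0, 0, 0, 0, 1]]]

/-- the degrees -/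
def DEG : Fin 5 → List ℤ := ![[1], [0, 1, 0, 0, 0, 1, 0, 1, 0, 1, 0, 1, 0, 1, 0, 0, 0, 1], [0, 0, 1, 0, 1, 0,
  2, 0, 2, 0, 3, 0, 3, 0, 3, 0, 3, 0, 3, 0, 2, 0, 2, 0, 1, 0, 1], [0, 0, 0, 1, 1, 1, 2, 2, 3, 3, 3, 4, 5, 5,
  5, 6, 6, 6, 6, 6, 6, 6, 5, 5, 5, 4, 3, 3, 3, 2, 2, 1, 1, 1], [0, 0, 0, 1, 1, 1, 0, 2, 1, 3, 1, 4, 1, 5, 1,
  6, 2, 6, 0, 6, 2, 6, 1, 5, 1, 4, 1, 3, 1, 2, 0, 1, 1, 1]]

/-- the denominators -/
def ee : Fin 5 → ℕ := ![1, 1, 1, 2, 2]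

theorem hNr : ∀ i j, i < j → posR (addL (E7D6K.NN i) (smL (-1) (E7D6K.NN j))) = true := by decide +kernel

theorem hU0r : ∀ i, posR (E7D6K.UU i 0) = true := by decide +kernel

theorem hsy : ∀ k : Fin 5, (E7D6K.T.get ((wd k).reverse.foldl (fun (b : ℕ) (i : Fin 7) => nn (E7D6K.T.get b).a (i : ℕ)) 125)).l = k := by
  decide +kernel

theorem hpw : ∀ k : Fin 5, pwT E7D6K.T E7D6K.rows (wd k) 125 = true := by decide +kernel

theorem hi1 : ∀ k, E7D6K.UU 0 k = [1] := by decide +kernel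

theorem hNK : chkNK E7D6K.dg wd NK 128 := by decide +kernel

theorem hPP : ∀ i k, PE.chk 2048 (ePP NK E7D6K.UU PP 0 i k) = true := by decide +kernel

theorem hDEG : ∀ i, PE.chk 2097152 (eDEG NK E7D6K.UU DEG ee 0 i) = true := by decide +kernel

theorem hlen : ∀ i, (DEG i).length ≤ 64 := by decide +kernel

/-- the constituents -/
theorem con (K : Type u) [Field K] [Fintype K] {χ1 : IrrCharacter ↥((chevE7).group K)}
    (hval : ∀ g, (χ1 : ↥((chevE7).group K) → ℂ) g = ∑ L ∈ (Finset.univ : Finset (Fin 7)).powerset, (-1 : ℂ) ^ L.card *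
      fixedPointCharacter (PK hpE7 K L) g) :
    ∃ χ : Fin 5 → IrrCharacter ↥((chevE7).group K), ConData ↥((chevE7).group K) (Fintype.card K) 0 PP DEG ee χ1 χ :=
  con_chev hpE7 K isCartan_cE7 E7D6K.tab E7D6K.ex1 E7D6K.hdg E7D6K.hne E7D6K.check hNr (k0 := 0) (by decide +kernel) hU0r hsy hpw
    (i1 := 0) hi1 hNK hPP hDEG hval

/-- the polynomial `Φ_6` without the constant coefficient -/
def F6 : List ℤ := [-1, 1]

theorem pal6 : (1 :: F6).reverse = 1 :: F6 := by decide +kernel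

theorem b6_0 : ∀ k, dvdL F6 35 (addL (PP 0 k) (smL (-1) (PP 0 k))) = true := by decide +kernel

theorem d6_0 : dvdL F6 42 (addL (DEG 0) (smL (-(1)) (shL 0 [1]))) = true := by decide +kernel

theorem b6_1 : ∀ k, dvdL F6 35 (addL (PP 1 k) (smL (-1) (PP 0 k))) = true := by decide +kernel

theorem d6_1 : dvdL F6 42 (addL (DEG 1) (smL (-(2)) (shL 0 [1]))) = true := by decide +kernel

theorem b6_4 : ∀ k, dvdL F6 35 (addL (PP 4 k) (smL (-1) (PP 0 k))) = true := by decide +kernel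

theorem d6_4 : dvdL F6 42 (addL (DEG 4) (smL (-(6)) (shL 3 [1]))) = true := by decide +kernel

/-- the polynomial `Φ_3` without the constant coefficient -/
def F3 : List ℤ := [1, 1]

theorem pal3 : (1 :: F3).reverse = 1 :: F3 := by decide +kernel

theorem b3_0 : ∀ k, dvdL F3 35 (addL (PP 0 k) (smL (-1) (PP 0 k))) = true := by decide +kernel

theorem d3_0 : dvdL F3 39 (addL (DEG 0) (smL (-(1)) (shL 0 [1]))) = true := by decide +kernel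

theorem b3_4 : ∀ k, dvdL F3 35 (addL (PP 4 k) (smL (-1) (PP 0 k))) = true := by decide +kernel

theorem d3_4 : dvdL F3 39 (addL (DEG 4) (smL (-(-2)) (shL 0 [1]))) = true := by decide +kernel

/-- the polynomial `Φ_7` without the constant coefficient -/
def F7 : List ℤ := [1, 1, 1, 1, 1, 1]

theorem pal7 : (1 :: F7).reverse = 1 :: F7 := by decide +kernel

theorem b7_0 : ∀ k, dvdL F7 35 (addL (PP 0 k) (smL (-1) (PP 0 k))) = true := by decide +kernel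

theorem d7_0 : dvdL F7 43 (addL (DEG 0) (smL (-(1)) (shL 0 [1]))) = true := by decide +kernel

theorem b7_2 : ∀ k, dvdL F7 35 (addL (PP 2 k) (smL (-1) (PP 0 k))) = true := by decide +kernel

theorem d7_2 : dvdL F7 43 (addL (DEG 2) (smL (-(-1)) (shL 0 [1]))) = true := by decide +kernel

/-- the polynomial `Φ_9` without the constant coefficient -/
def F9 : List ℤ := [0, 0, 1, 0, 0, 1]

theorem pal9 : (1 :: F9).reverse = 1 :: F9 := by decide +kernel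

theorem b9_0 : ∀ k, dvdL F9 35 (addL (PP 0 k) (smL (-1) (PP 0 k))) = true := by decide +kernel

theorem d9_0 : dvdL F9 45 (addL (DEG 0) (smL (-(1)) (shL 0 [1]))) = true := by decide +kernel

theorem b9_4 : ∀ k, dvdL F9 35 (addL (PP 4 k) (smL (-1) (PP 0 k))) = true := by decide +kernel

theorem d9_4 : dvdL F9 45 (addL (DEG 4) (smL (-(-2)) (shL 0 [1]))) = true := by decide +kernel

/-- the polynomial `Φ_12` without the constant coefficient -/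
def F12 : List ℤ := [0, -1, 0, 1]

theorem pal12 : (1 :: F12).reverse = 1 :: F12 := by decide +kernel

theorem b12_0 : ∀ k, dvdL F12 35 (addL (PP 0 k) (smL (-1) (PP 0 k))) = true := by decide +kernel

theorem d12_0 : dvdL F12 48 (addL (DEG 0) (smL (-(1)) (shL 0 [1]))) = true := by decide +kernel

theorem b12_3 : ∀ k, dvdL F12 35 (addL (PP 3 k) (smL (-1) (PP 0 k))) = true := by decide +kernel

theorem d12_3 : dvdL F12 48 (addL (DEG 3) (smL (-(2)) (shL 6 [1]))) = true := by decide +kernel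

/-- the polynomial `Φ_14` without the constant coefficient -/
def F14 : List ℤ := [-1, 1, -1, 1, -1, 1]

theorem pal14 : (1 :: F14).reverse = 1 :: F14 := by decide +kernel

theorem b14_0 : ∀ k, dvdL F14 35 (addL (PP 0 k) (smL (-1) (PP 0 k))) = true := by decide +kernel

theorem d14_0 : dvdL F14 50 (addL (DEG 0) (smL (-(1)) (shL 0 [1]))) = true := by decide +kernel

theorem b14_2 : ∀ k, dvdL F14 35 (addL (PP 2 k) (smL (-1) (PP 0 k))) = true := by decide +kernel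

theorem d14_2 : dvdL F14 50 (addL (DEG 2) (smL (-(1)) (shL 7 [1]))) = true := by decide +kernel

/-- the polynomial `Φ_18` without the constant coefficient -/
def F18 : List ℤ := [0, 0, -1, 0, 0, 1]

theorem pal18 : (1 :: F18).reverse = 1 :: F18 := by decide +kernel

theorem b18_0 : ∀ k, dvdL F18 35 (addL (PP 0 k) (smL (-1) (PP 0 k))) = true := by decide +kernel

theorem d18_0 : dvdL F18 54 (addL (DEG 0) (smL (-(1)) (shL 0 [1]))) = true := by decide +kernel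

theorem b18_1 : ∀ k, dvdL F18 35 (addL (PP 1 k) (smL (-1) (PP 0 k))) = true := by decide +kernel

theorem d18_1 : dvdL F18 54 (addL (DEG 1) (smL (-(1)) (shL 9 [1]))) = true := by decide +kernel

/-- the member number 0 for the order 6 -/
theorem m6_0 {K : Type u} [Field K] [Fintype K] {p : ℕ} {M' : Ideal AlgInt} (hM : IsPModular p M') (h5 : 5 < p)
    (hpq : ¬ p ∣ Fintype.card K) (hp : (p : ℤ) ∣ evZ (Fintype.card K) (1 :: F6))
    (hJ : ∀ J : Finset (Fin 7), J ≠ Finset.univ → p ∣ (PK hpE7 K J).index)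
    (hcard : Nat.card (RGD.Sup (XX chevE7 7 K) (RGD.Pos CoxeterMatrix.E₇.toCoxeterSystem hpE7.isCartan)) = Fintype.card K ^ 63) :
    Mbr p M' ↥((chevE7).group K) (Fintype.card K) 1 (shL 63 [1]) := by
  have hq : 0 < Fintype.card K := Fintype.card_pos
  obtain ⟨χ1, h1, h2, -, h4⟩ := exists_st_chev hpE7 K
  obtain ⟨χ, H⟩ := con K h1
  rw [hcard] at h2
  exact H.mbr hq hM hpq pal6 hp (h4 p M' hM hpq hJ) h2 b6_0 d6_0 (not_dvd_of_lt hM.1 h5 (by decide)) (hlen 0)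

/-- the member number 1 for the order 6 -/
theorem m6_1 {K : Type u} [Field K] [Fintype K] {p : ℕ} {M' : Ideal AlgInt} (hM : IsPModular p M') (h5 : 5 < p)
    (hpq : ¬ p ∣ Fintype.card K) (hp : (p : ℤ) ∣ evZ (Fintype.card K) (1 :: F6))
    (hJ : ∀ J : Finset (Fin 7), J ≠ Finset.univ → p ∣ (PK hpE7 K J).index)
    (hcard : Nat.card (RGD.Sup (XX chevE7 7 K) (RGD.Pos CoxeterMatrix.E₇.toCoxeterSystem hpE7.isCartan)) = Fintype.card K ^ 63) :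
    Mbr p M' ↥((chevE7).group K) (Fintype.card K) 1 (shL 46 [1, 0, 0, 0, 1, 0, 1, 0, 1, 0, 1, 0, 1, 0, 0, 0, 1, 0]) := by
  have hq : 0 < Fintype.card K := Fintype.card_pos
  obtain ⟨χ1, h1, h2, -, h4⟩ := exists_st_chev hpE7 K
  obtain ⟨χ, H⟩ := con K h1
  rw [hcard] at h2
  exact H.mbr hq hM hpq pal6 hp (h4 p M' hM hpq hJ) h2 b6_1 d6_1 (not_dvd_of_lt hM.1 h5 (by decide)) (hlen 1)

/-- the member number 4 for the order 6 -/
theorem m6_4 {K : Type u} [Field K] [Fintype K] {p : ℕ} {M' : Ideal AlgInt} (hM : IsPModular p M') (h5 : 5 < p)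
    (hpq : ¬ p ∣ Fintype.card K) (hp : (p : ℤ) ∣ evZ (Fintype.card K) (1 :: F6))
    (hJ : ∀ J : Finset (Fin 7), J ≠ Finset.univ → p ∣ (PK hpE7 K J).index)
    (hcard : Nat.card (RGD.Sup (XX chevE7 7 K) (RGD.Pos CoxeterMatrix.E₇.toCoxeterSystem hpE7.isCartan)) = Fintype.card K ^ 63) :
    Mbr p M' ↥((chevE7).group K) (Fintype.card K) 2 (shL 30 [1, 1, 1, 0, 2, 1, 3, 1, 4, 1, 5, 1, 6, 2, 6, 0, 6, 2, 6, 1, 5, 1, 4, 1, 3, 1, 2, 0, 1, 1, 1, 0, 0, 0]) := by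
  have hq : 0 < Fintype.card K := Fintype.card_pos
  obtain ⟨χ1, h1, h2, -, h4⟩ := exists_st_chev hpE7 K
  obtain ⟨χ, H⟩ := con K h1
  rw [hcard] at h2
  exact H.mbr hq hM hpq pal6 hp (h4 p M' hM hpq hJ) h2 b6_4 d6_4 (not_dvd_of_lt hM.1 h5 (by decide)) (hlen 4)

/-- the member number 0 for the order 3 -/
theorem m3_0 {K : Type u} [Field K] [Fintype K] {p : ℕ} {M' : Ideal AlgInt} (hM : IsPModular p M') (h5 : 5 < p)
    (hpq : ¬ p ∣ Fintype.card K) (hp : (p : ℤ) ∣ evZ (Fintype.card K) (1 :: F3))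
    (hJ : ∀ J : Finset (Fin 7), J ≠ Finset.univ → p ∣ (PK hpE7 K J).index)
    (hcard : Nat.card (RGD.Sup (XX chevE7 7 K) (RGD.Pos CoxeterMatrix.E₇.toCoxeterSystem hpE7.isCartan)) = Fintype.card K ^ 63) :
    Mbr p M' ↥((chevE7).group K) (Fintype.card K) 1 (shL 63 [1]) := by
  have hq : 0 < Fintype.card K := Fintype.card_pos
  obtain ⟨χ1, h1, h2, -, h4⟩ := exists_st_chev hpE7 K
  obtain ⟨χ, H⟩ := con K h1
  rw [hcard] at h2
  exact H.mbr hq hM hpq pal3 hp (h4 p M' hM hpq hJ) h2 b3_0 d3_0 (not_dvd_of_lt hM.1 h5 (by decide)) (hlen 0)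

/-- the member number 4 for the order 3 -/
theorem m3_4 {K : Type u} [Field K] [Fintype K] {p : ℕ} {M' : Ideal AlgInt} (hM : IsPModular p M') (h5 : 5 < p)
    (hpq : ¬ p ∣ Fintype.card K) (hp : (p : ℤ) ∣ evZ (Fintype.card K) (1 :: F3))
    (hJ : ∀ J : Finset (Fin 7), J ≠ Finset.univ → p ∣ (PK hpE7 K J).index)
    (hcard : Nat.card (RGD.Sup (XX chevE7 7 K) (RGD.Pos CoxeterMatrix.E₇.toCoxeterSystem hpE7.isCartan)) = Fintype.card K ^ 63) :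
    Mbr p M' ↥((chevE7).group K) (Fintype.card K) 2 (shL 30 [1, 1, 1, 0, 2, 1, 3, 1, 4, 1, 5, 1, 6, 2, 6, 0, 6, 2, 6, 1, 5, 1, 4, 1, 3, 1, 2, 0, 1, 1, 1, 0, 0, 0]) := by
  have hq : 0 < Fintype.card K := Fintype.card_pos
  obtain ⟨χ1, h1, h2, -, h4⟩ := exists_st_chev hpE7 K
  obtain ⟨χ, H⟩ := con K h1
  rw [hcard] at h2
  exact H.mbr hq hM hpq pal3 hp (h4 p M' hM hpq hJ) h2 b3_4 d3_4 (not_dvd_of_lt hM.1 h5 (by decide)) (hlen 4)

/-- the member number 0 for the order 7 -/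
theorem m7_0 {K : Type u} [Field K] [Fintype K] {p : ℕ} {M' : Ideal AlgInt} (hM : IsPModular p M') (h5 : 5 < p)
    (hpq : ¬ p ∣ Fintype.card K) (hp : (p : ℤ) ∣ evZ (Fintype.card K) (1 :: F7))
    (hJ : ∀ J : Finset (Fin 7), J ≠ Finset.univ → p ∣ (PK hpE7 K J).index)
    (hcard : Nat.card (RGD.Sup (XX chevE7 7 K) (RGD.Pos CoxeterMatrix.E₇.toCoxeterSystem hpE7.isCartan)) = Fintype.card K ^ 63) :
    Mbr p M' ↥((chevE7).group K) (Fintype.card K) 1 (shL 63 [1]) := by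
  have hq : 0 < Fintype.card K := Fintype.card_pos
  obtain ⟨χ1, h1, h2, -, h4⟩ := exists_st_chev hpE7 K
  obtain ⟨χ, H⟩ := con K h1
  rw [hcard] at h2
  exact H.mbr hq hM hpq pal7 hp (h4 p M' hM hpq hJ) h2 b7_0 d7_0 (not_dvd_of_lt hM.1 h5 (by decide)) (hlen 0)

/-- the member number 2 for the order 7 -/
theorem m7_2 {K : Type u} [Field K] [Fintype K] {p : ℕ} {M' : Ideal AlgInt} (hM : IsPModular p M') (h5 : 5 < p)
    (hpq : ¬ p ∣ Fintype.card K) (hp : (p : ℤ) ∣ evZ (Fintype.card K) (1 :: F7))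
    (hJ : ∀ J : Finset (Fin 7), J ≠ Finset.univ → p ∣ (PK hpE7 K J).index)
    (hcard : Nat.card (RGD.Sup (XX chevE7 7 K) (RGD.Pos CoxeterMatrix.E₇.toCoxeterSystem hpE7.isCartan)) = Fintype.card K ^ 63) :
    Mbr p M' ↥((chevE7).group K) (Fintype.card K) 1 (shL 37 [1, 0, 1, 0, 2, 0, 2, 0, 3, 0, 3, 0, 3, 0, 3, 0, 3, 0, 2, 0, 2, 0, 1, 0, 1, 0, 0]) := by
  have hq : 0 < Fintype.card K := Fintype.card_pos
  obtain ⟨χ1, h1, h2, -, h4⟩ := exists_st_chev hpE7 K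
  obtain ⟨χ, H⟩ := con K h1
  rw [hcard] at h2
  exact H.mbr hq hM hpq pal7 hp (h4 p M' hM hpq hJ) h2 b7_2 d7_2 (not_dvd_of_lt hM.1 h5 (by decide)) (hlen 2)

/-- the member number 0 for the order 9 -/
theorem m9_0 {K : Type u} [Field K] [Fintype K] {p : ℕ} {M' : Ideal AlgInt} (hM : IsPModular p M') (h5 : 5 < p)
    (hpq : ¬ p ∣ Fintype.card K) (hp : (p : ℤ) ∣ evZ (Fintype.card K) (1 :: F9))
    (hJ : ∀ J : Finset (Fin 7), J ≠ Finset.univ → p ∣ (PK hpE7 K J).index)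
    (hcard : Nat.card (RGD.Sup (XX chevE7 7 K) (RGD.Pos CoxeterMatrix.E₇.toCoxeterSystem hpE7.isCartan)) = Fintype.card K ^ 63) :
    Mbr p M' ↥((chevE7).group K) (Fintype.card K) 1 (shL 63 [1]) := by
  have hq : 0 < Fintype.card K := Fintype.card_pos
  obtain ⟨χ1, h1, h2, -, h4⟩ := exists_st_chev hpE7 K
  obtain ⟨χ, H⟩ := con K h1
  rw [hcard] at h2
  exact H.mbr hq hM hpq pal9 hp (h4 p M' hM hpq hJ) h2 b9_0 d9_0 (not_dvd_of_lt hM.1 h5 (by decide)) (hlen 0)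

/-- the member number 4 for the order 9 -/
theorem m9_4 {K : Type u} [Field K] [Fintype K] {p : ℕ} {M' : Ideal AlgInt} (hM : IsPModular p M') (h5 : 5 < p)
    (hpq : ¬ p ∣ Fintype.card K) (hp : (p : ℤ) ∣ evZ (Fintype.card K) (1 :: F9))
    (hJ : ∀ J : Finset (Fin 7), J ≠ Finset.univ → p ∣ (PK hpE7 K J).index)
    (hcard : Nat.card (RGD.Sup (XX chevE7 7 K) (RGD.Pos CoxeterMatrix.E₇.toCoxeterSystem hpE7.isCartan)) = Fintype.card K ^ 63) :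
    Mbr p M' ↥((chevE7).group K) (Fintype.card K) 2 (shL 30 [1, 1, 1, 0, 2, 1, 3, 1, 4, 1, 5, 1, 6, 2, 6, 0, 6, 2, 6, 1, 5, 1, 4, 1, 3, 1, 2, 0, 1, 1, 1, 0, 0, 0]) := by
  have hq : 0 < Fintype.card K := Fintype.card_pos
  obtain ⟨χ1, h1, h2, -, h4⟩ := exists_st_chev hpE7 K
  obtain ⟨χ, H⟩ := con K h1
  rw [hcard] at h2
  exact H.mbr hq hM hpq pal9 hp (h4 p M' hM hpq hJ) h2 b9_4 d9_4 (not_dvd_of_lt hM.1 h5 (by decide)) (hlen 4)

/-- the member number 0 for the order 12 -/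
theorem m12_0 {K : Type u} [Field K] [Fintype K] {p : ℕ} {M' : Ideal AlgInt} (hM : IsPModular p M') (h5 : 5 < p)
    (hpq : ¬ p ∣ Fintype.card K) (hp : (p : ℤ) ∣ evZ (Fintype.card K) (1 :: F12))
    (hJ : ∀ J : Finset (Fin 7), J ≠ Finset.univ → p ∣ (PK hpE7 K J).index)
    (hcard : Nat.card (RGD.Sup (XX chevE7 7 K) (RGD.Pos CoxeterMatrix.E₇.toCoxeterSystem hpE7.isCartan)) = Fintype.card K ^ 63) :
    Mbr p M' ↥((chevE7).group K) (Fintype.card K) 1 (shL 63 [1]) := by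
  have hq : 0 < Fintype.card K := Fintype.card_pos
  obtain ⟨χ1, h1, h2, -, h4⟩ := exists_st_chev hpE7 K
  obtain ⟨χ, H⟩ := con K h1
  rw [hcard] at h2
  exact H.mbr hq hM hpq pal12 hp (h4 p M' hM hpq hJ) h2 b12_0 d12_0 (not_dvd_of_lt hM.1 h5 (by decide)) (hlen 0)

/-- the member number 3 for the order 12 -/
theorem m12_3 {K : Type u} [Field K] [Fintype K] {p : ℕ} {M' : Ideal AlgInt} (hM : IsPModular p M') (h5 : 5 < p)
    (hpq : ¬ p ∣ Fintype.card K) (hp : (p : ℤ) ∣ evZ (Fintype.card K) (1 :: F12))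
    (hJ : ∀ J : Finset (Fin 7), J ≠ Finset.univ → p ∣ (PK hpE7 K J).index)
    (hcard : Nat.card (RGD.Sup (XX chevE7 7 K) (RGD.Pos CoxeterMatrix.E₇.toCoxeterSystem hpE7.isCartan)) = Fintype.card K ^ 63) :
    Mbr p M' ↥((chevE7).group K) (Fintype.card K) 2 (shL 30 [1, 1, 1, 2, 2, 3, 3, 3, 4, 5, 5, 5, 6, 6, 6, 6, 6, 6, 6, 5, 5, 5, 4, 3, 3, 3, 2, 2, 1, 1, 1, 0, 0, 0]) := by
  have hq : 0 < Fintype.card K := Fintype.card_pos
  obtain ⟨χ1, h1, h2, -, h4⟩ := exists_st_chev hpE7 K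
  obtain ⟨χ, H⟩ := con K h1
  rw [hcard] at h2
  exact H.mbr hq hM hpq pal12 hp (h4 p M' hM hpq hJ) h2 b12_3 d12_3 (not_dvd_of_lt hM.1 h5 (by decide)) (hlen 3)

/-- the member number 0 for the order 14 -/
theorem m14_0 {K : Type u} [Field K] [Fintype K] {p : ℕ} {M' : Ideal AlgInt} (hM : IsPModular p M') (h5 : 5 < p)
    (hpq : ¬ p ∣ Fintype.card K) (hp : (p : ℤ) ∣ evZ (Fintype.card K) (1 :: F14))
    (hJ : ∀ J : Finset (Fin 7), J ≠ Finset.univ → p ∣ (PK hpE7 K J).index)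
    (hcard : Nat.card (RGD.Sup (XX chevE7 7 K) (RGD.Pos CoxeterMatrix.E₇.toCoxeterSystem hpE7.isCartan)) = Fintype.card K ^ 63) :
    Mbr p M' ↥((chevE7).group K) (Fintype.card K) 1 (shL 63 [1]) := by
  have hq : 0 < Fintype.card K := Fintype.card_pos
  obtain ⟨χ1, h1, h2, -, h4⟩ := exists_st_chev hpE7 K
  obtain ⟨χ, H⟩ := con K h1
  rw [hcard] at h2
  exact H.mbr hq hM hpq pal14 hp (h4 p M' hM hpq hJ) h2 b14_0 d14_0 (not_dvd_of_lt hM.1 h5 (by decide)) (hlen 0)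

/-- the member number 2 for the order 14 -/
theorem m14_2 {K : Type u} [Field K] [Fintype K] {p : ℕ} {M' : Ideal AlgInt} (hM : IsPModular p M') (h5 : 5 < p)
    (hpq : ¬ p ∣ Fintype.card K) (hp : (p : ℤ) ∣ evZ (Fintype.card K) (1 :: F14))
    (hJ : ∀ J : Finset (Fin 7), J ≠ Finset.univ → p ∣ (PK hpE7 K J).index)
    (hcard : Nat.card (RGD.Sup (XX chevE7 7 K) (RGD.Pos CoxeterMatrix.E₇.toCoxeterSystem hpE7.isCartan)) = Fintype.card K ^ 63) :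
    Mbr p M' ↥((chevE7).group K) (Fintype.card K) 1 (shL 37 [1, 0, 1, 0, 2, 0, 2, 0, 3, 0, 3, 0, 3, 0, 3, 0, 3, 0, 2, 0, 2, 0, 1, 0, 1, 0, 0]) := by
  have hq : 0 < Fintype.card K := Fintype.card_pos
  obtain ⟨χ1, h1, h2, -, h4⟩ := exists_st_chev hpE7 K
  obtain ⟨χ, H⟩ := con K h1
  rw [hcard] at h2
  exact H.mbr hq hM hpq pal14 hp (h4 p M' hM hpq hJ) h2 b14_2 d14_2 (not_dvd_of_lt hM.1 h5 (by decide)) (hlen 2)

/-- the member number 0 for the order 18 -/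
theorem m18_0 {K : Type u} [Field K] [Fintype K] {p : ℕ} {M' : Ideal AlgInt} (hM : IsPModular p M') (h5 : 5 < p)
    (hpq : ¬ p ∣ Fintype.card K) (hp : (p : ℤ) ∣ evZ (Fintype.card K) (1 :: F18))
    (hJ : ∀ J : Finset (Fin 7), J ≠ Finset.univ → p ∣ (PK hpE7 K J).index)
    (hcard : Nat.card (RGD.Sup (XX chevE7 7 K) (RGD.Pos CoxeterMatrix.E₇.toCoxeterSystem hpE7.isCartan)) = Fintype.card K ^ 63) :
    Mbr p M' ↥((chevE7).group K) (Fintype.card K) 1 (shL 63 [1]) := by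
  have hq : 0 < Fintype.card K := Fintype.card_pos
  obtain ⟨χ1, h1, h2, -, h4⟩ := exists_st_chev hpE7 K
  obtain ⟨χ, H⟩ := con K h1
  rw [hcard] at h2
  exact H.mbr hq hM hpq pal18 hp (h4 p M' hM hpq hJ) h2 b18_0 d18_0 (not_dvd_of_lt hM.1 h5 (by decide)) (hlen 0)

/-- the member number 1 for the order 18 -/
theorem m18_1 {K : Type u} [Field K] [Fintype K] {p : ℕ} {M' : Ideal AlgInt} (hM : IsPModular p M') (h5 : 5 < p)
    (hpq : ¬ p ∣ Fintype.card K) (hp : (p : ℤ) ∣ evZ (Fintype.card K) (1 :: F18))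
    (hJ : ∀ J : Finset (Fin 7), J ≠ Finset.univ → p ∣ (PK hpE7 K J).index)
    (hcard : Nat.card (RGD.Sup (XX chevE7 7 K) (RGD.Pos CoxeterMatrix.E₇.toCoxeterSystem hpE7.isCartan)) = Fintype.card K ^ 63) :
    Mbr p M' ↥((chevE7).group K) (Fintype.card K) 1 (shL 46 [1, 0, 0, 0, 1, 0, 1, 0, 1, 0, 1, 0, 1, 0, 0, 0, 1, 0]) := by
  have hq : 0 < Fintype.card K := Fintype.card_pos
  obtain ⟨χ1, h1, h2, -, h4⟩ := exists_st_chev hpE7 K
  obtain ⟨χ, H⟩ := con K h1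
  rw [hcard] at h2
  exact H.mbr hq hM hpq pal18 hp (h4 p M' hM hpq hJ) h2 b18_1 d18_1 (not_dvd_of_lt hM.1 h5 (by decide)) (hlen 1)

end E7D6M

end Cfsg.Agent.H498.RP
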