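import Cfsg.Agent.H498.RP.ChevK
import Cfsg.Agent.H498.RP.E7D6

/-!
# Tables (helper498), generated
-/

set_option autoImplicit false
set_option maxRecDepth 100000
set_option maxHeartbeats 0

open Cfsg

namespace Cfsg.Agent.H498.RP

open Cfsg.Agent.ChevalleyStructure.CoxeterGeom Cfsg.Agent.H35.ExcIdx Cfsg.Lie Cfsg.Agent.Nodes.RGDChev
  Cfsg.Agent.Nodes.LeviDec Cfsg.Agent.ChevalleyStructure.CoxeterGeomTypes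

universe u

namespace E7E6K

/-- the table: vector, images, level, exponent -/
def T : BT Rw := .nd (.nd (.nd (.nd (.nd (.nd (.lf ⟨[-2, -3, -4, -6, -5, -4, -3], [0, 0, 0, 0, 0, 0, 1], 3,
  0⟩) (.lf ⟨[0, 1, 0, 0, -1, 0, 1], [32, 31, 32, 32, 34, 32, 22], 1, 12⟩)) (.nd (.lf ⟨[0, -1, 0, 0, -1, -2,
  -1], [16, 17, 16, 15, 16, 21, 16], 2, 6⟩) (.lf ⟨[0, 3, 2, 4, 3, 2, 1], [49, 46, 48, 48, 48, 48, 48], 1,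
  5⟩))) (.nd (.nd (.lf ⟨[-2, -1, -2, -4, -3, -2, -1], [9, 6, 5, 10, 8, 8, 8], 2, 11⟩) (.lf ⟨[0, 1, 0, 2, 1,
  2, 1], [40, 40, 41, 39, 43, 35, 40], 1, 9⟩)) (.lf ⟨[0, 1, 0, 0, 1, 0, -1], [24, 23, 24, 25, 22, 24, 34], 2,
  3⟩))) (.nd (.nd (.nd (.lf ⟨[-2, -3, -4, -4, -3, -2, -1], [4, 5, 6, 3, 4, 4, 4], 2, 13⟩) (.lf ⟨[0, 1, 2, 2,
  1, 0, 1], [37, 36, 35, 36, 36, 41, 26], 1, 9⟩)) (.nd (.lf ⟨[0, -1, 0, -2, -1, 0, -1], [20, 20, 19, 21, 20,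
  15, 30], 2, 6⟩) (.lf ⟨[2, 3, 4, 6, 3, 2, 1], [52, 52, 52, 51, 53, 52, 52], 1, 2⟩))) (.nd (.nd (.lf ⟨[0, -1,
  0, -2, -3, -2, -1], [12, 12, 11, 12, 15, 12, 12], 2, 8⟩) (.lf ⟨[0, 1, 2, 2, 3, 2, 1], [45, 44, 43, 46, 41,
  44, 44], 1, 7⟩)) (.lf ⟨[-2, -1, -2, -2, -1, 0, 1], [29, 28, 28, 28, 28, 28, 18], 1, 16⟩)))) (.nd (.nd (.nd
  (.nd (.lf ⟨[-2, -3, -4, -6, -5, -2, -1], [2, 2, 2, 2, 3, 1, 2], 2, 15⟩) (.lf ⟨[0, 1, 0, 0, 1, 0, 1], [34,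
  33, 34, 35, 32, 39, 24], 1, 11⟩)) (.nd (.lf ⟨[-2, -1, -2, -2, -1, 0, -1], [19, 18, 18, 18, 18, 13, 28], 2,
  8⟩) (.lf ⟨[2, 1, 4, 4, 3, 2, 1], [50, 51, 47, 50, 50, 50, 50], 1, 4⟩))) (.nd (.nd (.lf ⟨[-2, -1, -2, -2,
  -3, -2, -1], [11, 10, 10, 8, 13, 10, 10], 2, 10⟩) (.lf ⟨[2, 1, 2, 2, 1, 2, 1], [41, 42, 42, 42, 45, 37,
  42], 1, 7⟩)) (.lf ⟨[0, 1, 2, 2, 1, 0, -1], [27, 26, 25, 26, 26, 26, 36], 2, 1⟩))) (.nd (.nd (.nd (.lf ⟨[-2,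
  -3, -2, -4, -3, -2, -1], [7, 8, 4, 6, 6, 6, 6], 2, 12⟩) (.lf ⟨[0, -1, 0, 0, 1, 2, 1], [38, 39, 38, 38, 38,
  33, 38], 1, 11⟩)) (.nd (.lf ⟨[0, 1, 0, 0, -1, 0, -1], [22, 21, 22, 22, 24, 17, 32], 2, 4⟩) (.lf ⟨[2, 3, 4,
  6, 5, 4, 1], [54, 54, 54, 54, 54, 53, 55], 1, 0⟩))) (.nd (.nd (.lf ⟨[0, -1, -2, -2, -1, -2, -1], [13, 14,
  15, 14, 11, 19, 14], 2, 8⟩) (.lf ⟨[0, 1, 2, 4, 3, 2, 1], [47, 48, 46, 44, 46, 46, 46], 1, 6⟩)) (.lf ⟨[0,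
  -1, 0, -2, -1, 0, 1], [30, 30, 29, 31, 30, 30, 20], 1, 14⟩))))) (.nd (.nd (.nd (.nd (.nd (.lf ⟨[-2, -3, -4,
  -6, -5, -4, -1], [1, 1, 1, 1, 1, 2, 0], 2, 16⟩) (.lf ⟨[0, -1, 0, 0, 1, 0, 1], [33, 34, 33, 33, 31, 38, 23],
  1, 12⟩)) (.nd (.lf ⟨[0, 1, 0, 0, -1, -2, -1], [17, 16, 17, 17, 17, 22, 17], 2, 5⟩) (.lf ⟨[2, 3, 2, 4, 3, 2,
  1], [48, 47, 51, 49, 49, 49, 49], 1, 4⟩))) (.nd (.nd (.lf ⟨[0, -1, -2, -4, -3, -2, -1], [8, 7, 9, 11, 9, 9,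
  9], 2, 10⟩) (.lf ⟨[0, 1, 2, 2, 1, 2, 1], [42, 41, 40, 41, 44, 36, 41], 1, 8⟩)) (.lf ⟨[0, 1, 0, 2, 1, 0,
  -1], [25, 25, 26, 24, 25, 25, 35], 2, 2⟩))) (.nd (.nd (.nd (.lf ⟨[-2, -1, -4, -4, -3, -2, -1], [5, 4, 8, 5,
  5, 5, 5], 2, 12⟩) (.lf ⟨[2, 1, 2, 2, 1, 0, 1], [36, 37, 37, 37, 37, 42, 27], 1, 8⟩)) (.nd (.lf ⟨[0, -1, 0,
  0, -1, 0, -1], [21, 22, 21, 20, 23, 16, 31], 2, 5⟩) (.lf ⟨[2, 3, 4, 6, 5, 2, 1], [53, 53, 53, 53, 52, 54,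
  53], 1, 1⟩))) (.nd (.nd (.lf ⟨[-2, -1, -2, -2, -1, -2, -1], [14, 13, 13, 13, 10, 18, 13], 2, 9⟩) (.lf ⟨[2,
  1, 2, 2, 3, 2, 1], [44, 45, 45, 47, 42, 45, 45], 1, 6⟩)) (.lf ⟨[0, -1, -2, -2, -1, 0, 1], [28, 29, 30, 29,
  29, 29, 19], 1, 15⟩)))) (.nd (.nd (.nd (.nd (.lf ⟨[-2, -3, -4, -6, -3, -2, -1], [3, 3, 3, 4, 2, 3, 3], 2,
  14⟩) (.lf ⟨[0, 1, 0, 2, 1, 0, 1], [35, 35, 36, 34, 35, 40, 25], 1, 10⟩)) (.nd (.lf ⟨[0, -1, -2, -2, -1, 0,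
  -1], [18, 19, 20, 19, 19, 14, 29], 2, 7⟩) (.lf ⟨[2, 3, 4, 4, 3, 2, 1], [51, 50, 49, 52, 51, 51, 51], 1,
  3⟩))) (.nd (.nd (.lf ⟨[0, -1, -2, -2, -3, -2, -1], [10, 11, 12, 9, 14, 11, 11], 2, 9⟩) (.lf ⟨[0, 1, 0, 2,
  3, 2, 1], [43, 43, 44, 43, 40, 43, 43], 1, 8⟩)) (.lf ⟨[2, 1, 2, 2, 1, 0, -1], [26, 27, 27, 27, 27, 27, 37],
  2, 0⟩))) (.nd (.nd (.nd (.lf ⟨[0, -3, -2, -4, -3, -2, -1], [6, 9, 7, 7, 7, 7, 7], 2, 11⟩) (.lf ⟨[0, 1, 0,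
  0, 1, 2, 1], [39, 38, 39, 40, 39, 34, 39], 1, 10⟩)) (.nd (.lf ⟨[0, -1, 0, 0, 1, 0, -1], [23, 24, 23, 23,
  21, 23, 33], 2, 4⟩) (.lf ⟨[2, 3, 4, 6, 5, 4, 3], [55, 55, 55, 55, 55, 55, 54], 0, 0⟩))) (.nd (.nd (.lf ⟨[0,
  -1, 0, -2, -1, -2, -1], [15, 15, 14, 16, 12, 20, 15], 2, 7⟩) (.lf ⟨[2, 1, 2, 4, 3, 2, 1], [46, 49, 50, 45,
  47, 47, 47], 1, 5⟩)) (.lf ⟨[0, -1, 0, 0, -1, 0, 1], [31, 32, 31, 30, 33, 31, 21], 1, 13⟩)))))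

/-- the rows of the Cartan matrix -/
def rows : List (List ℤ) := [[2, 0, -1, 0, 0, 0, 0], [0, 2, 0, -1, 0, 0, 0], [-1, 0, 2, -1, 0, 0, 0], [0, -1,
  -1, 2, -1, 0, 0], [0, 0, 0, -1, 2, -1, 0], [0, 0, 0, 0, -1, 2, -1], [0, 0, 0, 0, 0, -1, 2]]

theorem hc : allB (chkB T rows 7 56 4 6 [55, 54, 27, 0] [1, 3, 9, 27, 81, 243, 729]) 56 = true := by decide +kernel

theorem tab : TabC 56 4 cE7 6 T rows [55, 54, 27, 0] [1, 3, 9, 27, 81, 243, 729] 55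
    ![[], [6], [6, 5, 4, 3, 1, 2, 3, 4, 5, 6], [6, 5, 4, 3, 1, 2, 0, 3, 2, 4, 3, 1, 5, 4, 3, 2, 0, 6, 5, 4, 3, 1, 2, 3, 4, 5, 6]] where
  hr1 := by decide +kernel
  hr2 := by decide +kernel
  hr3 := by decide +kernel
  hh := by decide +kernel
  hsy := by decide +kernel
  hc := hc
  hb0 := by decide +kernel
  hd1 := by decide +kernel
  hd2 := by decide +kernel
  hd3 := by decide +kernel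
  hbs := by decide +kernel
  hwd := by decide +kernel

theorem ex1 : ∀ k : Fin 4, (T.get (nn [55, 54, 27, 0] k)).e = 0 := by decide +kernel

/-- exponent, sign, level of the image -/
def dg : Fin 4 → List (ℕ × ℕ × Fin 4) := ![[(0, 1, 1)], [(16, 1, 2), (15, 1, 2), (14, 1, 2), (13, 1, 2), (12,
  1, 2), (12, 1, 2), (11, 1, 2), (10, 1, 2), (9, 1, 2), (8, 1, 2), (11, 0, 1), (10, 0, 1), (9, 0, 1), (8, 0,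
  1), (7, 0, 1), (8, 0, 1), (7, 0, 1), (6, 0, 1), (6, 0, 1), (5, 0, 1), (5, 0, 1), (4, 0, 1), (4, 0, 1), (3,
  0, 1), (2, 0, 1), (1, 0, 1), (0, 2, 0)], [(16, 1, 3), (15, 0, 2), (14, 0, 2), (13, 0, 2), (12, 0, 2), (12,
  0, 2), (11, 0, 2), (11, 0, 2), (10, 0, 2), (10, 0, 2), (9, 0, 2), (8, 0, 2), (9, 0, 2), (8, 0, 2), (7, 0,
  2), (6, 0, 2), (5, 0, 2), (8, 2, 1), (7, 2, 1), (6, 2, 1), (5, 2, 1), (4, 2, 1), (4, 2, 1), (3, 2, 1), (2,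
  2, 1), (1, 2, 1), (0, 2, 1)], [(0, 2, 2)]]

theorem hdg : ∀ k : Fin 4, eqE (gath T (nl rows ((6 : Fin 7) : ℕ)) ((6 : Fin 7) : ℕ) k 56 []) (dg k) = true := by decide +kernel

theorem hne : ∀ k, dg k ≠ [] := by decide +kernel

/-- the eigenvalues -/
def NN : Fin 4 → List ℤ := ![[0, 1, 1, 1, 1, 2, 2, 2, 2, 3, 2, 2, 2, 2, 1, 1, 1, 1], [-1, 0, 0, 0, 0, 1, 1,
  1, 1, 2, 1, 1, 1, 1], [-1, 0, 0, 0, -1, 0, 0, 0, 0, 1], [-1, 0, 0, 0, -1, 0, 0, 0, -1]]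

/-- the eigenvectors -/
def UU : Fin 4 → Fin 4 → List ℤ := ![![[1], [1], [1], [1]], ![[0, 0, 0, 0, 0, 0, 0, 0, 0, 1, 1, 0, -1, 0, 1,
  1], [0, 0, 0, 0, 0, 0, 0, 0, -1, 0, 1, 1], [0, 0, 0, 0, -1, -1, 0, 1], [-1, -1, 0, 1, 0, -1, -1]], ![[0, 0,
  0, 0, 0, 0, 0, 0, 0, 0, 0, 0, 0, 0, 1, 1, 1, 1, 2, 2, 2, 2, 3, 2, 2, 2, 2, 1, 1, 1, 1], [0, 0, 0, 0, 0, 0,
  0, 0, 0, 0, 0, 0, 0, -1, 0, 0, 0, -1, 0, 0, 0, 0, 1], [0, 0, 0, 0, 0, 0, 0, 0, 1, 0, 0, 0, 0, -1, 0, 0, 0,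
  -1], [1, 1, 1, 1, 2, 2, 2, 2, 3, 2, 2, 2, 2, 1, 1, 1, 1]], ![[0, 0, 0, 0, 0, 0, 0, 0, 0, 0, 0, 0, 0, 0, 0,
  1, 1, 1, 1, 1, 1, 1, 1, 1], [0, 0, 0, 0, 0, 0, 0, 0, 0, 0, 0, 0, 0, 0, -1], [0, 0, 0, 0, 0, 0, 0, 0, 0, 1],
  [-1, -1, -1, -1, -1, -1, -1, -1, -1]]]

theorem check : checkK dg 1 NN UU 131072 27 27 27 := by decide +kernel

theorem hN : ∀ i j, i < j → posL (addL (NN i) (smL (-1) (NN j))) = true := by decide +kernel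

theorem hU0 : ∀ i, posL (UU i 0) = true := by decide +kernel

end E7E6K


end Cfsg.Agent.H498.RP
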