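import Cfsg.Agent.H498.RP.Kron
import Cfsg.Agent.H498.RP.PolyInv

/-!
# Polynomial identities by evaluation at one large number; divisibility (helper498)

* `PE` : expressions in integer polynomials; `PE.zero` : an expression with value `0` at a number larger than the bound of
  the coefficients is zero everywhere.
* `dvdL` : divisibility by a polynomial with constant coefficient `1`.
* `exists_int_inv`, `exists_dvd_inv` : the values at `1 / q`.
-/

set_option autoImplicit false

namespace Cfsg.Agent.H498.RP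

/-- polynomial expressions -/
inductive PE where
  | lit : List ℤ → PE
  | add : PE → PE → PE
  | mul : PE → PE → PE
  | sm : ℤ → PE → PE

namespace PE

/-- the value at a rational number -/
def evQ (x : ℚ) : PE → ℚ
  | lit l => evL x l
  | add a b => evQ x a + evQ x b
  | mul a b => evQ x a * evQ x b
  | sm c a => c * evQ x a

/-- the value at a natural number -/
def evB (B : ℕ) : PE → ℤ
  | lit l => evZ B l
  | add a b => evB B a + evB B b
  | mul a b => evB B a * evB B b
  | sm c a => c * evB B a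

/-- a bound for the coefficients -/
def nB : PE → ℕ
  | lit l => nrm l
  | add a b => nB a + nB b
  | mul a b => nB a * nB b
  | sm c a => c.natAbs * nB a

/-- the polynomial -/
def toL : PE → List ℤ
  | lit l => l
  | add a b => addL (toL a) (toL b)
  | mul a b => mulL (toL a) (toL b)
  | sm c a => smL c (toL a)

theorem evL_toL (x : ℚ) (e : PE) : evL x e.toL = e.evQ x := by
  induction e with
  | lit l => rfl
  | add a b iha ihb => rw [toL, evQ, evL_add, iha, ihb]
  | mul a b iha ihb => rw [toL, evQ, evL_mul, iha, ihb]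
  | sm c a ih => rw [toL, evQ, evL_sm, ih]

theorem evZ_toL (B : ℕ) (e : PE) : evZ B e.toL = e.evB B := by
  induction e with
  | lit l => rfl
  | add a b iha ihb => rw [toL, evB, evZ_add, iha, ihb]
  | mul a b iha ihb => rw [toL, evB, evZ_mul, iha, ihb]
  | sm c a ih => rw [toL, evB, evZ_sm, ih]

theorem nrm_toL (e : PE) : nrm e.toL ≤ e.nB := by
  induction e with
  | lit l => exact le_refl _
  | add a b iha ihb => rw [toL, nB]; exact (nrm_add _ _).trans (Nat.add_le_add iha ihb)
  | mul a b iha ihb => rw [toL, nB]; exact (nrm_mul _ _).trans (Nat.mul_le_mul iha ihb)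
  | sm c a ih => rw [toL, nB, nrm_sm]; exact Nat.mul_le_mul_left _ ih

/-- the check -/
def chk (B : ℕ) (e : PE) : Bool := Nat.blt e.nB B && decide (e.evB B = 0)

/-- **An expression which vanishes at a large number is zero.** -/
theorem zero {B : ℕ} {e : PE} (h : chk B e = true) (x : ℚ) : e.evQ x = 0 := by
  rw [chk, Bool.and_eq_true, Nat.blt_eq, decide_eq_true_eq] at h
  rw [← evL_toL]
  exact evL_zL x (zL_of_evZ (B := B) (by rw [evZ_toL, h.2]) (lt_of_le_of_lt (nrm_toL e) h.1))

/-- the sum -/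
def sumE : List PE → PE
  | [] => lit []
  | e :: l => add e (sumE l)

theorem evQ_sumE (x : ℚ) (l : List PE) : (sumE l).evQ x = (l.map fun e => e.evQ x).sum := by
  induction l with
  | nil => rfl
  | cons e l ih => rw [sumE, evQ, ih, List.map_cons, List.sum_cons]

theorem evQ_sum_ofFn {r : ℕ} (x : ℚ) (f : Fin r → PE) : (sumE (List.ofFn f)).evQ x = ∑ k, (f k).evQ x := by
  rw [evQ_sumE, List.map_ofFn, List.sum_ofFn]
  rfl

end PE

/-! ### divisibility -/

/-- divisibility by the polynomial `1 :: Φt` -/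
def dvdL (Φt : List ℤ) : ℕ → List ℤ → Bool
  | 0, l => zL l
  | _ + 1, [] => true
  | n + 1, a :: l => dvdL Φt n (addL l (smL (-a) Φt))

theorem dvdL_spec {Φt : List ℤ} : ∀ {n : ℕ} {l : List ℤ}, dvdL Φt n l = true →
    ∃ Q : List ℤ, ∀ x : ℚ, evL x l = evL x (1 :: Φt) * evL x Q := by
  intro n
  induction n with
  | zero =>
    intro l h
    exact ⟨[], fun x => by rw [evL_zL x h, evL_nil, mul_zero]⟩
  | succ n ih =>
    intro l h
    cases l with
    | nil => exact ⟨[], fun x => by rw [evL_nil, mul_zero]⟩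
    | cons a l =>
      obtain ⟨Q, hQ⟩ := ih h
      refine ⟨a :: Q, fun x => ?_⟩
      have h1 := hQ x
      rw [evL_add, evL_sm, evL_cons x 1] at h1
      rw [evL_cons, evL_cons x 1, evL_cons x a Q]
      push_cast at h1 ⊢
      linear_combination x * h1

theorem evL_natCast (q : ℕ) (l : List ℤ) : evL (q : ℚ) l = ((evZ q l : ℤ) : ℚ) := by
  induction l with
  | nil => rw [evL_nil, evZ, Int.cast_zero]
  | cons a l ih =>
    rw [evL_cons, ih, evZ]
    push_cast
    ring

/-- the values at `1 / q` -/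
theorem exists_int_inv {q : ℕ} (hq : 0 < q) (l : List ℤ) {N : ℕ} (hN : l.length ≤ N) :
    ∃ z : ℤ, (q : ℚ) ^ N * evL (q : ℚ)⁻¹ l = z := by
  have hq0 : (q : ℚ) ≠ 0 := by exact_mod_cast hq.ne'
  refine ⟨(q : ℤ) ^ (N - l.length) * (q * evZ q l.reverse), ?_⟩
  have h1 := evL_inv hq0 l
  have h2 : (q : ℚ) ^ N = (q : ℚ) ^ (N - l.length) * (q : ℚ) ^ l.length := by
    rw [← pow_add, Nat.sub_add_cancel hN]
  rw [h2, mul_assoc, h1, evL_natCast]
  push_cast
  ring

/-- the values at `1 / q` of the multiples of `1 :: Φt` -/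
theorem exists_dvd_inv {q : ℕ} (hq : 0 < q) {p : ℕ} {Φt : List ℤ} (hpal : (1 :: Φt).reverse = 1 :: Φt)
    (hp : (p : ℤ) ∣ evZ q (1 :: Φt)) {n : ℕ} {l : List ℤ} (h : dvdL Φt n l = true) :
    ∃ N0 : ℕ, ∀ N, N0 ≤ N → ∃ z : ℤ, (q : ℚ) ^ N * evL (q : ℚ)⁻¹ l = p * z := by
  have hq0 : (q : ℚ) ≠ 0 := by exact_mod_cast hq.ne'
  obtain ⟨Q, hQ⟩ := dvdL_spec h
  obtain ⟨y, hy⟩ := hp
  refine ⟨(1 :: Φt).length + Q.length, fun N hN => ?_⟩
  obtain ⟨z, hz⟩ := exists_int_inv hq Q (N := N - (1 :: Φt).length) (by omega)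
  have h1 := evL_inv hq0 (1 :: Φt)
  rw [hpal, evL_natCast, hy] at h1
  refine ⟨q * y * z, ?_⟩
  have h2 : (q : ℚ) ^ N = (q : ℚ) ^ (1 :: Φt).length * (q : ℚ) ^ (N - (1 :: Φt).length) := by
    rw [← pow_add, Nat.add_sub_cancel' (by omega)]
  rw [hQ, h2]
  calc _ = ((q : ℚ) ^ (1 :: Φt).length * evL (q : ℚ)⁻¹ (1 :: Φt)) *
        ((q : ℚ) ^ (N - (1 :: Φt).length) * evL (q : ℚ)⁻¹ Q) := by ring
    _ = _ := by
      rw [h1, hz]
      push_cast
      ring

end Cfsg.Agent.H498.RP
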