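import Cfsg.Agent.H498.RP.ChevK

/-!
# Tables (helper498), generated
-/

set_option autoImplicit false
set_option maxRecDepth 100000
set_option maxHeartbeats 0

open Cfsg

namespace Cfsg.Agent.H498.RP

open Cfsg.Agent.ChevalleyStructure.CoxeterGeom Cfsg.Agent.H35.ExcIdx Cfsg.Lie Cfsg.Agent.Nodes.RGDChev
  Cfsg.Agent.Nodes.LeviDec Cfsg.Agent.ChevalleyStructure.CoxeterGeomTypes

universe u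

/-- the Cartan matrix -/
def cE8 : Fin 8 → Fin 8 → ℤ := ![![2, 0, -1, 0, 0, 0, 0, 0], ![0, 2, 0, -1, 0, 0, 0, 0], ![-1, 0, 2, -1, 0, 0, 0, 0], ![0, -1, -1, 2, -1, 0, 0, 0], ![0, 0, 0, -1, 2, -1, 0, 0], ![0, 0, 0, 0, -1, 2, -1, 0], ![0, 0, 0, 0, 0, -1, 2, -1], ![0, 0, 0, 0, 0, 0, -1, 2]]

theorem cE8_eq : cartanOf chevE8 8 = cE8 := by
  funext i j
  revert i j
  decide +kernel

theorem isCartan_cE8 : IsCartan CoxeterMatrix.E₈ cE8 := by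
  rw [← cE8_eq]
  exact isCartan_E8

namespace E8D7

/-- the table: vector, images, level, exponent -/
def T : BT Rw := .nd (.nd (.nd (.nd (.nd (.nd (.nd (.nd (.nd (.nd (.nd (.nd (.lf ⟨[-4, -5, -7, -10, -8, -6,
  -4, -2], [1, 0, 0, 0, 0, 0, 0, 0], 9, 0⟩) (.lf ⟨[2, 2, 3, 4, 3, 3, 2, 2], [2047, 2048, 2048, 2048, 2051,
  2043, 2065, 1509], 2, 16⟩)) (.lf ⟨[0, 0, -1, 0, 0, -1, 0, 0], [1023, 1024, 1030, 1018, 1008, 1129, 892,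
  1024], 4, 16⟩)) (.nd (.lf ⟨[-1, -2, -2, -3, -3, -1, -1, -1], [512, 513, 512, 505, 545, 426, 512, 827], 6,
  15⟩) (.lf ⟨[0, -1, 0, -1, -1, 0, 1, 1], [1536, 1537, 1532, 1536, 1543, 1536, 1454, 1209], 4, 16⟩))) (.nd
  (.nd (.lf ⟨[-2, -2, -3, -5, -5, -3, -2, -1], [257, 254, 253, 256, 287, 226, 256, 256], 7, 13⟩) (.lf ⟨[0, 1,
  0, 0, 1, 1, 1, 0], [1280, 1277, 1280, 1289, 1266, 1280, 1150, 1595], 4, 12⟩)) (.nd (.lf ⟨[0, -2, -2, -4,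
  -3, -2, -1, 0], [767, 768, 768, 775, 768, 768, 768, 453], 4, 26⟩) (.lf ⟨[2, 1, 2, 3, 2, 2, 2, 1], [1791,
  1794, 1796, 1785, 1810, 1792, 1680, 1792], 2, 20⟩)))) (.nd (.nd (.nd (.lf ⟨[-3, -4, -6, -8, -7, -5, -3,
  -1], [128, 128, 129, 127, 131, 128, 128, 29], 8, 13⟩) (.lf ⟨[1, 0, 1, 0, 1, 1, 0, 0], [1151, 1152, 1149,
  1161, 1136, 1102, 1282, 1152], 3, 19⟩)) (.nd (.lf ⟨[-1, -2, -3, -5, -4, -3, -2, 0], [639, 638, 640, 645,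
  640, 640, 720, 107], 6, 20⟩) (.lf ⟨[0, 1, 1, 1, 2, 2, 1, 1], [1665, 1662, 1661, 1675, 1652, 1619, 1776,
  1349], 4, 8⟩))) (.nd (.nd (.lf ⟨[-1, 0, -1, -1, -2, -2, -2, -1], [385, 382, 384, 379, 394, 384, 496, 384],
  6, 13⟩) (.lf ⟨[1, 2, 3, 4, 4, 2, 1, 0], [1409, 1408, 1405, 1411, 1373, 1436, 1408, 1721], 3, 10⟩)) (.nd
  (.lf ⟨[0, 1, 0, 0, 0, -1, -1, 0], [896, 893, 896, 900, 882, 933, 1028, 581], 4, 16⟩) (.lf ⟨[2, 4, 5, 7, 5,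
  3, 2, 1], [1921, 1918, 1917, 1920, 1920, 1950, 1920, 1920], 2, 9⟩))))) (.nd (.nd (.nd (.nd (.nd (.lf ⟨[-2,
  -2, -4, -6, -5, -4, -3, -2], [64, 61, 64, 68, 64, 64, 64, 163], 7, 18⟩) (.lf ⟨[2, 4, 5, 7, 6, 4, 3, 2],
  [2113, 2110, 2109, 2114, 2105, 2123, 2112, 2013], 2, 5⟩)) (.lf ⟨[-1, 1, 0, 1, 0, 0, 0, 0], [1089, 1086,
  1088, 1080, 1105, 1088, 1088, 1088], 6, 4⟩)) (.nd (.lf ⟨[-1, 0, -1, 0, 0, -1, -1, -1], [577, 576, 579, 572,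
  562, 607, 576, 891], 6, 9⟩) (.lf ⟨[-1, 1, 0, 1, 1, 1, 1, 1], [1601, 1598, 1600, 1600, 1600, 1600, 1600,
  1285], 6, 0⟩))) (.nd (.nd (.lf ⟨[-2, -2, -3, -5, -4, -2, -2, -1], [321, 318, 317, 325, 332, 233, 434, 320],
  7, 12⟩) (.lf ⟨[1, 1, 2, 2, 1, 2, 1, 0], [1344, 1344, 1343, 1344, 1377, 1254, 1344, 1659], 3, 14⟩)) (.nd
  (.lf ⟨[-1, -2, -2, -4, -2, -1, -1, 0], [832, 832, 831, 845, 820, 787, 962, 517], 6, 14⟩) (.lf ⟨[0, 2, 2, 3,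
  3, 3, 2, 1], [1857, 1854, 1852, 1863, 1856, 1811, 1856, 1856], 4, 2⟩)))) (.nd (.nd (.nd (.lf ⟨[-1, -2, -2,
  -4, -4, -3, -3, -1], [192, 192, 191, 192, 195, 181, 413, 93], 6, 19⟩) (.lf ⟨[0, -1, -1, -1, 0, 0, 1, 0],
  [1215, 1218, 1219, 1216, 1206, 1256, 921, 1540], 4, 17⟩)) (.nd (.lf ⟨[0, 0, 0, 1, 1, 0, 0, -1], [704, 705,
  707, 703, 697, 728, 622, 1485], 4, 14⟩) (.lf ⟨[2, 2, 4, 5, 4, 2, 1, 1], [1728, 1729, 1725, 1728, 1718,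
  1756, 1842, 1417], 2, 15⟩))) (.nd (.nd (.lf ⟨[-1, -3, -3, -4, -3, -2, -1, -1], [447, 450, 451, 443, 448,
  448, 336, 763], 6, 18⟩) (.lf ⟨[0, 0, 1, 0, 0, 0, 0, 1], [1473, 1472, 1466, 1478, 1472, 1472, 1551, 693], 4,
  14⟩)) (.nd (.lf ⟨[-2, -2, -3, -4, -2, -1, 0, 0], [961, 960, 960, 963, 946, 960, 830, 960], 7, 6⟩) (.lf ⟨[2,
  3, 3, 5, 4, 4, 3, 1], [1983, 1982, 1986, 1984, 1991, 1973, 1928, 2083], 2, 12⟩)))))) (.nd (.nd (.nd (.nd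
  (.nd (.nd (.lf ⟨[-3, -4, -6, -8, -6, -5, -3, -2], [32, 32, 33, 32, 29, 43, 15, 131], 8, 13⟩) (.lf ⟨[1, 2,
  3, 5, 4, 4, 3, 2], [2081, 2082, 2080, 2078, 2087, 2069, 2080, 1981], 3, 4⟩)) (.lf ⟨[1, 0, 0, -1, -1, 0, 0,
  0], [1055, 1054, 1056, 1061, 1073, 1006, 1056, 1056], 3, 23⟩)) (.nd (.lf ⟨[0, 0, 0, -1, -2, -1, -1, -1],
  [544, 543, 542, 544, 575, 499, 544, 859], 4, 19⟩) (.lf ⟨[1, 1, 1, 2, 1, 0, 1, 1], [1567, 1568, 1569, 1565,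
  1568, 1658, 1495, 1253], 3, 15⟩))) (.nd (.nd (.lf ⟨[-1, -2, -3, -5, -3, -3, -2, -1], [287, 286, 288, 299,
  257, 333, 288, 288], 6, 20⟩) (.lf ⟨[0, 1, 2, 2, 2, 1, 1, 0], [1313, 1312, 1306, 1319, 1295, 1357, 1182,
  1627], 4, 9⟩)) (.nd (.lf ⟨[-1, -2, -2, -2, -2, -2, -1, 0], [800, 803, 804, 787, 800, 845, 800, 485], 6,
  14⟩) (.lf ⟨[2, 3, 3, 4, 3, 2, 2, 1], [1823, 1822, 1824, 1829, 1824, 1869, 1712, 1824], 2, 16⟩)))) (.nd (.nd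
  (.nd (.lf ⟨[-2, -4, -4, -6, -5, -4, -3, -1], [160, 163, 160, 156, 160, 160, 216, 61], 7, 18⟩) (.lf ⟨[1, 2,
  2, 2, 2, 1, 0, 0], [1184, 1181, 1180, 1197, 1167, 1184, 1314, 1184], 3, 15⟩)) (.nd (.lf ⟨[0, 0, -1, -1, -1,
  0, 0, -1], [671, 670, 674, 672, 681, 656, 597, 1452], 4, 18⟩) (.lf ⟨[1, 2, 1, 3, 3, 2, 1, 1], [1695, 1694,
  1703, 1696, 1678, 1696, 1808, 1381], 3, 11⟩))) (.nd (.nd (.lf ⟨[0, -1, -1, -2, -1, -1, -2, -1], [415, 416,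
  416, 421, 410, 390, 649, 416], 4, 22⟩) (.lf ⟨[2, 2, 3, 5, 4, 3, 1, 0], [1439, 1442, 1443, 1437, 1440, 1412,
  1520, 1753], 2, 16⟩)) (.nd (.lf ⟨[-1, 0, -1, 0, 0, 0, -1, 0], [929, 928, 931, 922, 928, 891, 1223, 607], 6,
  7⟩) (.lf ⟨[2, 3, 4, 6, 6, 4, 2, 1], [1952, 1952, 1952, 1953, 1931, 1952, 2008, 1952], 2, 10⟩))))) (.nd (.nd
  (.nd (.nd (.nd (.lf ⟨[-1, -2, -2, -4, -3, -3, -3, -2], [96, 96, 95, 97, 93, 96, 113, 195], 6, 19⟩) (.lf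
  ⟨[3, 4, 6, 8, 6, 5, 4, 2], [2144, 2144, 2143, 2144, 2147, 2144, 2127, 2144], 1, 7⟩)) (.lf ⟨[-1, -1, -1, -1,
  0, 1, 0, 0], [1121, 1122, 1120, 1120, 1120, 1015, 1255, 1120], 6, 8⟩)) (.nd (.lf ⟨[0, 0, -1, 0, 0, 0, -1,
  -1], [607, 608, 613, 604, 608, 577, 687, 929], 4, 17⟩) (.lf ⟨[0, 2, 1, 3, 2, 1, 1, 1], [1633, 1630, 1636,
  1624, 1632, 1677, 1632, 1317], 4, 7⟩))) (.nd (.nd (.lf ⟨[0, -2, -1, -3, -3, -2, -2, -1], [351, 354, 348,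
  352, 370, 307, 464, 352], 4, 26⟩) (.lf ⟨[1, 1, 1, 2, 3, 2, 1, 0], [1375, 1376, 1377, 1379, 1343, 1376,
  1376, 1691], 3, 14⟩)) (.nd (.lf ⟨[0, -1, -2, -2, -1, -1, -1, 0], [863, 864, 870, 864, 847, 864, 994, 549],
  4, 20⟩) (.lf ⟨[1, 2, 2, 5, 4, 3, 2, 1], [1888, 1889, 1890, 1878, 1888, 1888, 1888, 1888], 3, 7⟩)))) (.nd
  (.nd (.nd (.lf ⟨[-2, -3, -3, -5, -5, -4, -2, -1], [225, 226, 222, 220, 231, 254, 168, 224], 7, 15⟩) (.lf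
  ⟨[1, 1, 1, 1, 1, 0, 1, 0], [1247, 1246, 1248, 1253, 1239, 1338, 954, 1565], 3, 17⟩)) (.nd (.lf ⟨[-1, -1,
  -2, -3, -3, -3, -1, 0], [736, 735, 736, 736, 736, 828, 660, 427], 6, 14⟩) (.lf ⟨[2, 3, 4, 6, 4, 3, 1, 1],
  [1760, 1760, 1760, 1757, 1768, 1730, 1976, 1445], 2, 12⟩))) (.nd (.nd (.lf ⟨[0, -1, -2, -3, -2, -2, -1,
  -1], [479, 478, 484, 487, 462, 525, 368, 795], 4, 24⟩) (.lf ⟨[1, 0, 1, 1, 1, 1, 0, 1], [1503, 1506, 1504,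
  1504, 1504, 1488, 1737, 732], 3, 17⟩)) (.nd (.lf ⟨[-1, -2, -2, -2, -1, -1, 0, 0], [992, 995, 996, 990, 975,
  1042, 862, 992], 6, 11⟩) (.lf ⟨[3, 4, 5, 8, 6, 4, 3, 1], [2015, 2016, 2017, 2014, 2016, 2027, 1960, 2115],
  1, 11⟩))))))) (.nd (.nd (.nd (.nd (.nd (.nd (.nd (.lf ⟨[-3, -4, -5, -8, -6, -5, -4, -2], [17, 16, 15, 18,
  13, 16, 33, 16], 8, 13⟩) (.lf ⟨[1, 2, 3, 4, 3, 3, 3, 2], [2065, 2064, 2063, 2064, 2067, 2064, 2047, 1965],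
  3, 7⟩)) (.lf ⟨[-1, -2, -2, -3, -1, 0, 0, 0], [1040, 1041, 1040, 1042, 1021, 990, 1040, 1040], 6, 11⟩)) (.nd
  (.lf ⟨[-1, -1, -1, -3, -2, -1, -1, -1], [529, 526, 521, 539, 528, 483, 528, 843], 6, 13⟩) (.lf ⟨[1, 0, 1,
  0, 0, 0, 1, 1], [1551, 1552, 1549, 1556, 1552, 1583, 1473, 1231], 3, 19⟩))) (.nd (.nd (.lf ⟨[-2, -2, -4,
  -4, -4, -3, -2, -1], [272, 272, 278, 263, 289, 272, 272, 272], 7, 13⟩) (.lf ⟨[2, 1, 2, 2, 1, 1, 1, 0],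
  [1295, 1296, 1296, 1296, 1313, 1296, 1166, 1611], 2, 25⟩)) (.nd (.lf ⟨[0, -1, -1, -2, -3, -2, -1, 0], [783,
  784, 784, 781, 817, 784, 784, 469], 4, 22⟩) (.lf ⟨[1, 2, 1, 3, 3, 2, 2, 1], [1807, 1806, 1815, 1808, 1790,
  1853, 1696, 1808], 3, 10⟩)))) (.nd (.nd (.nd (.lf ⟨[-2, -4, -5, -8, -6, -4, -3, -1], [143, 144, 144, 146,
  144, 133, 200, 45], 7, 22⟩) (.lf ⟨[1, 1, 2, 3, 1, 1, 0, 0], [1168, 1169, 1168, 1158, 1203, 1118, 1298,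
  1168], 3, 16⟩)) (.nd (.lf ⟨[0, 0, -1, -1, -1, -1, 0, -1], [655, 654, 658, 656, 656, 672, 423, 1428], 4,
  19⟩) (.lf ⟨[2, 1, 2, 3, 2, 2, 1, 1], [1679, 1682, 1684, 1673, 1698, 1635, 1792, 1365], 2, 21⟩))) (.nd (.nd
  (.lf ⟨[-1, -2, -2, -3, -2, -1, -2, -1], [400, 401, 400, 400, 400, 314, 633, 400], 6, 17⟩) (.lf ⟨[1, 2, 2,
  3, 3, 3, 1, 0], [1424, 1423, 1424, 1430, 1424, 1332, 1500, 1733], 3, 12⟩)) (.nd (.lf ⟨[0, -1, -1, -1, -1,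
  0, -1, 0], [911, 914, 915, 907, 921, 822, 1206, 595], 4, 19⟩) (.lf ⟨[2, 2, 4, 5, 5, 4, 2, 1], [1936, 1937,
  1933, 1940, 1929, 1906, 1992, 1936], 2, 12⟩))))) (.nd (.nd (.nd (.nd (.nd (.lf ⟨[-2, -2, -3, -4, -4, -4,
  -3, -2], [81, 80, 80, 78, 80, 91, 80, 179], 7, 14⟩) (.lf ⟨[2, 4, 5, 8, 7, 5, 3, 2], [2129, 2128, 2128,
  2128, 2125, 2128, 2145, 2029], 2, 2⟩)) (.lf ⟨[1, 0, 0, 1, 1, 0, 0, 0], [1103, 1106, 1107, 1099, 1087, 1154,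
  1104, 1104], 3, 20⟩)) (.nd (.lf ⟨[0, -1, -1, -2, -1, 0, -1, -1], [591, 592, 592, 595, 592, 502, 665, 907],
  4, 21⟩) (.lf ⟨[0, 1, 0, 1, 2, 1, 1, 1], [1616, 1615, 1619, 1621, 1585, 1661, 1616, 1301], 4, 10⟩))) (.nd
  (.nd (.lf ⟨[-1, -3, -3, -4, -3, -2, -2, -1], [335, 338, 339, 331, 336, 291, 448, 336], 6, 19⟩) (.lf ⟨[0, 1,
  1, 3, 2, 2, 1, 0], [1361, 1362, 1364, 1349, 1378, 1315, 1360, 1675], 4, 8⟩)) (.nd (.lf ⟨[-1, 0, -2, -2, -2,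
  -1, -1, 0], [848, 845, 851, 848, 865, 803, 978, 533], 6, 12⟩) (.lf ⟨[2, 2, 3, 5, 3, 3, 2, 1], [1871, 1874,
  1875, 1861, 1903, 1827, 1872, 1872], 2, 15⟩)))) (.nd (.nd (.nd (.lf ⟨[-3, -4, -5, -7, -5, -4, -2, -1],
  [209, 210, 208, 208, 201, 238, 152, 208], 8, 7⟩) (.lf ⟨[1, 1, 2, 3, 2, 2, 0, 0], [1232, 1233, 1232, 1225,
  1241, 1137, 1474, 1232], 3, 15⟩)) (.nd (.lf ⟨[-1, -2, -3, -5, -4, -3, -1, 0], [719, 718, 720, 723, 720,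
  748, 640, 407], 6, 19⟩) (.lf ⟨[1, 1, 1, 2, 1, 1, 2, 1], [1743, 1744, 1745, 1739, 1750, 1770, 1511, 1744],
  3, 14⟩))) (.nd (.nd (.lf ⟨[0, -2, -1, -3, -3, -2, -1, -1], [463, 466, 460, 464, 482, 464, 352, 779], 4,
  25⟩) (.lf ⟨[1, 0, 1, 1, 1, 0, 0, 1], [1487, 1490, 1488, 1488, 1479, 1504, 1563, 708], 3, 18⟩)) (.nd (.lf
  ⟨[-2, -1, -2, -2, -2, -1, 0, 0], [977, 976, 976, 969, 993, 976, 846, 976], 7, 2⟩) (.lf ⟨[2, 3, 5, 6, 5, 4,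
  3, 1], [2001, 2000, 1995, 2004, 2000, 2000, 1944, 2099], 2, 9⟩)))))) (.nd (.nd (.nd (.nd (.nd (.nd (.lf
  ⟨[-3, -3, -5, -7, -6, -4, -3, -2], [49, 46, 48, 48, 55, 37, 48, 147], 8, 9⟩) (.lf ⟨[1, 3, 4, 6, 5, 4, 3,
  2], [2097, 2096, 2093, 2096, 2096, 2096, 2096, 1997], 3, 0⟩)) (.lf ⟨[-1, 0, 0, -1, 0, 0, 0, 0], [1073,
  1070, 1069, 1086, 1055, 1072, 1072, 1072], 6, 6⟩)) (.nd (.lf ⟨[-1, 0, 0, -1, -1, -1, -1, -1], [561, 558,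
  557, 565, 560, 560, 560, 875], 6, 10⟩) (.lf ⟨[0, 0, 0, 1, 0, 1, 1, 1], [1584, 1585, 1586, 1575, 1615, 1553,
  1584, 1269], 4, 12⟩))) (.nd (.nd (.lf ⟨[-2, -1, -2, -3, -3, -3, -2, -1], [305, 302, 300, 304, 304, 349,
  304, 304], 7, 9⟩) (.lf ⟨[1, 2, 3, 4, 2, 1, 1, 0], [1329, 1328, 1327, 1325, 1340, 1373, 1198, 1643], 3,
  12⟩)) (.nd (.lf ⟨[-1, -1, -1, -2, -1, -2, -1, 0], [817, 816, 815, 821, 783, 906, 816, 501], 6, 12⟩) (.lf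
  ⟨[1, 3, 3, 5, 4, 2, 2, 1], [1841, 1838, 1840, 1840, 1828, 1927, 1726, 1840], 3, 6⟩)))) (.nd (.nd (.nd (.lf
  ⟨[-1, -3, -3, -5, -4, -4, -3, -1], [175, 178, 176, 176, 169, 187, 232, 77], 6, 23⟩) (.lf ⟨[-1, -1, -2, -2,
  -1, 0, 1, 0], [1200, 1200, 1201, 1200, 1200, 1200, 905, 1528], 6, 11⟩)) (.nd (.lf ⟨[0, -1, 0, 0, 0, 0, 0,
  -1], [688, 691, 688, 682, 688, 688, 609, 1468], 4, 16⟩) (.lf ⟨[2, 3, 3, 4, 3, 2, 1, 1], [1711, 1710, 1712,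
  1717, 1712, 1712, 1824, 1397], 2, 17⟩))) (.nd (.nd (.lf ⟨[-2, -3, -3, -5, -4, -2, -1, -1], [433, 434, 430,
  432, 442, 404, 318, 745], 7, 12⟩) (.lf ⟨[0, 0, 0, 0, -1, 0, 0, 1], [1456, 1456, 1456, 1455, 1482, 1434,
  1538, 677], 4, 15⟩)) (.nd (.lf ⟨[1, 1, 1, 1, 0, 0, -1, 0], [943, 942, 944, 944, 954, 904, 1239, 620], 3,
  19⟩) (.lf ⟨[1, 2, 3, 4, 4, 3, 3, 1], [1969, 1968, 1967, 1970, 1965, 1979, 1747, 2067], 3, 7⟩))))) (.nd (.nd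
  (.nd (.nd (.lf ⟨[-1, -2, -3, -4, -3, -3, -2, -2], [111, 112, 113, 112, 109, 117, 95, 651], 6, 19⟩) (.lf
  ⟨[1, 0, 1, 0, 0, 1, 0, 0], [1135, 1136, 1133, 1142, 1152, 1031, 1268, 1136], 3, 20⟩)) (.nd (.lf ⟨[-2, -3,
  -4, -6, -5, -3, -2, 0], [624, 624, 624, 624, 632, 593, 706, 100], 7, 16⟩) (.lf ⟨[0, 0, 0, 1, 1, 2, 1, 1],
  [1648, 1649, 1650, 1645, 1660, 1560, 1762, 1333], 4, 11⟩))) (.nd (.nd (.lf ⟨[0, -1, -2, -3, -2, -2, -2,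
  -1], [367, 366, 372, 375, 350, 368, 480, 368], 4, 25⟩) (.lf ⟨[2, 2, 2, 4, 3, 2, 1, 0], [1391, 1392, 1398,
  1385, 1392, 1392, 1392, 1707], 2, 19⟩)) (.nd (.lf ⟨[-1, 0, 0, 0, -1, -1, -1, 0], [881, 880, 877, 875, 894,
  880, 1010, 565], 6, 8⟩) (.lf ⟨[1, 3, 3, 5, 5, 3, 2, 1], [1905, 1902, 1904, 1908, 1873, 1934, 1904, 1904],
  3, 5⟩)))) (.nd (.nd (.nd (.lf ⟨[-3, -3, -5, -7, -5, -3, -2, -1], [241, 238, 240, 244, 240, 210, 240, 240],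
  8, 5⟩) (.lf ⟨[-1, 0, 0, 0, 0, 1, 1, 0], [1265, 1264, 1261, 1264, 1278, 1227, 1132, 1579], 6, 4⟩)) (.nd (.lf
  ⟨[1, 1, 2, 3, 2, 1, 0, -1], [752, 753, 752, 749, 752, 752, 752, 1525], 3, 13⟩) (.lf ⟨[0, 1, 1, 1, 2, 2, 2,
  1], [1777, 1774, 1773, 1787, 1766, 1776, 1664, 1776], 4, 7⟩))) (.nd (.nd (.lf ⟨[-1, 0, -1, -1, -2, -2, -1,
  -1], [497, 494, 496, 491, 508, 541, 384, 811], 6, 12⟩) (.lf ⟨[2, 2, 3, 5, 4, 3, 2, 0], [1519, 1522, 1523,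
  1515, 1520, 1520, 1440, 2053], 2, 15⟩)) (.nd (.lf ⟨[0, 0, -1, 0, -1, -1, 0, 0], [1007, 1008, 1013, 999,
  1024, 1058, 878, 1008], 4, 17⟩) (.lf ⟨[3, 4, 6, 9, 7, 5, 3, 1], [2032, 2033, 2032, 2031, 2032, 2032, 2032,
  2131], 1, 7⟩)))))))) (.nd (.nd (.nd (.nd (.nd (.nd (.nd (.nd (.lf ⟨[-3, -4, -5, -8, -7, -6, -4, -2], [9, 8,
  7, 8, 8, 13, 8, 8], 8, 15⟩) (.lf ⟨[2, 2, 4, 5, 4, 3, 2, 2], [2056, 2057, 2053, 2056, 2056, 2056, 2073,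
  1523], 2, 13⟩)) (.lf ⟨[-1, -1, -1, -2, -2, 0, 0, 0], [1033, 1032, 1029, 1032, 1066, 937, 1032, 1032], 6,
  9⟩)) (.nd (.lf ⟨[-2, -1, -3, -3, -2, -1, -1, -1], [521, 518, 524, 520, 520, 475, 520, 835], 7, 6⟩) (.lf
  ⟨[0, 0, 0, -1, 0, 0, 1, 1], [1544, 1543, 1542, 1553, 1537, 1575, 1462, 1220], 4, 14⟩))) (.nd (.nd (.lf
  ⟨[-2, -3, -3, -6, -4, -3, -2, -1], [265, 264, 259, 273, 250, 264, 264, 264], 7, 14⟩) (.lf ⟨[1, 1, 2, 1, 1,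
  1, 1, 0], [1288, 1287, 1286, 1298, 1288, 1288, 1158, 1603], 3, 16⟩)) (.nd (.lf ⟨[-2, -1, -2, -3, -3, -2,
  -1, 0], [777, 774, 772, 776, 794, 776, 776, 461], 7, 6⟩) (.lf ⟨[1, 2, 3, 4, 2, 2, 2, 1], [1801, 1800, 1799,
  1797, 1833, 1800, 1688, 1800], 3, 9⟩)))) (.nd (.nd (.nd (.lf ⟨[-3, -3, -5, -7, -6, -5, -3, -1], [137, 134,
  136, 136, 136, 147, 136, 37], 8, 9⟩) (.lf ⟨[0, 0, 1, 2, 1, 1, 0, 0], [1161, 1162, 1160, 1151, 1177, 1110,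
  1290, 1160], 4, 12⟩)) (.nd (.lf ⟨[-1, -1, -1, -2, -1, -1, 0, -1], [649, 648, 647, 653, 642, 664, 415,
  1421], 6, 12⟩) (.lf ⟨[0, 1, 2, 2, 2, 2, 1, 1], [1673, 1672, 1666, 1679, 1672, 1627, 1784, 1357], 4, 7⟩)))
  (.nd (.nd (.lf ⟨[-1, -1, -1, -1, -1, -2, -2, -1], [393, 394, 392, 389, 382, 420, 506, 392], 6, 13⟩) (.lf
  ⟨[0, -1, -1, -2, -2, -1, 0, 1], [1415, 1416, 1416, 1416, 1422, 1416, 1416, 643], 4, 21⟩)) (.nd (.lf ⟨[1, 1,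
  1, 1, 0, -1, -1, 0], [903, 902, 904, 904, 904, 944, 1039, 589], 3, 20⟩) (.lf ⟨[2, 3, 3, 5, 4, 4, 2, 1],
  [1927, 1926, 1930, 1928, 1935, 1841, 1984, 1928], 2, 13⟩))))) (.nd (.nd (.nd (.nd (.nd (.lf ⟨[-1, -2, -3,
  -5, -5, -4, -3, -2], [71, 70, 72, 72, 79, 72, 72, 171], 6, 24⟩) (.lf ⟨[2, 4, 4, 7, 6, 5, 3, 2], [2120,
  2119, 2123, 2120, 2120, 2109, 2137, 2021], 2, 5⟩)) (.lf ⟨[1, 1, 2, 2, 0, 0, 0, 0], [1096, 1096, 1093, 1091,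
  1130, 1096, 1096, 1096], 3, 18⟩)) (.nd (.lf ⟨[0, 0, 0, 1, 0, -1, -1, -1], [584, 585, 586, 575, 584, 615,
  584, 899], 4, 17⟩) (.lf ⟨[1, 2, 1, 2, 1, 1, 1, 1], [1607, 1606, 1612, 1608, 1625, 1608, 1608, 1293], 3,
  15⟩))) (.nd (.nd (.lf ⟨[-2, -3, -4, -5, -3, -2, -2, -1], [328, 329, 330, 328, 316, 283, 440, 328], 7, 13⟩)
  (.lf ⟨[0, 0, 1, 2, 2, 2, 1, 0], [1353, 1354, 1352, 1347, 1352, 1307, 1352, 1667], 4, 9⟩)) (.nd (.lf ⟨[0,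
  -1, -2, -3, -2, -1, -1, 0], [839, 838, 844, 847, 840, 795, 970, 525], 4, 22⟩) (.lf ⟨[2, 2, 2, 4, 3, 3, 2,
  1], [1863, 1864, 1870, 1857, 1881, 1819, 1864, 1864], 2, 16⟩)))) (.nd (.nd (.nd (.lf ⟨[-2, -4, -5, -8, -6,
  -4, -2, -1], [199, 200, 200, 202, 200, 200, 144, 200], 7, 21⟩) (.lf ⟨[0, 0, -1, 0, 0, 0, 1, 0], [1223,
  1224, 1230, 1218, 1224, 1262, 929, 1546], 4, 15⟩)) (.nd (.lf ⟨[1, 1, 1, 2, 1, 0, 0, -1], [711, 712, 713,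
  710, 712, 738, 630, 1495], 3, 17⟩) (.lf ⟨[0, 0, 1, 1, 1, 1, 2, 1], [1737, 1738, 1734, 1736, 1736, 1764,
  1503, 1736], 4, 10⟩))) (.nd (.nd (.lf ⟨[-1, -2, -3, -3, -3, -2, -1, -1], [455, 458, 463, 445, 474, 456,
  344, 771], 6, 17⟩) (.lf ⟨[0, 1, 1, 1, 0, 0, 0, 1], [1481, 1478, 1477, 1480, 1489, 1480, 1557, 701], 4,
  12⟩)) (.nd (.lf ⟨[0, -2, -2, -3, -2, -1, 0, 0], [967, 970, 972, 968, 968, 968, 838, 968], 4, 22⟩) (.lf ⟨[2,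
  2, 4, 5, 5, 4, 3, 1], [1992, 1993, 1989, 1996, 1985, 1992, 1936, 2091], 2, 11⟩)))))) (.nd (.nd (.nd (.nd
  (.nd (.nd (.lf ⟨[-2, -3, -4, -7, -6, -5, -3, -2], [40, 39, 38, 41, 40, 51, 23, 139], 7, 21⟩) (.lf ⟨[2, 2,
  3, 5, 5, 4, 3, 2], [2087, 2090, 2091, 2088, 2081, 2088, 2088, 1989], 2, 11⟩)) (.lf ⟨[0, 0, 1, 0, -1, 0, 0,
  0], [1065, 1064, 1058, 1064, 1101, 1013, 1064, 1064], 4, 15⟩)) (.nd (.lf ⟨[0, -2, -1, -2, -1, -1, -1, -1],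
  [551, 554, 552, 552, 535, 552, 552, 867], 4, 21⟩) (.lf ⟨[-1, 0, -1, 0, 0, 1, 1, 1], [1577, 1576, 1579,
  1572, 1590, 1545, 1576, 1261], 6, 4⟩))) (.nd (.nd (.lf ⟨[0, -2, -2, -4, -3, -3, -2, -1], [295, 296, 296,
  303, 279, 341, 296, 296], 4, 29⟩) (.lf ⟨[2, 1, 2, 3, 2, 1, 1, 0], [1319, 1322, 1324, 1313, 1320, 1365,
  1190, 1635], 2, 23⟩)) (.nd (.lf ⟨[0, -1, 0, -2, -2, -2, -1, 0], [808, 808, 802, 813, 808, 853, 808, 493],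
  4, 21⟩) (.lf ⟨[1, 2, 2, 4, 4, 2, 2, 1], [1832, 1832, 1833, 1832, 1799, 1922, 1720, 1832], 3, 9⟩)))) (.nd
  (.nd (.nd (.lf ⟨[-2, -3, -3, -5, -5, -4, -3, -1], [169, 170, 166, 164, 175, 168, 224, 69], 7, 16⟩) (.lf
  ⟨[2, 2, 2, 3, 2, 1, 0, 0], [1191, 1190, 1196, 1192, 1192, 1192, 1322, 1192], 2, 23⟩)) (.nd (.lf ⟨[-1, 0,
  -1, -1, 0, 0, 0, -1], [681, 678, 680, 686, 671, 680, 603, 1459], 6, 8⟩) (.lf ⟨[2, 2, 3, 3, 3, 2, 1, 1],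
  [1703, 1702, 1700, 1715, 1686, 1704, 1816, 1389], 2, 18⟩))) (.nd (.nd (.lf ⟨[0, -1, 0, -1, -1, -1, -2, -1],
  [424, 425, 421, 424, 424, 396, 657, 424], 4, 20⟩) (.lf ⟨[0, -1, -1, -2, -1, 0, 0, 1], [1447, 1448, 1448,
  1450, 1448, 1422, 1530, 665], 4, 19⟩)) (.nd (.lf ⟨[1, 0, 1, 0, 0, 0, -1, 0], [935, 936, 932, 942, 936, 898,
  1231, 614], 3, 21⟩) (.lf ⟨[3, 4, 5, 8, 6, 4, 2, 1], [1959, 1960, 1961, 1958, 1960, 1960, 2016, 1960], 1,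
  12⟩))))) (.nd (.nd (.nd (.nd (.nd (.lf ⟨[-2, -3, -3, -5, -4, -3, -2, -2], [105, 106, 102, 104, 104, 104,
  87, 637], 7, 14⟩) (.lf ⟨[3, 4, 6, 8, 7, 6, 4, 2], [2152, 2152, 2151, 2153, 2152, 2147, 2152, 2152], 1, 5⟩))
  (.lf ⟨[-1, 0, -1, 0, 0, 1, 0, 0], [1129, 1128, 1132, 1122, 1145, 1023, 1261, 1128], 6, 6⟩)) (.nd (.lf ⟨[0,
  1, 0, 1, 0, 0, -1, -1], [616, 615, 619, 612, 623, 585, 698, 940], 4, 15⟩) (.lf ⟨[1, 2, 3, 3, 2, 1, 1, 1],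
  [1641, 1638, 1633, 1643, 1640, 1685, 1640, 1325], 3, 12⟩))) (.nd (.nd (.lf ⟨[-1, -2, -2, -4, -2, -2, -2,
  -1], [360, 360, 359, 373, 327, 360, 472, 360], 6, 17⟩) (.lf ⟨[0, 2, 2, 3, 3, 2, 1, 0], [1385, 1382, 1380,
  1391, 1366, 1384, 1384, 1699], 4, 5⟩)) (.nd (.lf ⟨[-1, 0, -2, -1, -1, -1, -1, 0], [872, 871, 875, 865, 872,
  872, 1002, 557], 6, 10⟩) (.lf ⟨[2, 2, 4, 6, 4, 3, 2, 1], [1896, 1899, 1896, 1887, 1910, 1896, 1896, 1896],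
  2, 13⟩)))) (.nd (.nd (.nd (.lf ⟨[-1, -3, -3, -5, -4, -4, -2, -1], [231, 234, 232, 232, 225, 319, 176, 232],
  6, 22⟩) (.lf ⟨[0, -1, -1, -1, 0, 1, 1, 0], [1255, 1258, 1259, 1256, 1256, 1216, 1121, 1571], 4, 16⟩)) (.nd
  (.lf ⟨[1, 1, 1, 2, 2, 1, 0, -1], [743, 744, 749, 744, 738, 744, 744, 1517], 3, 15⟩) (.lf ⟨[2, 3, 4, 6, 5,
  3, 1, 1], [1768, 1768, 1768, 1768, 1760, 1768, 1977, 1453], 2, 11⟩))) (.nd (.nd (.lf ⟨[-1, 0, -2, -2, -2,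
  -2, -1, -1], [488, 485, 491, 488, 488, 533, 376, 803], 6, 14⟩) (.lf ⟨[1, 1, 2, 2, 1, 1, 0, 1], [1512, 1512,
  1511, 1512, 1518, 1496, 1745, 739], 3, 14⟩)) (.nd (.lf ⟨[0, -1, 0, -2, -1, -1, 0, 0], [1000, 1000, 994,
  1009, 983, 1050, 870, 1000], 4, 18⟩) (.lf ⟨[2, 4, 5, 7, 6, 5, 3, 1], [2025, 2022, 2021, 2026, 2024, 2013,
  2024, 2123], 2, 5⟩))))))) (.nd (.nd (.nd (.nd (.nd (.nd (.nd (.lf ⟨[-2, -3, -4, -6, -6, -5, -4, -2], [24,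
  24, 24, 23, 25, 24, 41, 24], 7, 21⟩) (.lf ⟨[2, 3, 3, 5, 4, 3, 3, 2], [2071, 2070, 2074, 2072, 2072, 2083,
  2055, 1973], 2, 12⟩)) (.lf ⟨[-1, 0, -1, -2, -1, 0, 0, 0], [1049, 1046, 1045, 1057, 1048, 998, 1048, 1048],
  6, 8⟩)) (.nd (.lf ⟨[-1, 0, -1, -2, -2, -1, -1, -1], [537, 534, 533, 541, 553, 491, 536, 851], 6, 12⟩) (.lf
  ⟨[0, 0, 0, 1, 1, 0, 1, 1], [1560, 1561, 1562, 1559, 1553, 1648, 1485, 1243], 4, 12⟩))) (.nd (.nd (.lf ⟨[-1,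
  -1, -2, -4, -4, -3, -2, -1], [280, 277, 276, 282, 297, 280, 280, 280], 6, 19⟩) (.lf ⟨[0, 1, 1, 1, 2, 1, 1,
  0], [1305, 1302, 1301, 1315, 1273, 1349, 1174, 1619], 4, 10⟩)) (.nd (.lf ⟨[-2, -2, -2, -3, -2, -2, -1, 0],
  [793, 794, 788, 792, 774, 837, 792, 477], 7, 6⟩) (.lf ⟨[2, 2, 3, 3, 3, 2, 2, 1], [1815, 1814, 1812, 1827,
  1798, 1861, 1704, 1816], 2, 17⟩)))) (.nd (.nd (.nd (.lf ⟨[-3, -4, -5, -7, -5, -4, -3, -1], [153, 154, 152,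
  152, 145, 152, 208, 53], 8, 8⟩) (.lf ⟨[0, 1, 0, 2, 2, 1, 0, 0], [1176, 1176, 1182, 1171, 1159, 1176, 1306,
  1176], 4, 11⟩)) (.nd (.lf ⟨[-1, -1, -1, -2, -1, 0, 0, -1], [665, 664, 663, 669, 664, 648, 591, 1447], 6,
  11⟩) (.lf ⟨[1, 2, 3, 4, 2, 2, 1, 1], [1689, 1688, 1687, 1685, 1721, 1643, 1800, 1373], 3, 10⟩))) (.nd (.nd
  (.lf ⟨[-1, -1, -2, -2, -2, -1, -2, -1], [408, 408, 409, 401, 414, 322, 641, 408], 6, 15⟩) (.lf ⟨[1, 2, 3,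
  4, 3, 3, 1, 0], [1433, 1432, 1430, 1432, 1436, 1340, 1508, 1741], 3, 10⟩)) (.nd (.lf ⟨[-1, -1, -1, -1, 0,
  0, -1, 0], [921, 922, 920, 920, 911, 885, 1215, 601], 6, 9⟩) (.lf ⟨[2, 3, 5, 6, 5, 4, 2, 1], [1945, 1944,
  1939, 1948, 1944, 1914, 2000, 1944], 2, 10⟩))))) (.nd (.nd (.nd (.nd (.nd (.lf ⟨[-1, -3, -3, -5, -4, -3,
  -3, -2], [87, 90, 88, 88, 88, 77, 105, 187], 6, 23⟩) (.lf ⟨[2, 3, 4, 7, 6, 5, 4, 2], [2136, 2137, 2138,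
  2135, 2136, 2136, 2119, 2136], 2, 5⟩)) (.lf ⟨[0, 2, 1, 2, 1, 0, 0, 0], [1113, 1110, 1112, 1112, 1112, 1162,
  1112, 1112], 4, 12⟩)) (.nd (.lf ⟨[0, 0, 0, 0, -1, 0, -1, -1], [600, 600, 600, 599, 621, 514, 677, 919], 4,
  17⟩) (.lf ⟨[0, 2, 1, 2, 2, 1, 1, 1], [1625, 1622, 1624, 1632, 1607, 1669, 1624, 1309], 4, 8⟩))) (.nd (.nd
  (.lf ⟨[-1, -2, -3, -3, -3, -2, -2, -1], [343, 346, 351, 333, 362, 299, 456, 344], 6, 18⟩) (.lf ⟨[1, 1, 3,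
  3, 2, 2, 1, 0], [1369, 1370, 1361, 1368, 1386, 1323, 1368, 1683], 3, 13⟩)) (.nd (.lf ⟨[-1, 0, -1, -1, -2,
  -1, -1, 0], [857, 854, 856, 851, 887, 811, 986, 541], 6, 10⟩) (.lf ⟨[0, 2, 2, 4, 4, 3, 2, 1], [1881, 1880,
  1880, 1880, 1863, 1880, 1880, 1880], 4, 0⟩)))) (.nd (.nd (.nd (.lf ⟨[-2, -4, -4, -6, -5, -4, -2, -1], [216,
  219, 216, 212, 216, 246, 160, 216], 7, 17⟩) (.lf ⟨[0, 0, 0, 0, 1, 0, 1, 0], [1240, 1240, 1240, 1243, 1214,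
  1330, 945, 1559], 4, 14⟩)) (.nd (.lf ⟨[0, 0, 0, 1, 1, 1, 0, -1], [728, 730, 731, 725, 728, 704, 728, 1501],
  4, 13⟩) (.lf ⟨[1, 2, 3, 5, 4, 3, 1, 1], [1753, 1754, 1752, 1747, 1752, 1724, 1970, 1439], 3, 7⟩))) (.nd
  (.nd (.lf ⟨[-1, -2, -2, -4, -2, -2, -1, -1], [472, 472, 471, 485, 439, 517, 360, 787], 6, 16⟩) (.lf ⟨[1, 1,
  2, 2, 1, 0, 0, 1], [1496, 1496, 1495, 1496, 1496, 1512, 1569, 713], 3, 15⟩)) (.nd (.lf ⟨[-1, -1, -1, -1,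
  -2, -1, 0, 0], [985, 986, 984, 973, 1015, 984, 854, 984], 6, 10⟩) (.lf ⟨[2, 3, 4, 6, 6, 4, 3, 1], [2008,
  2008, 2008, 2009, 1987, 2019, 1952, 2107], 2, 9⟩)))))) (.nd (.nd (.nd (.nd (.nd (.nd (.lf ⟨[-2, -3, -5, -7,
  -5, -4, -3, -2], [55, 54, 58, 60, 49, 56, 56, 155], 7, 20⟩) (.lf ⟨[3, 3, 5, 7, 5, 4, 3, 2], [2103, 2106,
  2104, 2100, 2111, 2104, 2104, 2005], 1, 13⟩)) (.lf ⟨[-1, 1, 0, 0, 0, 0, 0, 0], [1081, 1078, 1076, 1088,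
  1080, 1080, 1080, 1080], 6, 5⟩)) (.nd (.lf ⟨[0, 0, 1, 0, -1, -1, -1, -1], [569, 568, 563, 568, 582, 568,
  568, 883], 4, 18⟩) (.lf ⟨[0, -1, 0, 0, 1, 1, 1, 1], [1592, 1595, 1592, 1592, 1578, 1592, 1592, 1277], 4,
  12⟩))) (.nd (.nd (.lf ⟨[0, -1, -1, -2, -3, -3, -2, -1], [311, 312, 312, 309, 324, 357, 312, 312], 4, 25⟩)
  (.lf ⟨[1, 0, 1, 1, 1, 2, 1, 0], [1335, 1338, 1336, 1336, 1348, 1246, 1336, 1651], 3, 17⟩)) (.nd (.lf ⟨[0,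
  0, -1, -1, -1, -2, -1, 0], [823, 822, 826, 824, 812, 914, 824, 509], 4, 19⟩) (.lf ⟨[1, 1, 1, 2, 3, 3, 2,
  1], [1847, 1848, 1849, 1851, 1836, 1803, 1848, 1848], 3, 11⟩)))) (.nd (.nd (.nd (.lf ⟨[-2, -3, -4, -5, -4,
  -3, -3, -1], [184, 185, 186, 183, 184, 173, 402, 85], 7, 15⟩) (.lf ⟨[0, 0, -1, -1, -1, 0, 1, 0], [1207,
  1206, 1211, 1208, 1218, 1208, 914, 1534], 4, 17⟩)) (.nd (.lf ⟨[0, -1, -1, -2, -2, -2, -2, 0], [695, 696,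
  696, 696, 696, 696, 938, 125], 5, 11⟩) (.lf ⟨[1, 2, 2, 4, 4, 2, 1, 1], [1720, 1720, 1721, 1720, 1687, 1746,
  1832, 1405], 3, 10⟩))) (.nd (.nd (.lf ⟨[-2, -3, -4, -5, -3, -2, -1, -1], [440, 441, 442, 440, 430, 440,
  328, 755], 7, 12⟩) (.lf ⟨[1, 1, 1, 2, 2, 2, 2, 0], [1463, 1464, 1467, 1464, 1464, 1464, 1222, 2035], 3,
  16⟩)) (.nd (.lf ⟨[1, 0, 1, 1, 1, 0, -1, 0], [951, 954, 952, 952, 942, 952, 1246, 626], 3, 19⟩) (.lf ⟨[2, 3,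
  4, 6, 4, 3, 3, 1], [1976, 1976, 1976, 1975, 1977, 1987, 1760, 2075], 2, 11⟩))))) (.nd (.nd (.nd (.nd (.lf
  ⟨[-1, -1, -2, -3, -3, -2, -2, -2], [120, 119, 120, 120, 122, 115, 120, 676], 6, 15⟩) (.lf ⟨[1, 1, 1, 1, 0,
  1, 0, 0], [1143, 1142, 1144, 1144, 1175, 1039, 1274, 1144], 3, 18⟩)) (.nd (.lf ⟨[-2, -3, -4, -6, -4, -3,
  -2, 0], [632, 632, 632, 635, 624, 632, 714, 101], 7, 15⟩) (.lf ⟨[2, 2, 3, 4, 3, 1, 1, 1], [1655, 1656,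
  1656, 1656, 1644, 1742, 1656, 1341], 2, 18⟩))) (.nd (.nd (.lf ⟨[-1, 0, -2, -2, -2, -2, -2, -1], [376, 373,
  379, 376, 376, 376, 488, 376], 6, 15⟩) (.lf ⟨[2, 2, 3, 5, 3, 2, 1, 0], [1399, 1402, 1403, 1389, 1412, 1400,
  1400, 1715], 2, 18⟩)) (.nd (.lf ⟨[0, 0, -1, -1, 0, -1, -1, 0], [887, 886, 890, 892, 857, 923, 1018, 573],
  4, 18⟩) (.lf ⟨[3, 3, 4, 6, 5, 3, 2, 1], [1911, 1912, 1915, 1912, 1898, 1942, 1912, 1912], 1, 18⟩)))) (.nd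
  (.nd (.nd (.lf ⟨[-1, -3, -4, -6, -5, -3, -2, -1], [247, 248, 251, 248, 262, 218, 248, 248], 6, 24⟩) (.lf
  ⟨[1, 0, 1, 1, 0, 1, 1, 0], [1271, 1274, 1272, 1268, 1303, 1237, 1142, 1587], 3, 18⟩)) (.nd (.lf ⟨[-1, -2,
  -3, -5, -3, -2, -1, 0], [759, 758, 760, 771, 748, 760, 760, 445], 6, 17⟩) (.lf ⟨[0, 1, 2, 2, 2, 2, 2, 1],
  [1785, 1784, 1778, 1791, 1784, 1784, 1672, 1784], 4, 6⟩))) (.nd (.nd (.lf ⟨[-1, -2, -3, -4, -3, -1, -1,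
  -1], [503, 504, 505, 504, 516, 418, 504, 819], 6, 17⟩) (.lf ⟨[-1, -1, -2, -2, -1, 0, 1, 1], [1528, 1528,
  1529, 1528, 1528, 1528, 1446, 1200], 6, 10⟩)) (.nd (.lf ⟨[0, -1, -1, -1, 0, -1, 0, 0], [1015, 1018, 1019,
  1016, 985, 1121, 886, 1016], 4, 18⟩) (.lf ⟨[1, 2, 2, 3, 3, 2, 2, 2], [2040, 2039, 2040, 2041, 2038, 2045,
  2040, 1484], 3, 11⟩))))))))) (.nd (.nd (.nd (.nd (.nd (.nd (.nd (.nd (.nd (.lf ⟨[-3, -4, -6, -9, -8, -6,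
  -4, -2], [4, 3, 4, 4, 6, 4, 4, 4], 8, 18⟩) (.lf ⟨[1, 2, 3, 5, 4, 3, 2, 2], [2053, 2054, 2052, 2050, 2052,
  2052, 2069, 1519], 3, 6⟩)) (.lf ⟨[0, 1, 0, 0, 0, -1, 0, 0], [1028, 1025, 1028, 1035, 1012, 1134, 896,
  1028], 4, 15⟩)) (.nd (.lf ⟨[-1, -2, -3, -4, -2, -1, -1, -1], [515, 516, 517, 519, 504, 471, 516, 831], 6,
  16⟩) (.lf ⟨[0, -1, -1, -1, 0, 0, 1, 1], [1539, 1542, 1543, 1540, 1532, 1571, 1458, 1216], 4, 16⟩))) (.nd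
  (.nd (.lf ⟨[-2, -4, -4, -6, -4, -3, -2, -1], [260, 263, 260, 260, 246, 260, 260, 260], 7, 15⟩) (.lf ⟨[1, 0,
  0, 1, 1, 1, 1, 0], [1283, 1286, 1287, 1279, 1284, 1284, 1154, 1599], 3, 18⟩)) (.nd (.lf ⟨[-2, -1, -3, -3,
  -3, -2, -1, 0], [773, 770, 776, 764, 790, 772, 772, 457], 7, 7⟩) (.lf ⟨[2, 1, 3, 3, 2, 2, 2, 1], [1795,
  1798, 1792, 1796, 1814, 1796, 1684, 1796], 2, 19⟩)))) (.nd (.nd (.nd (.lf ⟨[-3, -4, -5, -8, -6, -5, -3,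
  -1], [133, 132, 131, 134, 129, 143, 132, 33], 8, 11⟩) (.lf ⟨[1, 1, 0, 1, 1, 1, 0, 0], [1155, 1154, 1158,
  1156, 1156, 1106, 1286, 1156], 3, 18⟩)) (.nd (.lf ⟨[-2, -2, -3, -4, -4, -3, -2, 0], [645, 644, 644, 639,
  650, 644, 722, 108], 7, 11⟩) (.lf ⟨[1, 0, 1, 2, 2, 2, 1, 1], [1667, 1670, 1671, 1663, 1668, 1623, 1780,
  1353], 3, 14⟩))) (.nd (.nd (.lf ⟨[-1, -1, -2, -2, -1, -2, -2, -1], [388, 388, 389, 388, 355, 414, 500,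
  388], 6, 15⟩) (.lf ⟨[2, 2, 3, 5, 4, 2, 1, 0], [1411, 1414, 1417, 1409, 1400, 1440, 1412, 1725], 2, 17⟩))
  (.nd (.lf ⟨[0, 1, 0, 1, 0, -1, -1, 0], [900, 899, 903, 896, 900, 940, 1035, 585], 4, 15⟩) (.lf ⟨[2, 2, 3,
  4, 4, 4, 2, 1], [1923, 1924, 1924, 1926, 1924, 1834, 1980, 1924], 2, 15⟩))))) (.nd (.nd (.nd (.nd (.nd (.lf
  ⟨[-2, -2, -4, -5, -5, -4, -3, -2], [68, 67, 71, 64, 75, 68, 68, 167], 7, 17⟩) (.lf ⟨[3, 4, 6, 8, 6, 4, 3,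
  2], [2116, 2116, 2115, 2116, 2116, 2127, 2116, 2017], 1, 9⟩)) (.lf ⟨[0, 1, 1, 2, 0, 0, 0, 0], [1093, 1092,
  1092, 1084, 1126, 1092, 1092, 1092], 5, 4⟩)) (.nd (.lf ⟨[1, 0, 0, 0, 0, -1, -1, -1], [579, 580, 583, 580,
  566, 611, 580, 895], 3, 24⟩) (.lf ⟨[0, 1, 0, 2, 1, 1, 1, 1], [1604, 1604, 1610, 1595, 1621, 1604, 1604,
  1289], 4, 10⟩))) (.nd (.nd (.lf ⟨[0, -1, -1, -2, -2, -3, -2, -1], [323, 324, 324, 324, 312, 410, 324, 324],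
  4, 24⟩) (.lf ⟨[1, 0, 1, 1, 2, 2, 1, 0], [1347, 1350, 1348, 1353, 1336, 1303, 1348, 1663], 3, 16⟩)) (.nd
  (.lf ⟨[-1, -1, -3, -3, -2, -1, -1, 0], [835, 834, 843, 836, 836, 791, 966, 521], 6, 13⟩) (.lf ⟨[1, 2, 3, 3,
  3, 3, 2, 1], [1861, 1858, 1853, 1871, 1860, 1815, 1860, 1860], 3, 8⟩)))) (.nd (.nd (.nd (.lf ⟨[-1, -2, -2,
  -3, -3, -3, -3, -1], [196, 197, 196, 195, 196, 196, 426, 97], 6, 17⟩) (.lf ⟨[0, 0, 0, -1, 0, 0, 1, 0],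
  [1220, 1219, 1218, 1234, 1211, 1260, 925, 1544], 4, 15⟩)) (.nd (.lf ⟨[1, 0, 1, 1, 1, 0, 0, -1], [707, 710,
  708, 708, 700, 732, 626, 1488], 3, 19⟩) (.lf ⟨[1, 1, 2, 3, 3, 3, 1, 1], [1732, 1733, 1732, 1732, 1732,
  1646, 1962, 1423], 3, 12⟩))) (.nd (.nd (.lf ⟨[-2, -2, -2, -4, -3, -2, -1, -1], [453, 452, 446, 459, 452,
  452, 340, 767], 7, 9⟩) (.lf ⟨[0, 0, 0, 1, 0, 0, 0, 1], [1476, 1477, 1478, 1462, 1485, 1476, 1553, 697], 4,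
  14⟩)) (.nd (.lf ⟨[-1, -2, -3, -3, -2, -1, 0, 0], [963, 966, 971, 961, 964, 964, 834, 964], 6, 13⟩) (.lf
  ⟨[1, 2, 3, 5, 5, 4, 3, 1], [1989, 1990, 1988, 1988, 1981, 1988, 1932, 2087], 3, 4⟩)))))) (.nd (.nd (.nd
  (.nd (.nd (.nd (.lf ⟨[-2, -4, -5, -7, -6, -5, -3, -2], [35, 38, 39, 34, 36, 47, 19, 135], 7, 23⟩) (.lf ⟨[2,
  2, 4, 5, 4, 4, 3, 2], [2084, 2085, 2081, 2084, 2091, 2073, 2084, 1985], 2, 11⟩)) (.lf ⟨[-1, 0, 0, 0, -1, 0,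
  0, 0], [1061, 1060, 1057, 1055, 1098, 1010, 1060, 1060], 6, 6⟩)) (.nd (.lf ⟨[-2, -1, -2, -2, -1, -1, -1,
  -1], [549, 548, 548, 548, 531, 548, 548, 863], 7, 3⟩) (.lf ⟨[-1, 0, -1, -1, 0, 1, 1, 1], [1573, 1570, 1572,
  1576, 1572, 1541, 1572, 1257], 6, 5⟩))) (.nd (.nd (.lf ⟨[-2, -1, -3, -4, -3, -3, -2, -1], [293, 290, 292,
  300, 275, 337, 292, 292], 7, 11⟩) (.lf ⟨[1, 1, 1, 3, 2, 1, 1, 0], [1315, 1318, 1323, 1305, 1316, 1361,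
  1186, 1631], 3, 15⟩)) (.nd (.lf ⟨[-1, -2, -1, -2, -2, -2, -1, 0], [805, 806, 800, 796, 804, 849, 804, 489],
  6, 13⟩) (.lf ⟨[1, 3, 3, 5, 3, 2, 2, 1], [1829, 1826, 1828, 1823, 1840, 1873, 1716, 1828], 3, 7⟩)))) (.nd
  (.nd (.nd (.lf ⟨[-2, -3, -3, -6, -5, -4, -3, -1], [165, 164, 159, 168, 164, 164, 220, 65], 7, 17⟩) (.lf
  ⟨[1, 2, 1, 3, 2, 1, 0, 0], [1187, 1186, 1195, 1180, 1188, 1188, 1318, 1188], 3, 15⟩)) (.nd (.lf ⟨[-1, -1,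
  -2, -3, -3, -2, -2, 0], [676, 675, 676, 676, 685, 660, 918, 120], 6, 14⟩) (.lf ⟨[2, 2, 2, 3, 3, 2, 1, 1],
  [1699, 1698, 1704, 1707, 1682, 1700, 1812, 1385], 2, 19⟩))) (.nd (.nd (.lf ⟨[-1, -1, -1, -1, -1, -1, -2,
  -1], [421, 422, 420, 415, 420, 392, 653, 420], 6, 12⟩) (.lf ⟨[2, 3, 4, 5, 4, 3, 1, 0], [1444, 1443, 1442,
  1445, 1444, 1418, 1524, 1757], 2, 14⟩)) (.nd (.lf ⟨[1, 0, 0, 0, 0, 0, -1, 0], [931, 932, 936, 932, 932,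
  895, 1228, 611], 3, 22⟩) (.lf ⟨[3, 3, 5, 7, 6, 4, 2, 1], [1955, 1958, 1956, 1956, 1949, 1956, 2012, 1956],
  1, 14⟩))))) (.nd (.nd (.nd (.nd (.nd (.lf ⟨[-2, -3, -4, -6, -5, -3, -2, -2], [100, 100, 100, 100, 101, 99,
  83, 624], 7, 17⟩) (.lf ⟨[3, 4, 6, 9, 7, 5, 4, 2], [2148, 2149, 2148, 2147, 2148, 2153, 2131, 2148], 1, 5⟩))
  (.lf ⟨[0, -1, 0, -1, 0, 1, 0, 0], [1124, 1125, 1121, 1131, 1124, 1019, 1259, 1124], 4, 16⟩)) (.nd (.lf ⟨[0,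
  1, 0, 0, 0, 0, -1, -1], [612, 609, 612, 616, 612, 581, 691, 933], 4, 16⟩) (.lf ⟨[0, 2, 2, 3, 2, 1, 1, 1],
  [1637, 1634, 1632, 1636, 1636, 1681, 1636, 1321], 4, 6⟩))) (.nd (.nd (.lf ⟨[-1, -1, -1, -2, -3, -2, -2,
  -1], [357, 356, 355, 353, 389, 311, 468, 356], 6, 15⟩) (.lf ⟨[0, 2, 1, 3, 3, 2, 1, 0], [1381, 1378, 1384,
  1380, 1362, 1380, 1380, 1695], 4, 6⟩)) (.nd (.lf ⟨[-1, 0, -1, -2, -1, -1, -1, 0], [869, 866, 865, 877, 851,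
  868, 998, 553], 6, 10⟩) (.lf ⟨[1, 3, 4, 5, 4, 3, 2, 1], [1893, 1890, 1889, 1897, 1892, 1892, 1892, 1892],
  3, 5⟩)))) (.nd (.nd (.nd (.lf ⟨[-2, -3, -4, -6, -4, -4, -2, -1], [228, 228, 228, 229, 207, 313, 172, 228],
  7, 16⟩) (.lf ⟨[0, 1, 1, 2, 1, 0, 1, 0], [1253, 1252, 1252, 1247, 1252, 1342, 957, 1567], 4, 10⟩)) (.nd (.lf
  ⟨[-2, -3, -4, -6, -4, -2, -1, 0], [740, 740, 740, 741, 740, 714, 740, 429], 7, 13⟩) (.lf ⟨[0, 0, 1, 1, 1,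
  2, 2, 1], [1765, 1766, 1762, 1764, 1774, 1736, 1650, 1764], 4, 9⟩))) (.nd (.nd (.lf ⟨[0, -1, -1, -3, -2,
  -2, -1, -1], [483, 482, 480, 495, 466, 529, 372, 799], 4, 23⟩) (.lf ⟨[1, 2, 3, 4, 3, 3, 2, 0], [1509, 1508,
  1507, 1508, 1514, 1492, 1432, 2047], 3, 9⟩)) (.nd (.lf ⟨[-1, -2, -1, -2, -1, -1, 0, 0], [997, 998, 992,
  996, 979, 1046, 866, 996], 6, 10⟩) (.lf ⟨[2, 3, 4, 7, 6, 5, 3, 1], [2020, 2021, 2022, 2019, 2020, 2009,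
  2020, 2119], 2, 7⟩))))))) (.nd (.nd (.nd (.nd (.nd (.nd (.nd (.lf ⟨[-3, -3, -5, -7, -6, -5, -4, -2], [21,
  18, 20, 20, 20, 20, 37, 20], 8, 11⟩) (.lf ⟨[2, 2, 3, 4, 4, 3, 3, 2], [2067, 2068, 2068, 2070, 2065, 2079,
  2051, 1969], 2, 14⟩)) (.lf ⟨[0, -1, -2, -2, -1, 0, 0, 0], [1043, 1044, 1050, 1044, 1044, 994, 1044, 1044],
  4, 18⟩)) (.nd (.lf ⟨[0, -1, -2, -2, -2, -1, -1, -1], [531, 532, 538, 525, 549, 487, 532, 847], 4, 22⟩) (.lf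
  ⟨[1, 0, 1, 1, 0, 0, 1, 1], [1555, 1558, 1556, 1552, 1563, 1587, 1479, 1237], 3, 18⟩))) (.nd (.nd (.lf ⟨[-1,
  -1, -3, -4, -4, -3, -2, -1], [275, 274, 280, 276, 293, 276, 276, 276], 6, 20⟩) (.lf ⟨[0, 0, 0, 1, 2, 1, 1,
  0], [1300, 1301, 1302, 1300, 1269, 1345, 1170, 1615], 4, 12⟩)) (.nd (.lf ⟨[-2, -2, -3, -3, -2, -2, -1, 0],
  [789, 790, 792, 785, 770, 833, 788, 473], 7, 7⟩) (.lf ⟨[2, 2, 2, 3, 3, 2, 2, 1], [1811, 1810, 1816, 1819,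
  1794, 1857, 1700, 1812], 2, 18⟩)))) (.nd (.nd (.nd (.lf ⟨[-2, -3, -5, -7, -6, -4, -3, -1], [147, 146, 150,
  148, 155, 137, 204, 49], 7, 20⟩) (.lf ⟨[0, 0, 1, 1, 2, 1, 0, 0], [1173, 1174, 1170, 1177, 1141, 1172, 1302,
  1172], 4, 12⟩)) (.nd (.lf ⟨[-1, -1, -2, -3, -3, -3, -2, 0], [660, 659, 660, 660, 660, 676, 736, 115], 6,
  15⟩) (.lf ⟨[2, 1, 3, 3, 2, 2, 1, 1], [1683, 1686, 1680, 1684, 1702, 1639, 1796, 1369], 2, 20⟩))) (.nd (.nd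
  (.lf ⟨[-2, -3, -3, -5, -4, -3, -1, -1], [405, 406, 402, 404, 404, 432, 186, 717], 7, 13⟩) (.lf ⟨[0, 0, -1,
  -1, -1, -1, 0, 1], [1427, 1426, 1431, 1428, 1428, 1452, 1428, 656], 4, 18⟩)) (.nd (.lf ⟨[0, 0, 0, -1, -1,
  0, -1, 0], [916, 915, 914, 919, 925, 826, 1211, 599], 4, 17⟩) (.lf ⟨[2, 2, 4, 6, 5, 4, 2, 1], [1940, 1943,
  1940, 1936, 1940, 1910, 1996, 1940], 2, 11⟩))))) (.nd (.nd (.nd (.nd (.nd (.lf ⟨[-2, -3, -4, -6, -4, -3,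
  -3, -2], [84, 84, 84, 85, 83, 73, 101, 183], 7, 17⟩) (.lf ⟨[3, 5, 6, 9, 7, 5, 3, 2], [2132, 2131, 2132,
  2132, 2132, 2132, 2149, 2033], 1, 5⟩)) (.lf ⟨[1, 1, 2, 1, 1, 0, 0, 0], [1108, 1107, 1106, 1118, 1091, 1158,
  1108, 1108], 3, 18⟩)) (.nd (.lf ⟨[-1, 0, -1, -1, -1, 0, -1, -1], [597, 594, 596, 596, 603, 508, 671, 913],
  6, 10⟩) (.lf ⟨[1, 1, 1, 1, 2, 1, 1, 1], [1619, 1618, 1620, 1631, 1589, 1665, 1620, 1305], 3, 15⟩))) (.nd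
  (.nd (.lf ⟨[-2, -2, -2, -4, -3, -2, -2, -1], [341, 340, 334, 347, 340, 295, 452, 340], 7, 10⟩) (.lf ⟨[0, 1,
  2, 3, 2, 2, 1, 0], [1365, 1366, 1360, 1357, 1382, 1319, 1364, 1679], 4, 7⟩)) (.nd (.lf ⟨[0, 0, -1, -2, -2,
  -1, -1, 0], [851, 850, 852, 857, 869, 807, 982, 537], 4, 20⟩) (.lf ⟨[2, 3, 4, 5, 3, 3, 2, 1], [1876, 1875,
  1874, 1876, 1907, 1831, 1876, 1876], 2, 13⟩)))) (.nd (.nd (.nd (.lf ⟨[-2, -4, -4, -7, -5, -4, -2, -1],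
  [212, 213, 209, 216, 205, 242, 156, 212], 7, 18⟩) (.lf ⟨[0, 0, 1, 1, 0, 0, 1, 0], [1237, 1238, 1234, 1230,
  1245, 1271, 941, 1555], 4, 13⟩)) (.nd (.lf ⟨[-1, -2, -2, -4, -4, -3, -1, 0], [724, 724, 723, 724, 729, 754,
  646, 413], 6, 17⟩) (.lf ⟨[2, 2, 3, 4, 4, 3, 1, 1], [1747, 1748, 1748, 1753, 1742, 1722, 1969, 1437], 2,
  16⟩))) (.nd (.nd (.lf ⟨[-1, -1, -1, -2, -3, -2, -1, -1], [469, 468, 467, 465, 501, 468, 356, 783], 6, 14⟩)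
  (.lf ⟨[1, 2, 3, 4, 3, 2, 2, 0], [1493, 1492, 1491, 1492, 1492, 1508, 1250, 2042], 3, 10⟩)) (.nd (.lf ⟨[0,
  -2, -1, -2, -2, -1, 0, 0], [979, 982, 980, 972, 997, 980, 850, 980], 4, 20⟩) (.lf ⟨[2, 3, 5, 7, 5, 4, 3,
  1], [2005, 2006, 2002, 2000, 2011, 2004, 1948, 2103], 2, 8⟩)))))) (.nd (.nd (.nd (.nd (.nd (.nd (.lf ⟨[-2,
  -3, -4, -6, -6, -4, -3, -2], [52, 52, 52, 51, 73, 41, 52, 151], 7, 19⟩) (.lf ⟨[3, 3, 5, 6, 5, 4, 3, 2],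
  [2099, 2100, 2097, 2104, 2100, 2100, 2100, 2001], 1, 14⟩)) (.lf ⟨[-1, 1, -1, 0, 0, 0, 0, 0], [1077, 1074,
  1080, 1076, 1076, 1076, 1076, 1076], 6, 6⟩)) (.nd (.lf ⟨[0, -1, 0, 0, -1, -1, -1, -1], [564, 567, 564, 555,
  578, 564, 564, 879], 4, 19⟩) (.lf ⟨[0, 1, 1, 1, 0, 1, 1, 1], [1589, 1586, 1585, 1588, 1619, 1557, 1588,
  1273], 4, 10⟩))) (.nd (.nd (.lf ⟨[-1, -1, -1, -3, -3, -3, -2, -1], [309, 306, 301, 311, 308, 353, 308,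
  308], 6, 17⟩) (.lf ⟨[1, 2, 2, 3, 3, 1, 1, 0], [1332, 1331, 1332, 1339, 1299, 1424, 1204, 1647], 3, 13⟩))
  (.nd (.lf ⟨[-1, -2, -2, -4, -3, -1, -1, 0], [820, 820, 819, 827, 832, 729, 949, 505], 6, 15⟩) (.lf ⟨[1, 1,
  2, 3, 2, 3, 2, 1], [1844, 1845, 1844, 1837, 1877, 1758, 1844, 1844], 3, 10⟩)))) (.nd (.nd (.nd (.lf ⟨[-1,
  -2, -3, -4, -4, -4, -3, -1], [179, 180, 181, 178, 180, 191, 236, 81], 6, 21⟩) (.lf ⟨[1, 2, 2, 3, 3, 1, 0,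
  0], [1204, 1203, 1204, 1210, 1169, 1242, 1332, 1204], 3, 14⟩)) (.nd (.lf ⟨[-1, -1, -2, -2, -2, -2, -2, 0],
  [692, 692, 695, 685, 692, 692, 934, 123], 6, 12⟩) (.lf ⟨[1, 3, 3, 5, 3, 2, 1, 1], [1717, 1714, 1716, 1711,
  1726, 1716, 1828, 1401], 3, 8⟩))) (.nd (.nd (.lf ⟨[0, 0, 0, 0, 0, -1, -2, -1], [436, 436, 436, 436, 428,
  436, 662, 436], 4, 17⟩) (.lf ⟨[0, 0, -1, -1, 0, 0, 0, 1], [1459, 1458, 1462, 1466, 1452, 1460, 1542, 681],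
  4, 16⟩)) (.nd (.lf ⟨[0, 0, 0, 1, 1, 0, -1, 0], [948, 950, 951, 945, 939, 948, 1243, 622], 4, 14⟩) (.lf ⟨[1,
  3, 3, 5, 4, 3, 3, 1], [1973, 1970, 1972, 1972, 1972, 1983, 1754, 2071], 3, 5⟩))))) (.nd (.nd (.nd (.nd (.lf
  ⟨[-2, -2, -3, -4, -3, -2, -2, -2], [117, 116, 116, 116, 116, 111, 116, 666], 7, 10⟩) (.lf ⟨[0, 1, 0, 1, 0,
  1, 0, 0], [1140, 1139, 1143, 1134, 1171, 1035, 1270, 1140], 4, 13⟩)) (.nd (.lf ⟨[1, 1, 1, 1, 1, 0, -1, -1],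
  [627, 626, 628, 630, 620, 628, 710, 954], 3, 19⟩) (.lf ⟨[0, 1, 1, 1, 1, 2, 1, 1], [1653, 1650, 1649, 1657,
  1664, 1564, 1766, 1337], 4, 9⟩))) (.nd (.nd (.lf ⟨[0, -1, -1, -3, -2, -2, -2, -1], [371, 370, 368, 383,
  354, 372, 484, 372], 4, 24⟩) (.lf ⟨[1, 3, 3, 4, 3, 2, 1, 0], [1397, 1394, 1393, 1401, 1396, 1396, 1396,
  1711], 3, 10⟩)) (.nd (.lf ⟨[1, 0, 1, 0, -1, -1, -1, 0], [883, 884, 881, 884, 898, 884, 1014, 569], 3, 23⟩)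
  (.lf ⟨[1, 3, 3, 6, 5, 3, 2, 1], [1909, 1908, 1911, 1904, 1894, 1938, 1908, 1908], 3, 4⟩)))) (.nd (.nd (.nd
  (.lf ⟨[-3, -3, -5, -6, -5, -3, -2, -1], [245, 244, 247, 240, 258, 214, 244, 244], 8, 4⟩) (.lf ⟨[1, 0, 1, 0,
  0, 1, 1, 0], [1267, 1268, 1265, 1272, 1282, 1231, 1136, 1583], 3, 19⟩)) (.nd (.lf ⟨[-2, -2, -4, -5, -3, -2,
  -1, 0], [756, 755, 759, 761, 742, 756, 756, 441], 7, 10⟩) (.lf ⟨[1, 0, 1, 2, 2, 2, 2, 1], [1779, 1782,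
  1783, 1775, 1780, 1780, 1668, 1780], 3, 13⟩))) (.nd (.nd (.lf ⟨[-1, -1, -2, -2, -1, -2, -1, -1], [500, 500,
  501, 500, 467, 590, 388, 815], 6, 14⟩) (.lf ⟨[2, 3, 4, 5, 4, 3, 2, 0], [1524, 1523, 1522, 1527, 1524, 1524,
  1444, 2057], 2, 13⟩)) (.nd (.lf ⟨[0, 1, 0, 0, -1, -1, 0, 0], [1012, 1009, 1012, 1012, 1028, 1062, 882,
  1012], 4, 16⟩) (.lf ⟨[1, 1, 2, 2, 2, 2, 2, 2], [2036, 2036, 2035, 2037, 2036, 2036, 2036, 1467], 3,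
  14⟩)))))))) (.nd (.nd (.nd (.nd (.nd (.nd (.nd (.nd (.lf ⟨[-3, -4, -6, -8, -7, -5, -4, -2], [12, 12, 13,
  11, 15, 7, 29, 12], 8, 15⟩) (.lf ⟨[2, 3, 4, 6, 5, 4, 2, 2], [2060, 2060, 2060, 2060, 2060, 2059, 2133,
  1566], 2, 9⟩)) (.lf ⟨[0, 0, 1, 1, 0, -1, 0, 0], [1037, 1038, 1034, 1030, 1036, 1141, 901, 1036], 4, 14⟩))
  (.nd (.lf ⟨[-2, -1, -2, -3, -2, -1, -1, -1], [525, 522, 520, 531, 524, 479, 524, 839], 7, 5⟩) (.lf ⟨[-1, 0,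
  0, 0, 0, 0, 1, 1], [1549, 1548, 1545, 1548, 1548, 1579, 1469, 1227], 6, 4⟩))) (.nd (.nd (.lf ⟨[-3, -2, -4,
  -5, -4, -3, -2, -1], [269, 266, 268, 268, 268, 268, 268, 268], 8, 0⟩) (.lf ⟨[0, 2, 1, 2, 1, 1, 1, 0],
  [1293, 1290, 1292, 1292, 1309, 1292, 1162, 1607], 4, 10⟩)) (.nd (.lf ⟨[-1, -1, -1, -3, -3, -2, -1, 0],
  [781, 778, 773, 783, 798, 780, 780, 465], 6, 14⟩) (.lf ⟨[1, 1, 2, 2, 3, 2, 2, 1], [1804, 1804, 1803, 1817,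
  1771, 1849, 1692, 1804], 3, 11⟩)))) (.nd (.nd (.nd (.lf ⟨[-2, -3, -4, -6, -6, -5, -3, -1], [140, 140, 140,
  139, 141, 151, 140, 41], 7, 19⟩) (.lf ⟨[1, 0, 2, 2, 1, 1, 0, 0], [1164, 1167, 1161, 1157, 1181, 1114, 1294,
  1164], 3, 17⟩)) (.nd (.lf ⟨[-1, -2, -2, -4, -3, -3, -2, 0], [652, 652, 651, 659, 646, 668, 729, 113], 6,
  17⟩) (.lf ⟨[1, 1, 1, 3, 2, 2, 1, 1], [1675, 1678, 1683, 1665, 1694, 1631, 1788, 1361], 3, 13⟩))) (.nd (.nd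
  (.lf ⟨[0, -1, 0, -1, -1, -2, -2, -1], [396, 397, 393, 396, 386, 424, 510, 396], 4, 21⟩) (.lf ⟨[-1, -1, -2,
  -2, -1, -1, 0, 1], [1420, 1420, 1421, 1420, 1410, 1446, 1420, 647], 6, 12⟩)) (.nd (.lf ⟨[-2, -2, -3, -4,
  -3, -2, 0, 0], [909, 908, 908, 908, 908, 946, 666, 908], 7, 8⟩) (.lf ⟨[1, 2, 3, 5, 5, 4, 2, 1], [1933,
  1934, 1932, 1932, 1925, 1902, 1988, 1932], 3, 5⟩))))) (.nd (.nd (.nd (.nd (.nd (.lf ⟨[-2, -3, -3, -5, -4,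
  -4, -3, -2], [77, 78, 74, 76, 69, 87, 76, 175], 7, 16⟩) (.lf ⟨[3, 4, 5, 7, 6, 5, 3, 2], [2123, 2122, 2124,
  2126, 2124, 2113, 2141, 2025], 1, 10⟩)) (.lf ⟨[0, 1, 0, 0, 1, 0, 0, 0], [1100, 1097, 1100, 1109, 1062,
  1150, 1100, 1100], 4, 14⟩)) (.nd (.lf ⟨[0, 1, 1, 1, 0, -1, -1, -1], [589, 586, 585, 588, 588, 619, 588,
  903], 4, 15⟩) (.lf ⟨[1, 2, 2, 2, 1, 1, 1, 1], [1612, 1609, 1608, 1614, 1629, 1612, 1612, 1297], 3, 14⟩)))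
  (.nd (.nd (.lf ⟨[-2, -2, -3, -5, -3, -2, -2, -1], [333, 330, 329, 343, 320, 287, 444, 332], 7, 11⟩) (.lf
  ⟨[1, 0, 2, 2, 2, 2, 1, 0], [1356, 1359, 1353, 1356, 1356, 1311, 1356, 1671], 3, 14⟩)) (.nd (.lf ⟨[0, -1,
  -1, -3, -2, -1, -1, 0], [843, 842, 840, 855, 844, 799, 974, 529], 4, 21⟩) (.lf ⟨[1, 3, 3, 4, 3, 3, 2, 1],
  [1869, 1866, 1865, 1873, 1885, 1823, 1868, 1868], 3, 7⟩)))) (.nd (.nd (.nd (.lf ⟨[-2, -3, -5, -7, -6, -4,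
  -2, -1], [203, 202, 206, 204, 211, 204, 148, 204], 7, 19⟩) (.lf ⟨[1, 0, 0, 0, 0, 0, 1, 0], [1227, 1228,
  1231, 1228, 1228, 1265, 932, 1549], 3, 21⟩)) (.nd (.lf ⟨[-2, -2, -4, -5, -4, -3, -1, 0], [716, 715, 719,
  716, 716, 742, 636, 403], 7, 12⟩) (.lf ⟨[1, 2, 2, 4, 3, 3, 1, 1], [1740, 1740, 1741, 1733, 1746, 1654,
  1964, 1430], 3, 10⟩))) (.nd (.nd (.lf ⟨[0, -2, -2, -3, -3, -2, -1, -1], [459, 462, 464, 453, 478, 460, 348,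
  775], 4, 26⟩) (.lf ⟨[1, 2, 2, 3, 3, 2, 2, 0], [1484, 1483, 1484, 1491, 1475, 1500, 1242, 2040], 3, 12⟩))
  (.nd (.lf ⟨[0, -2, -1, -3, -2, -1, 0, 0], [971, 974, 968, 980, 972, 972, 842, 972], 4, 21⟩) (.lf ⟨[2, 2, 4,
  6, 5, 4, 3, 1], [1996, 1999, 1996, 1992, 1996, 1996, 1940, 2095], 2, 10⟩)))))) (.nd (.nd (.nd (.nd (.nd
  (.nd (.lf ⟨[-3, -4, -5, -8, -6, -4, -3, -2], [45, 44, 43, 46, 44, 33, 44, 143], 8, 11⟩) (.lf ⟨[2, 3, 4, 5,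
  5, 4, 3, 2], [2092, 2091, 2090, 2101, 2085, 2092, 2092, 1993], 2, 9⟩)) (.lf ⟨[-1, -1, -2, -1, 0, 0, 0, 0],
  [1068, 1069, 1070, 1063, 1051, 1068, 1068, 1068], 6, 8⟩)) (.nd (.lf ⟨[-1, -1, -2, -1, -1, -1, -1, -1],
  [556, 557, 558, 546, 556, 556, 556, 871], 6, 12⟩) (.lf ⟨[1, 0, 0, 0, 0, 1, 1, 1], [1579, 1580, 1583, 1580,
  1594, 1549, 1580, 1265], 3, 19⟩))) (.nd (.nd (.lf ⟨[-2, -1, -3, -3, -3, -3, -2, -1], [301, 298, 304, 292,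
  300, 345, 300, 300], 7, 10⟩) (.lf ⟨[2, 1, 3, 3, 2, 1, 1, 0], [1323, 1326, 1320, 1324, 1324, 1369, 1194,
  1639], 2, 22⟩)) (.nd (.lf ⟨[0, 0, -1, -1, -2, -2, -1, 0], [811, 810, 814, 807, 824, 857, 812, 497], 4, 20⟩)
  (.lf ⟨[1, 1, 1, 2, 2, 3, 2, 1], [1835, 1836, 1837, 1836, 1848, 1750, 1836, 1836], 3, 12⟩)))) (.nd (.nd (.nd
  (.lf ⟨[-2, -3, -4, -6, -4, -4, -3, -1], [172, 172, 172, 173, 151, 183, 228, 73], 7, 17⟩) (.lf ⟨[2, 2, 3, 3,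
  2, 1, 0, 0], [1195, 1194, 1192, 1199, 1196, 1196, 1326, 1196], 2, 22⟩)) (.nd (.lf ⟨[-1, -2, -2, -3, -2, -2,
  -2, 0], [684, 685, 684, 684, 675, 684, 926, 121], 6, 14⟩) (.lf ⟨[1, 3, 2, 4, 3, 2, 1, 1], [1708, 1705,
  1711, 1708, 1708, 1708, 1820, 1393], 3, 10⟩))) (.nd (.nd (.lf ⟨[0, 0, 0, 0, -1, -1, -2, -1], [428, 428,
  428, 425, 436, 398, 661, 428], 4, 18⟩) (.lf ⟨[0, 0, -1, -1, -1, 0, 0, 1], [1451, 1450, 1455, 1452, 1460,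
  1428, 1534, 672], 4, 17⟩)) (.nd (.lf ⟨[0, 1, 0, 1, 0, 0, -1, 0], [940, 939, 943, 933, 950, 900, 1235, 616],
  4, 14⟩) (.lf ⟨[1, 2, 2, 4, 3, 3, 3, 1], [1964, 1964, 1965, 1963, 1967, 1964, 1740, 2063], 3, 9⟩))))) (.nd
  (.nd (.nd (.nd (.nd (.lf ⟨[-2, -2, -3, -4, -4, -3, -2, -2], [109, 108, 108, 106, 111, 108, 91, 644], 7,
  12⟩) (.lf ⟨[3, 5, 6, 9, 8, 6, 4, 2], [2156, 2155, 2156, 2157, 2154, 2156, 2156, 2156], 1, 2⟩)) (.lf ⟨[-1,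
  0, 0, 0, 0, 1, 0, 0], [1133, 1132, 1128, 1132, 1148, 1026, 1264, 1132], 6, 5⟩)) (.nd (.lf ⟨[1, 1, 1, 1, 0,
  0, -1, -1], [619, 618, 620, 620, 628, 589, 702, 944], 3, 20⟩) (.lf ⟨[2, 2, 3, 4, 2, 1, 1, 1], [1643, 1644,
  1644, 1641, 1656, 1689, 1644, 1329], 2, 19⟩))) (.nd (.nd (.lf ⟨[-1, -1, -3, -3, -2, -2, -2, -1], [363, 362,
  371, 364, 346, 364, 476, 364], 6, 16⟩) (.lf ⟨[1, 2, 3, 3, 3, 2, 1, 0], [1389, 1386, 1381, 1399, 1370, 1388,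
  1388, 1703], 3, 11⟩)) (.nd (.lf ⟨[1, 0, 0, -1, -1, -1, -1, 0], [875, 874, 876, 881, 876, 876, 1006, 561],
  3, 25⟩) (.lf ⟨[2, 3, 5, 6, 4, 3, 2, 1], [1901, 1900, 1895, 1900, 1914, 1900, 1900, 1900], 2, 12⟩)))) (.nd
  (.nd (.nd (.lf ⟨[-1, -2, -3, -4, -4, -4, -2, -1], [235, 236, 237, 234, 236, 326, 180, 236], 6, 20⟩) (.lf
  ⟨[0, 0, 0, -1, 0, 1, 1, 0], [1260, 1259, 1258, 1269, 1260, 1220, 1125, 1575], 4, 14⟩)) (.nd (.lf ⟨[-1, -2,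
  -3, -5, -4, -2, -1, 0], [747, 746, 748, 751, 760, 720, 748, 435], 6, 18⟩) (.lf ⟨[0, 0, 0, 1, 2, 2, 2, 1],
  [1772, 1773, 1774, 1772, 1762, 1772, 1660, 1772], 4, 9⟩))) (.nd (.nd (.lf ⟨[0, 0, -1, -2, -2, -2, -1, -1],
  [491, 490, 492, 497, 492, 537, 380, 807], 4, 22⟩) (.lf ⟨[0, 1, 1, 2, 2, 1, 0, 1], [1517, 1516, 1516, 1516,
  1510, 1516, 1749, 743], 4, 8⟩)) (.nd (.lf ⟨[1, -1, 0, -1, -1, -1, 0, 0], [1003, 1006, 1004, 1004, 1004,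
  1054, 874, 1004], 3, 25⟩) (.lf ⟨[3, 4, 6, 8, 6, 5, 3, 1], [2028, 2028, 2027, 2028, 2031, 2017, 2028, 2127],
  1, 9⟩))))))) (.nd (.nd (.nd (.nd (.nd (.nd (.nd (.lf ⟨[-3, -4, -6, -9, -7, -5, -3, -2], [28, 27, 28, 29,
  28, 28, 11, 127], 8, 15⟩) (.lf ⟨[2, 3, 4, 6, 5, 3, 3, 2], [2076, 2076, 2076, 2076, 2075, 2117, 2059, 1977],
  2, 9⟩)) (.lf ⟨[-1, 0, -2, -1, -1, 0, 0, 0], [1052, 1051, 1055, 1045, 1069, 1002, 1052, 1052], 6, 8⟩)) (.nd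
  (.lf ⟨[0, -1, -1, -1, -2, -1, -1, -1], [539, 542, 543, 529, 571, 495, 540, 855], 4, 21⟩) (.lf ⟨[0, 1, 1, 1,
  1, 0, 1, 1], [1565, 1562, 1561, 1567, 1557, 1652, 1489, 1247], 4, 10⟩))) (.nd (.nd (.lf ⟨[-2, -2, -4, -5,
  -3, -3, -2, -1], [284, 283, 287, 289, 253, 329, 284, 284], 7, 13⟩) (.lf ⟨[1, 0, 1, 2, 2, 1, 1, 0], [1307,
  1310, 1311, 1303, 1291, 1353, 1178, 1623], 3, 16⟩)) (.nd (.lf ⟨[-1, -2, -1, -3, -2, -2, -1, 0], [797, 798,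
  789, 804, 778, 841, 796, 481], 6, 14⟩) (.lf ⟨[1, 3, 2, 4, 3, 2, 2, 1], [1820, 1817, 1823, 1820, 1820, 1865,
  1708, 1820], 3, 9⟩)))) (.nd (.nd (.nd (.lf ⟨[-2, -4, -4, -7, -5, -4, -3, -1], [156, 157, 153, 160, 149,
  156, 212, 57], 7, 19⟩) (.lf ⟨[1, 2, 1, 2, 2, 1, 0, 0], [1179, 1178, 1184, 1188, 1163, 1180, 1310, 1180], 3,
  16⟩)) (.nd (.lf ⟨[-1, -2, -2, -4, -3, -2, -2, 0], [668, 668, 667, 675, 668, 652, 910, 118], 6, 16⟩) (.lf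
  ⟨[1, 1, 2, 2, 3, 2, 1, 1], [1692, 1692, 1691, 1705, 1659, 1692, 1804, 1377], 3, 12⟩))) (.nd (.nd (.lf ⟨[-1,
  -2, -3, -4, -4, -3, -1, -1], [411, 412, 413, 407, 418, 438, 191, 723], 6, 19⟩) (.lf ⟨[1, 2, 3, 4, 4, 3, 1,
  0], [1437, 1436, 1435, 1439, 1432, 1408, 1514, 1747], 3, 9⟩)) (.nd (.lf ⟨[0, -1, 0, -1, 0, 0, -1, 0], [924,
  925, 921, 930, 915, 889, 1219, 605], 4, 17⟩) (.lf ⟨[2, 3, 5, 7, 5, 4, 2, 1], [1949, 1950, 1946, 1944, 1955,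
  1918, 2004, 1948], 2, 9⟩))))) (.nd (.nd (.nd (.nd (.nd (.lf ⟨[-1, -2, -3, -4, -4, -3, -3, -2], [91, 92, 93,
  90, 95, 81, 109, 191], 6, 21⟩) (.lf ⟨[2, 4, 5, 7, 6, 5, 4, 2], [2141, 2138, 2137, 2142, 2140, 2140, 2123,
  2140], 2, 3⟩)) (.lf ⟨[2, 1, 2, 2, 1, 0, 0, 0], [1115, 1116, 1116, 1116, 1116, 1166, 1116, 1116], 2, 27⟩))
  (.nd (.lf ⟨[0, 0, -1, -1, 0, 0, -1, -1], [603, 602, 606, 608, 597, 573, 681, 923], 4, 18⟩) (.lf ⟨[2, 1, 2,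
  2, 2, 1, 1, 1], [1627, 1628, 1628, 1635, 1611, 1673, 1628, 1313], 2, 23⟩))) (.nd (.nd (.lf ⟨[0, -2, -2, -3,
  -3, -2, -2, -1], [347, 350, 352, 341, 366, 303, 460, 348], 4, 27⟩) (.lf ⟨[1, 2, 2, 4, 2, 2, 1, 0], [1372,
  1372, 1373, 1359, 1405, 1327, 1372, 1687], 3, 12⟩)) (.nd (.lf ⟨[-1, -2, -2, -3, -1, -1, -1, 0], [860, 861,
  860, 862, 827, 860, 990, 545], 6, 13⟩) (.lf ⟨[2, 1, 3, 4, 4, 3, 2, 1], [1883, 1886, 1884, 1884, 1867, 1884,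
  1884, 1884], 2, 15⟩)))) (.nd (.nd (.nd (.lf ⟨[-2, -3, -3, -6, -5, -4, -2, -1], [221, 220, 215, 224, 220,
  250, 164, 220], 7, 16⟩) (.lf ⟨[0, 1, 0, 1, 1, 0, 1, 0], [1244, 1243, 1247, 1244, 1235, 1334, 950, 1561], 4,
  12⟩)) (.nd (.lf ⟨[1, 0, 1, 1, 1, 1, 0, -1], [731, 734, 732, 732, 732, 708, 732, 1504], 3, 18⟩) (.lf ⟨[2, 2,
  4, 5, 4, 3, 1, 1], [1756, 1757, 1753, 1756, 1756, 1728, 1974, 1443], 2, 14⟩))) (.nd (.nd (.lf ⟨[-1, -1, -3,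
  -3, -2, -2, -1, -1], [475, 474, 483, 476, 458, 521, 364, 791], 6, 15⟩) (.lf ⟨[1, 2, 2, 3, 3, 3, 2, 0],
  [1500, 1499, 1500, 1507, 1500, 1484, 1424, 2045], 3, 11⟩)) (.nd (.lf ⟨[0, -1, 0, -1, -2, -1, 0, 0], [988,
  989, 985, 983, 1019, 988, 858, 988], 4, 18⟩) (.lf ⟨[3, 3, 5, 7, 6, 4, 3, 1], [2011, 2014, 2012, 2012, 2005,
  2023, 1956, 2111], 1, 13⟩)))))) (.nd (.nd (.nd (.nd (.nd (.nd (.lf ⟨[-2, -3, -5, -6, -5, -4, -3, -2], [59,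
  60, 65, 56, 60, 60, 60, 159], 7, 19⟩) (.lf ⟨[2, 3, 4, 7, 6, 4, 3, 2], [2108, 2109, 2110, 2107, 2101, 2119,
  2108, 2009], 2, 7⟩)) (.lf ⟨[0, 1, 1, 0, 0, 0, 0, 0], [1085, 1082, 1077, 1092, 1084, 1084, 1084, 1084], 5,
  5⟩)) (.nd (.lf ⟨[-1, 0, -1, -1, 0, -1, -1, -1], [573, 570, 572, 576, 541, 603, 572, 887], 6, 10⟩) (.lf ⟨[0,
  0, 1, 0, 1, 1, 1, 1], [1597, 1596, 1591, 1605, 1582, 1596, 1596, 1281], 4, 11⟩))) (.nd (.nd (.lf ⟨[-2, -3,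
  -4, -5, -4, -2, -2, -1], [316, 317, 318, 313, 328, 229, 430, 316], 7, 14⟩) (.lf ⟨[1, 2, 3, 4, 3, 1, 1, 0],
  [1341, 1340, 1339, 1340, 1328, 1432, 1212, 1655], 3, 11⟩)) (.nd (.lf ⟨[-1, -1, -2, -3, -3, -1, -1, 0],
  [828, 827, 828, 828, 861, 736, 956, 513], 6, 13⟩) (.lf ⟨[0, 2, 1, 3, 3, 3, 2, 1], [1853, 1850, 1856, 1852,
  1852, 1807, 1852, 1852], 4, 3⟩)))) (.nd (.nd (.nd (.lf ⟨[-2, -2, -3, -5, -4, -3, -3, -1], [189, 186, 185,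
  190, 188, 177, 406, 89], 7, 13⟩) (.lf ⟨[1, 2, 3, 4, 3, 1, 0, 0], [1213, 1212, 1210, 1212, 1198, 1250, 1340,
  1212], 3, 12⟩)) (.nd (.lf ⟨[1, 0, 1, 1, 0, 0, 0, -1], [699, 702, 700, 694, 708, 700, 618, 1479], 3, 20⟩)
  (.lf ⟨[1, 2, 3, 5, 4, 2, 1, 1], [1725, 1726, 1724, 1721, 1714, 1752, 1838, 1411], 3, 8⟩))) (.nd (.nd (.lf
  ⟨[-2, -2, -3, -5, -3, -2, -1, -1], [445, 442, 441, 455, 434, 444, 332, 759], 7, 10⟩) (.lf ⟨[0, -1, 0, 0, 0,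
  0, 0, 1], [1468, 1471, 1468, 1461, 1468, 1468, 1547, 688], 4, 15⟩)) (.nd (.lf ⟨[-1, -1, -2, -3, -3, -1, 0,
  0], [956, 955, 956, 956, 991, 918, 828, 956], 6, 12⟩) (.lf ⟨[2, 2, 3, 4, 4, 4, 3, 1], [1979, 1980, 1980,
  1982, 1980, 1969, 1924, 2079], 2, 14⟩))))) (.nd (.nd (.nd (.nd (.lf ⟨[-1, -1, -1, -2, -2, -2, -2, -2],
  [125, 124, 123, 124, 124, 124, 124, 695], 6, 12⟩) (.lf ⟨[-1, 0, 0, 0, 1, 1, 0, 0], [1149, 1148, 1145, 1153,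
  1132, 1098, 1278, 1148], 6, 4⟩)) (.nd (.lf ⟨[-2, -2, -4, -5, -4, -3, -2, 0], [636, 635, 639, 636, 636, 636,
  716, 103], 7, 13⟩) (.lf ⟨[0, 0, 0, 1, 2, 2, 1, 1], [1660, 1661, 1662, 1660, 1648, 1615, 1772, 1345], 4,
  10⟩))) (.nd (.nd (.lf ⟨[0, 0, -1, -2, -2, -2, -2, -1], [379, 378, 380, 385, 380, 380, 492, 380], 4, 23⟩)
  (.lf ⟨[2, 3, 4, 5, 3, 2, 1, 0], [1404, 1403, 1402, 1404, 1418, 1404, 1404, 1719], 2, 16⟩)) (.nd (.lf ⟨[0,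
  0, -1, 0, 0, -1, -1, 0], [891, 892, 897, 888, 878, 929, 1024, 577], 4, 17⟩) (.lf ⟨[2, 3, 4, 7, 5, 3, 2, 1],
  [1916, 1917, 1918, 1907, 1916, 1946, 1916, 1916], 2, 11⟩)))) (.nd (.nd (.nd (.lf ⟨[-2, -3, -4, -5, -5, -3,
  -2, -1], [252, 253, 254, 243, 283, 222, 252, 252], 7, 15⟩) (.lf ⟨[0, 0, -1, 0, 1, 1, 1, 0], [1275, 1276,
  1281, 1276, 1262, 1276, 1146, 1591], 4, 13⟩)) (.nd (.lf ⟨[-2, -1, -3, -4, -3, -2, -1, 0], [765, 762, 764,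
  772, 764, 764, 764, 449], 7, 8⟩) (.lf ⟨[1, 1, 1, 3, 2, 2, 2, 1], [1787, 1790, 1795, 1777, 1806, 1788, 1676,
  1788], 3, 12⟩))) (.nd (.nd (.lf ⟨[-1, 0, -1, -1, -1, -2, -1, -1], [509, 506, 508, 508, 496, 596, 394, 823],
  6, 11⟩) (.lf ⟨[0, -1, -1, -1, -1, 0, 1, 1], [1531, 1534, 1536, 1530, 1540, 1532, 1450, 1206], 4, 17⟩)) (.nd
  (.lf ⟨[0, 0, 0, -1, 0, -1, 0, 0], [1020, 1019, 1018, 1034, 989, 1125, 890, 1020], 4, 16⟩) (.lf ⟨[1, 1, 2,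
  3, 3, 3, 2, 2], [2044, 2045, 2044, 2044, 2044, 2039, 2061, 1499], 3, 11⟩)))))))))) (.nd (.nd (.nd (.nd (.nd
  (.nd (.nd (.nd (.nd (.nd (.lf ⟨[-3, -5, -6, -10, -8, -6, -4, -2], [2, 2, 1, 3, 2, 2, 2, 2], 8, 20⟩) (.lf
  ⟨[1, 2, 3, 4, 4, 3, 2, 2], [2051, 2050, 2049, 2052, 2047, 2050, 2067, 1514], 3, 7⟩)) (.lf ⟨[-1, 0, 0, 0, 0,
  -1, 0, 0], [1027, 1026, 1023, 1026, 1010, 1132, 894, 1026], 6, 6⟩)) (.nd (.lf ⟨[0, 0, 0, 0, -1, -2, -1,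
  -1], [514, 514, 514, 511, 514, 600, 398, 829], 4, 18⟩) (.lf ⟨[0, 0, 0, 0, -1, 0, 1, 1], [1538, 1538, 1538,
  1537, 1559, 1538, 1456, 1214], 4, 14⟩))) (.nd (.nd (.lf ⟨[-3, -3, -5, -6, -4, -3, -2, -1], [259, 258, 261,
  258, 244, 258, 258, 258], 8, 3⟩) (.lf ⟨[1, 0, 1, 0, 1, 1, 1, 0], [1281, 1282, 1279, 1291, 1268, 1282, 1152,
  1597], 3, 18⟩)) (.nd (.lf ⟨[-2, -2, -3, -3, -3, -2, -1, 0], [771, 772, 774, 759, 788, 770, 770, 455], 7,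
  8⟩) (.lf ⟨[2, 2, 2, 3, 2, 2, 2, 1], [1793, 1792, 1798, 1794, 1812, 1794, 1682, 1794], 2, 19⟩)))) (.nd (.nd
  (.nd (.lf ⟨[-2, -4, -5, -8, -7, -5, -3, -1], [129, 130, 130, 130, 133, 130, 130, 31], 7, 24⟩) (.lf ⟨[1, 0,
  0, 1, 1, 1, 0, 0], [1153, 1156, 1157, 1149, 1154, 1104, 1284, 1154], 3, 19⟩)) (.nd (.lf ⟨[-1, -1, -1, -2,
  -2, -1, 0, -1], [643, 642, 641, 642, 648, 642, 409, 1415], 6, 13⟩) (.lf ⟨[0, 1, 0, 2, 2, 2, 1, 1], [1666,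
  1666, 1672, 1661, 1666, 1621, 1778, 1351], 4, 8⟩))) (.nd (.nd (.lf ⟨[0, -1, 0, -1, -2, -2, -2, -1], [386,
  387, 383, 381, 396, 386, 498, 386], 4, 22⟩) (.lf ⟨[-1, -1, -2, -2, -2, -1, 0, 1], [1410, 1410, 1415, 1407,
  1420, 1410, 1410, 641], 6, 13⟩)) (.nd (.lf ⟨[1, 0, 1, 0, 0, -1, -1, 0], [897, 898, 895, 902, 884, 936,
  1031, 583], 3, 22⟩) (.lf ⟨[1, 2, 2, 4, 4, 4, 2, 1], [1922, 1922, 1923, 1922, 1922, 1832, 1978, 1922], 3,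
  8⟩))))) (.nd (.nd (.nd (.nd (.nd (.lf ⟨[-1, -3, -3, -6, -5, -4, -3, -2], [65, 66, 63, 70, 66, 66, 66, 165],
  6, 26⟩) (.lf ⟨[2, 4, 5, 8, 6, 4, 3, 2], [2115, 2114, 2114, 2112, 2114, 2125, 2114, 2015], 2, 4⟩)) (.lf ⟨[1,
  0, 2, 1, 0, 0, 0, 0], [1090, 1091, 1087, 1090, 1107, 1090, 1090, 1090], 3, 20⟩)) (.nd (.lf ⟨[0, -1, 0, 0,
  0, -1, -1, -1], [578, 581, 578, 574, 564, 609, 578, 893], 4, 18⟩) (.lf ⟨[1, 0, 2, 1, 1, 1, 1, 1], [1602,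
  1603, 1599, 1609, 1602, 1602, 1602, 1287], 3, 16⟩))) (.nd (.nd (.lf ⟨[-1, -1, -2, -2, -2, -3, -2, -1],
  [322, 322, 323, 315, 310, 408, 322, 322], 6, 16⟩) (.lf ⟨[0, 1, 0, 1, 2, 2, 1, 0], [1346, 1345, 1349, 1351,
  1334, 1301, 1346, 1661], 4, 10⟩)) (.nd (.lf ⟨[-1, -2, -3, -3, -2, -1, -1, 0], [833, 836, 841, 831, 834,
  789, 964, 519], 6, 14⟩) (.lf ⟨[1, 1, 3, 3, 3, 3, 2, 1], [1859, 1860, 1851, 1866, 1858, 1813, 1858, 1858],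
  3, 9⟩)))) (.nd (.nd (.nd (.lf ⟨[-1, -2, -3, -4, -3, -3, -3, -1], [193, 194, 195, 194, 191, 194, 418, 95],
  6, 19⟩) (.lf ⟨[0, 0, -1, -1, 0, 0, 1, 0], [1217, 1216, 1220, 1224, 1208, 1258, 923, 1542], 4, 16⟩)) (.nd
  (.lf ⟨[-2, -3, -4, -6, -5, -3, -1, 0], [706, 706, 706, 706, 714, 706, 624, 391], 7, 15⟩) (.lf ⟨[2, 3, 4, 6,
  4, 2, 1, 1], [1730, 1730, 1730, 1729, 1730, 1760, 1846, 1419], 2, 13⟩))) (.nd (.nd (.lf ⟨[-1, -1, -3, -4,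
  -3, -2, -1, -1], [449, 448, 454, 458, 450, 450, 338, 765], 6, 17⟩) (.lf ⟨[1, 1, 2, 3, 2, 2, 2, 0], [1474,
  1475, 1474, 1467, 1483, 1474, 1232, 2037], 3, 14⟩)) (.nd (.lf ⟨[-1, -2, -2, -4, -2, -1, 0, 0], [962, 962,
  961, 975, 949, 962, 832, 962], 6, 13⟩) (.lf ⟨[2, 3, 4, 5, 4, 4, 3, 1], [1986, 1985, 1984, 1987, 1993, 1975,
  1930, 2085], 2, 11⟩)))))) (.nd (.nd (.nd (.nd (.nd (.nd (.lf ⟨[-2, -4, -5, -8, -6, -5, -3, -2], [33, 34,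
  34, 36, 31, 45, 17, 133], 7, 24⟩) (.lf ⟨[1, 3, 3, 5, 4, 4, 3, 2], [2083, 2080, 2082, 2082, 2089, 2071,
  2082, 1983], 3, 3⟩)) (.lf ⟨[0, 0, -1, 0, -1, 0, 0, 0], [1057, 1058, 1064, 1049, 1095, 1008, 1058, 1058], 4,
  16⟩)) (.nd (.lf ⟨[-1, -1, -2, -3, -1, -1, -1, -1], [546, 545, 546, 556, 513, 546, 546, 861], 6, 13⟩) (.lf
  ⟨[-1, -1, -1, -1, 0, 1, 1, 1], [1571, 1572, 1570, 1570, 1570, 1539, 1570, 1255], 6, 6⟩))) (.nd (.nd (.lf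
  ⟨[-2, -3, -3, -4, -3, -3, -2, -1], [291, 292, 290, 285, 273, 335, 290, 290], 7, 12⟩) (.lf ⟨[1, 2, 2, 2, 2,
  1, 1, 0], [1314, 1311, 1310, 1327, 1297, 1359, 1184, 1629], 3, 14⟩)) (.nd (.lf ⟨[0, -1, -2, -2, -2, -2, -1,
  0], [801, 802, 808, 795, 802, 847, 802, 487], 4, 22⟩) (.lf ⟨[1, 2, 3, 5, 3, 2, 2, 1], [1827, 1828, 1826,
  1815, 1838, 1871, 1714, 1826], 3, 8⟩)))) (.nd (.nd (.nd (.lf ⟨[-1, -3, -4, -6, -5, -4, -3, -1], [161, 162,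
  165, 162, 162, 162, 218, 63], 6, 26⟩) (.lf ⟨[1, 1, 1, 3, 2, 1, 0, 0], [1185, 1188, 1193, 1175, 1186, 1186,
  1316, 1186], 3, 16⟩)) (.nd (.lf ⟨[0, 0, 0, -1, -1, 0, 0, -1], [674, 673, 672, 677, 683, 658, 599, 1455], 4,
  17⟩) (.lf ⟨[2, 1, 2, 3, 3, 2, 1, 1], [1697, 1700, 1702, 1698, 1680, 1698, 1810, 1383], 2, 20⟩))) (.nd (.nd
  (.lf ⟨[-1, -2, -3, -4, -3, -3, -1, -1], [417, 418, 419, 418, 412, 504, 194, 727], 6, 18⟩) (.lf ⟨[2, 3, 3,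
  5, 4, 3, 1, 0], [1441, 1440, 1444, 1442, 1442, 1414, 1522, 1755], 2, 15⟩)) (.nd (.lf ⟨[0, -1, 0, 0, 0, 0,
  -1, 0], [930, 933, 930, 924, 930, 893, 1226, 609], 4, 16⟩) (.lf ⟨[2, 4, 4, 7, 6, 4, 2, 1], [1954, 1953,
  1957, 1954, 1947, 1954, 2010, 1954], 2, 8⟩))))) (.nd (.nd (.nd (.nd (.nd (.lf ⟨[-1, -1, -2, -3, -3, -3, -3,
  -2], [98, 97, 98, 98, 98, 98, 115, 197], 6, 17⟩) (.lf ⟨[3, 4, 5, 8, 7, 5, 4, 2], [2145, 2146, 2147, 2146,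
  2143, 2151, 2129, 2146], 1, 7⟩)) (.lf ⟨[-1, 0, -1, -1, 0, 1, 0, 0], [1123, 1120, 1122, 1128, 1122, 1017,
  1257, 1122], 6, 7⟩)) (.nd (.lf ⟨[-1, 0, 0, 0, 0, 0, -1, -1], [611, 610, 607, 610, 610, 579, 689, 931], 6,
  7⟩) (.lf ⟨[0, 1, 2, 3, 2, 1, 1, 1], [1635, 1636, 1630, 1627, 1634, 1679, 1634, 1319], 4, 7⟩))) (.nd (.nd
  (.lf ⟨[0, -1, -1, -3, -3, -2, -2, -1], [353, 352, 350, 357, 372, 309, 466, 354], 4, 25⟩) (.lf ⟨[0, 1, 1, 3,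
  3, 2, 1, 0], [1379, 1380, 1382, 1375, 1360, 1378, 1378, 1693], 4, 7⟩)) (.nd (.lf ⟨[-1, -2, -1, -2, -1, -1,
  -1, 0], [867, 868, 862, 866, 849, 866, 996, 551], 6, 11⟩) (.lf ⟨[1, 2, 4, 5, 4, 3, 2, 1], [1891, 1892,
  1888, 1890, 1890, 1890, 1890, 1890], 3, 6⟩)))) (.nd (.nd (.nd (.lf ⟨[-2, -2, -3, -5, -5, -4, -2, -1], [227,
  224, 223, 226, 233, 256, 170, 226], 7, 14⟩) (.lf ⟨[1, 2, 3, 4, 3, 2, 0, 0], [1251, 1250, 1249, 1250, 1250,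
  1212, 1492, 1250], 3, 11⟩)) (.nd (.lf ⟨[1, 1, 1, 2, 1, 1, 0, -1], [737, 738, 739, 734, 744, 712, 738,
  1511], 3, 16⟩) (.lf ⟨[0, 0, 0, 1, 1, 2, 2, 1], [1762, 1763, 1764, 1761, 1772, 1734, 1648, 1762], 4, 10⟩)))
  (.nd (.nd (.lf ⟨[0, -2, -1, -3, -2, -2, -1, -1], [481, 484, 478, 490, 464, 527, 370, 797], 4, 24⟩) (.lf
  ⟨[1, 1, 1, 1, 1, 1, 0, 1], [1505, 1504, 1506, 1511, 1506, 1490, 1739, 734], 3, 16⟩)) (.nd (.lf ⟨[0, -1, -2,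
  -2, -1, -1, 0, 0], [993, 994, 1000, 994, 977, 1044, 864, 994], 4, 19⟩) (.lf ⟨[2, 3, 4, 6, 5, 5, 3, 1],
  [2018, 2018, 2018, 2018, 2019, 1977, 2018, 2117], 2, 9⟩))))))) (.nd (.nd (.nd (.nd (.nd (.nd (.nd (.lf
  ⟨[-3, -4, -5, -7, -6, -5, -4, -2], [19, 20, 18, 16, 18, 18, 35, 18], 8, 12⟩) (.lf ⟨[1, 2, 2, 4, 4, 3, 3,
  2], [2066, 2066, 2067, 2066, 2063, 2077, 2049, 1967], 3, 7⟩)) (.lf ⟨[-1, -2, -2, -2, -1, 0, 0, 0], [1042,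
  1045, 1046, 1040, 1042, 992, 1042, 1042], 6, 10⟩)) (.nd (.lf ⟨[-1, -2, -2, -2, -2, -1, -1, -1], [530, 533,
  534, 517, 547, 485, 530, 845], 6, 14⟩) (.lf ⟨[0, 1, 0, 1, 0, 0, 1, 1], [1554, 1553, 1557, 1550, 1561, 1585,
  1477, 1235], 4, 12⟩))) (.nd (.nd (.lf ⟨[-1, -3, -3, -4, -4, -3, -2, -1], [273, 276, 277, 265, 291, 274,
  274, 274], 6, 21⟩) (.lf ⟨[1, 1, 2, 3, 1, 1, 1, 0], [1298, 1299, 1298, 1288, 1331, 1298, 1168, 1613], 3,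
  15⟩)) (.nd (.lf ⟨[-1, -2, -3, -4, -2, -2, -1, 0], [785, 786, 787, 789, 751, 831, 786, 471], 6, 16⟩) (.lf
  ⟨[2, 1, 2, 3, 3, 2, 2, 1], [1809, 1812, 1814, 1810, 1792, 1855, 1698, 1810], 2, 19⟩)))) (.nd (.nd (.nd (.lf
  ⟨[-2, -4, -5, -7, -6, -4, -3, -1], [145, 148, 149, 144, 153, 135, 202, 47], 7, 21⟩) (.lf ⟨[0, 0, 0, 1, 2,
  1, 0, 0], [1170, 1171, 1172, 1170, 1139, 1170, 1300, 1170], 4, 13⟩)) (.nd (.lf ⟨[0, 0, 0, -1, -1, -1, 0,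
  -1], [658, 657, 656, 661, 658, 674, 425, 1431], 4, 18⟩) (.lf ⟨[2, 2, 2, 3, 2, 2, 1, 1], [1681, 1680, 1686,
  1682, 1700, 1637, 1794, 1367], 2, 20⟩))) (.nd (.nd (.lf ⟨[-2, -3, -4, -5, -4, -3, -1, -1], [402, 403, 404,
  399, 402, 430, 184, 715], 7, 14⟩) (.lf ⟨[0, -1, -1, -1, -1, -1, 0, 1], [1425, 1428, 1429, 1422, 1426, 1450,
  1426, 654], 4, 19⟩)) (.nd (.lf ⟨[0, 0, -1, -1, -1, 0, -1, 0], [913, 912, 916, 914, 923, 824, 1208, 597], 4,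
  18⟩) (.lf ⟨[1, 3, 3, 6, 5, 4, 2, 1], [1939, 1938, 1941, 1934, 1938, 1908, 1994, 1938], 3, 3⟩))))) (.nd (.nd
  (.nd (.nd (.nd (.lf ⟨[-1, -2, -2, -4, -4, -4, -3, -2], [82, 82, 81, 82, 82, 93, 82, 181], 6, 21⟩) (.lf ⟨[3,
  4, 6, 8, 7, 5, 3, 2], [2130, 2130, 2129, 2131, 2127, 2130, 2147, 2031], 1, 7⟩)) (.lf ⟨[1, 1, 0, 1, 1, 0, 0,
  0], [1105, 1104, 1108, 1106, 1089, 1156, 1106, 1106], 3, 19⟩)) (.nd (.lf ⟨[-1, -1, -1, -1, -1, 0, -1, -1],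
  [595, 596, 594, 591, 601, 506, 669, 911], 6, 11⟩) (.lf ⟨[1, 0, 1, 1, 2, 1, 1, 1], [1617, 1620, 1618, 1623,
  1587, 1663, 1618, 1303], 3, 16⟩))) (.nd (.nd (.lf ⟨[-1, -1, -3, -4, -3, -2, -2, -1], [337, 336, 342, 346,
  338, 293, 450, 338], 6, 18⟩) (.lf ⟨[0, 2, 1, 3, 2, 2, 1, 0], [1363, 1360, 1366, 1354, 1380, 1317, 1362,
  1677], 4, 7⟩)) (.nd (.lf ⟨[0, -2, -1, -2, -2, -1, -1, 0], [849, 852, 850, 842, 867, 805, 980, 535], 4, 21⟩)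
  (.lf ⟨[2, 3, 3, 5, 3, 3, 2, 1], [1873, 1872, 1876, 1869, 1905, 1829, 1874, 1874], 2, 14⟩)))) (.nd (.nd (.nd
  (.lf ⟨[-3, -3, -5, -7, -5, -4, -2, -1], [211, 208, 210, 214, 203, 240, 154, 210], 8, 6⟩) (.lf ⟨[0, 0, 0, 1,
  0, 0, 1, 0], [1234, 1235, 1236, 1220, 1243, 1269, 939, 1553], 4, 14⟩)) (.nd (.lf ⟨[-2, -2, -3, -4, -4, -3,
  -1, 0], [723, 722, 722, 719, 726, 750, 644, 411], 7, 10⟩) (.lf ⟨[1, 2, 2, 4, 4, 3, 1, 1], [1746, 1746,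
  1747, 1746, 1740, 1720, 1967, 1435], 3, 9⟩))) (.nd (.nd (.lf ⟨[0, -1, -1, -3, -3, -2, -1, -1], [465, 464,
  462, 469, 484, 466, 354, 781], 4, 24⟩) (.lf ⟨[1, 1, 1, 1, 1, 0, 0, 1], [1489, 1488, 1490, 1495, 1481, 1506,
  1565, 710], 3, 17⟩)) (.nd (.lf ⟨[-1, 0, -2, -2, -2, -1, 0, 0], [978, 975, 981, 978, 995, 978, 848, 978], 6,
  11⟩) (.lf ⟨[2, 3, 4, 7, 5, 4, 3, 1], [2002, 2003, 2004, 1993, 2009, 2002, 1946, 2101], 2, 9⟩)))))) (.nd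
  (.nd (.nd (.nd (.nd (.nd (.lf ⟨[-2, -4, -4, -7, -6, -4, -3, -2], [50, 51, 47, 50, 57, 39, 50, 149], 7, 21⟩)
  (.lf ⟨[2, 4, 4, 6, 5, 4, 3, 2], [2098, 2095, 2098, 2102, 2098, 2098, 2098, 1999], 2, 8⟩)) (.lf ⟨[-1, -1,
  -1, 0, 0, 0, 0, 0], [1075, 1076, 1078, 1066, 1074, 1074, 1074, 1074], 6, 7⟩)) (.nd (.lf ⟨[-1, 0, -1, 0, -1,
  -1, -1, -1], [563, 562, 565, 553, 576, 562, 562, 877], 6, 10⟩) (.lf ⟨[0, 0, 1, 1, 0, 1, 1, 1], [1587, 1588,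
  1584, 1582, 1617, 1555, 1586, 1271], 4, 11⟩))) (.nd (.nd (.lf ⟨[-1, -2, -1, -3, -3, -3, -2, -1], [307, 308,
  299, 306, 306, 351, 306, 306], 6, 18⟩) (.lf ⟨[0, 0, 0, 0, 1, 2, 1, 0], [1330, 1330, 1330, 1333, 1330, 1240,
  1330, 1645], 4, 13⟩)) (.nd (.lf ⟨[-2, -2, -3, -4, -3, -1, -1, 0], [819, 818, 818, 818, 830, 726, 946, 503],
  7, 8⟩) (.lf ⟨[2, 2, 4, 5, 4, 2, 2, 1], [1842, 1843, 1839, 1842, 1830, 1929, 1728, 1842], 2, 14⟩)))) (.nd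
  (.nd (.nd (.lf ⟨[-1, -2, -3, -5, -4, -4, -3, -1], [177, 176, 178, 180, 171, 189, 234, 79], 6, 22⟩) (.lf
  ⟨[0, -1, -1, -2, -1, 0, 1, 0], [1201, 1202, 1202, 1206, 1202, 1202, 907, 1530], 4, 19⟩)) (.nd (.lf ⟨[1, 0,
  0, 0, 0, 0, 0, -1], [689, 690, 694, 690, 690, 690, 611, 1470], 3, 22⟩) (.lf ⟨[1, 2, 3, 5, 3, 2, 1, 1],
  [1715, 1716, 1714, 1703, 1724, 1714, 1826, 1399], 3, 9⟩))) (.nd (.nd (.lf ⟨[-2, -2, -3, -5, -4, -2, -1,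
  -1], [435, 432, 431, 437, 444, 406, 320, 747], 7, 11⟩) (.lf ⟨[0, -1, -1, -1, 0, 0, 0, 1], [1457, 1460,
  1461, 1458, 1450, 1458, 1540, 679], 4, 17⟩)) (.nd (.lf ⟨[-2, -2, -3, -4, -3, -1, 0, 0], [947, 946, 946,
  946, 960, 908, 818, 946], 7, 7⟩) (.lf ⟨[1, 2, 3, 5, 4, 3, 3, 1], [1971, 1972, 1970, 1968, 1970, 1981, 1752,
  2069], 3, 6⟩))))) (.nd (.nd (.nd (.nd (.lf ⟨[-1, -2, -2, -3, -3, -3, -2, -2], [114, 115, 114, 113, 114,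
  119, 97, 659], 6, 17⟩) (.lf ⟨[1, 2, 2, 3, 2, 0, 0, 0], [1138, 1137, 1138, 1138, 1119, 1233, 1138, 1138], 3,
  15⟩)) (.nd (.lf ⟨[1, 0, 1, 1, 1, 0, -1, -1], [625, 628, 626, 626, 618, 626, 708, 952], 3, 20⟩) (.lf ⟨[0, 0,
  1, 1, 1, 2, 1, 1], [1651, 1652, 1648, 1650, 1662, 1562, 1764, 1335], 4, 10⟩))) (.nd (.nd (.lf ⟨[0, -2, -1,
  -3, -2, -2, -2, -1], [369, 372, 366, 378, 352, 370, 482, 370], 4, 25⟩) (.lf ⟨[1, 1, 3, 4, 3, 2, 1, 0],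
  [1395, 1396, 1390, 1386, 1394, 1394, 1394, 1709], 3, 11⟩)) (.nd (.lf ⟨[0, 1, 0, 0, -1, -1, -1, 0], [882,
  879, 882, 882, 896, 882, 1012, 567], 4, 17⟩) (.lf ⟨[2, 2, 4, 5, 5, 3, 2, 1], [1906, 1907, 1903, 1910, 1875,
  1936, 1906, 1906], 2, 13⟩)))) (.nd (.nd (.nd (.lf ⟨[-2, -4, -4, -7, -5, -3, -2, -1], [242, 243, 239, 246,
  242, 212, 242, 242], 7, 17⟩) (.lf ⟨[0, 1, 0, 0, 0, 1, 1, 0], [1266, 1263, 1266, 1270, 1280, 1229, 1134,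
  1581], 4, 13⟩)) (.nd (.lf ⟨[-1, -2, -2, -4, -4, -2, -1, 0], [754, 754, 751, 754, 787, 724, 754, 439], 6,
  16⟩) (.lf ⟨[0, 1, 0, 2, 2, 2, 2, 1], [1778, 1778, 1784, 1773, 1778, 1778, 1666, 1778], 4, 7⟩))) (.nd (.nd
  (.lf ⟨[0, -1, 0, -1, -2, -2, -1, -1], [498, 499, 495, 493, 510, 543, 386, 813], 4, 21⟩) (.lf ⟨[2, 3, 3, 5,
  4, 3, 2, 0], [1521, 1520, 1524, 1522, 1522, 1522, 1442, 2055], 2, 14⟩)) (.nd (.lf ⟨[-1, 0, 0, 0, -1, -1, 0,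
  0], [1011, 1010, 1007, 1005, 1026, 1060, 880, 1010], 6, 7⟩) (.lf ⟨[0, 1, 1, 2, 2, 2, 2, 2], [2035, 2034,
  2034, 2034, 2034, 2034, 2034, 1463], 5, 0⟩)))))))) (.nd (.nd (.nd (.nd (.nd (.nd (.nd (.nd (.lf ⟨[-3, -5,
  -6, -9, -7, -5, -4, -2], [10, 11, 10, 10, 10, 5, 27, 10], 8, 17⟩) (.lf ⟨[2, 3, 4, 6, 4, 3, 2, 2], [2058,
  2058, 2058, 2057, 2059, 2058, 2075, 1527], 2, 11⟩)) (.lf ⟨[0, 0, 0, 1, 0, -1, 0, 0], [1034, 1035, 1036,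
  1020, 1034, 1139, 899, 1034], 4, 15⟩)) (.nd (.lf ⟨[-2, -2, -2, -3, -2, -1, -1, -1], [523, 524, 518, 522,
  522, 477, 522, 837], 7, 6⟩) (.lf ⟨[0, 0, -1, 0, 0, 0, 1, 1], [1545, 1546, 1551, 1542, 1546, 1577, 1466,
  1224], 4, 14⟩))) (.nd (.nd (.lf ⟨[-3, -3, -4, -5, -4, -3, -2, -1], [267, 268, 266, 261, 266, 266, 266,
  266], 8, 1⟩) (.lf ⟨[0, 0, 1, 2, 1, 1, 1, 0], [1291, 1292, 1290, 1281, 1307, 1290, 1160, 1605], 4, 11⟩))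
  (.nd (.lf ⟨[-1, -2, -1, -3, -3, -2, -1, 0], [779, 780, 771, 778, 796, 778, 778, 463], 6, 15⟩) (.lf ⟨[0, 1,
  1, 2, 3, 2, 2, 1], [1803, 1802, 1802, 1805, 1769, 1847, 1690, 1802], 4, 6⟩)))) (.nd (.nd (.nd (.lf ⟨[-2,
  -4, -4, -7, -6, -5, -3, -1], [138, 139, 135, 138, 138, 149, 138, 39], 7, 21⟩) (.lf ⟨[0, 2, 1, 2, 1, 1, 0,
  0], [1163, 1160, 1162, 1162, 1179, 1112, 1292, 1162], 4, 11⟩)) (.nd (.lf ⟨[-2, -2, -3, -4, -3, -3, -2, 0],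
  [651, 650, 650, 650, 644, 666, 726, 111], 7, 10⟩) (.lf ⟨[1, 2, 2, 2, 2, 2, 1, 1], [1674, 1671, 1670, 1687,
  1674, 1629, 1786, 1359], 3, 12⟩))) (.nd (.nd (.lf ⟨[-1, 0, -1, -1, -1, -2, -2, -1], [395, 392, 394, 394,
  384, 422, 508, 394], 6, 12⟩) (.lf ⟨[2, 3, 4, 5, 4, 2, 1, 0], [1418, 1417, 1414, 1419, 1404, 1444, 1418,
  1729], 2, 15⟩)) (.nd (.lf ⟨[-1, -1, -1, -2, -1, 0, -1, 0], [907, 906, 905, 911, 906, 816, 1201, 591], 6,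
  11⟩) (.lf ⟨[2, 3, 4, 5, 4, 4, 2, 1], [1930, 1929, 1928, 1931, 1937, 1843, 1986, 1930], 2, 12⟩))))) (.nd
  (.nd (.nd (.nd (.nd (.lf ⟨[-2, -3, -4, -5, -4, -4, -3, -2], [74, 75, 76, 73, 67, 85, 74, 173], 7, 17⟩) (.lf
  ⟨[3, 3, 5, 7, 6, 5, 3, 2], [2121, 2124, 2122, 2122, 2122, 2111, 2139, 2023], 1, 11⟩)) (.lf ⟨[-1, 0, 0, 0,
  1, 0, 0, 0], [1099, 1098, 1094, 1103, 1060, 1148, 1098, 1098], 6, 5⟩)) (.nd (.lf ⟨[0, 0, 1, 1, 0, -1, -1,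
  -1], [587, 588, 584, 582, 586, 617, 586, 901], 4, 16⟩) (.lf ⟨[0, 1, 2, 2, 1, 1, 1, 1], [1611, 1610, 1604,
  1610, 1627, 1610, 1610, 1295], 4, 9⟩))) (.nd (.nd (.lf ⟨[-2, -3, -3, -5, -3, -2, -2, -1], [331, 332, 328,
  335, 318, 285, 442, 330], 7, 12⟩) (.lf ⟨[0, 2, 1, 2, 2, 2, 1, 0], [1355, 1352, 1354, 1362, 1354, 1309,
  1354, 1669], 4, 8⟩)) (.nd (.lf ⟨[0, -2, -1, -3, -2, -1, -1, 0], [841, 844, 838, 850, 842, 797, 972, 527],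
  4, 22⟩) (.lf ⟨[1, 1, 3, 4, 3, 3, 2, 1], [1867, 1868, 1862, 1858, 1883, 1821, 1866, 1866], 3, 8⟩)))) (.nd
  (.nd (.nd (.lf ⟨[-2, -4, -5, -7, -6, -4, -2, -1], [201, 204, 205, 200, 209, 202, 146, 202], 7, 20⟩) (.lf
  ⟨[0, -1, 0, 0, 0, 0, 1, 0], [1226, 1229, 1226, 1219, 1226, 1263, 930, 1547], 4, 15⟩)) (.nd (.lf ⟨[-2, -3,
  -4, -6, -4, -3, -1, 0], [714, 714, 714, 715, 706, 740, 632, 399], 7, 14⟩) (.lf ⟨[0, 1, 1, 1, 1, 1, 2, 1],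
  [1739, 1736, 1735, 1743, 1738, 1766, 1505, 1738], 4, 9⟩))) (.nd (.nd (.lf ⟨[-1, -1, -3, -3, -3, -2, -1,
  -1], [457, 456, 465, 450, 476, 458, 346, 773], 6, 16⟩) (.lf ⟨[0, 0, 0, 0, 1, 0, 0, 1], [1482, 1482, 1482,
  1485, 1456, 1498, 1559, 703], 4, 14⟩)) (.nd (.lf ⟨[0, -1, -2, -3, -2, -1, 0, 0], [969, 968, 974, 977, 970,
  970, 840, 970], 4, 21⟩) (.lf ⟨[1, 3, 3, 6, 5, 4, 3, 1], [1995, 1994, 1997, 1990, 1994, 1994, 1938, 2093],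
  3, 2⟩)))))) (.nd (.nd (.nd (.nd (.nd (.nd (.lf ⟨[-2, -3, -4, -6, -5, -5, -3, -2], [42, 42, 42, 42, 41, 83,
  25, 141], 7, 19⟩) (.lf ⟨[2, 3, 3, 5, 5, 4, 3, 2], [2089, 2088, 2092, 2094, 2083, 2090, 2090, 1991], 2,
  10⟩)) (.lf ⟨[-1, -1, -1, -2, 0, 0, 0, 0], [1067, 1066, 1063, 1074, 1032, 1066, 1066, 1066], 6, 8⟩)) (.nd
  (.lf ⟨[0, 0, -1, -2, -1, -1, -1, -1], [553, 552, 554, 563, 537, 554, 554, 869], 4, 20⟩) (.lf ⟨[0, -1, 0, 0,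
  0, 1, 1, 1], [1578, 1581, 1578, 1574, 1592, 1547, 1578, 1263], 4, 13⟩))) (.nd (.nd (.lf ⟨[-2, -2, -3, -3,
  -3, -3, -2, -1], [299, 300, 302, 287, 298, 343, 298, 298], 7, 11⟩) (.lf ⟨[2, 2, 2, 3, 2, 1, 1, 0], [1321,
  1320, 1326, 1322, 1322, 1367, 1192, 1637], 2, 22⟩)) (.nd (.lf ⟨[0, -1, -1, -1, -2, -2, -1, 0], [809, 812,
  813, 799, 822, 855, 810, 495], 4, 21⟩) (.lf ⟨[2, 2, 3, 4, 4, 2, 2, 1], [1833, 1834, 1834, 1839, 1801, 1924,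
  1722, 1834], 2, 16⟩)))) (.nd (.nd (.nd (.lf ⟨[-2, -2, -3, -5, -5, -4, -3, -1], [171, 168, 167, 170, 177,
  170, 226, 71], 7, 15⟩) (.lf ⟨[2, 1, 3, 3, 2, 1, 0, 0], [1193, 1196, 1190, 1194, 1194, 1194, 1324, 1194], 2,
  23⟩)) (.nd (.lf ⟨[0, -1, 0, -1, 0, 0, 0, -1], [682, 683, 679, 688, 673, 682, 605, 1461], 4, 17⟩) (.lf ⟨[0,
  2, 2, 4, 3, 2, 1, 1], [1707, 1706, 1706, 1699, 1706, 1706, 1818, 1391], 4, 3⟩))) (.nd (.nd (.lf ⟨[-1, -2,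
  -2, -3, -3, -3, -1, -1], [426, 427, 426, 419, 426, 512, 196, 735], 6, 16⟩) (.lf ⟨[0, -1, -1, -1, -1, 0, 0,
  1], [1449, 1452, 1454, 1448, 1458, 1426, 1532, 670], 4, 18⟩)) (.nd (.lf ⟨[0, -1, -1, -2, -2, -2, 0, 0],
  [937, 938, 938, 938, 938, 1033, 696, 938], 5, 10⟩) (.lf ⟨[1, 1, 2, 3, 3, 3, 3, 1], [1962, 1963, 1962, 1962,
  1962, 1962, 1732, 2061], 3, 11⟩))))) (.nd (.nd (.nd (.nd (.nd (.lf ⟨[-2, -2, -3, -5, -4, -3, -2, -2], [107,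
  104, 103, 108, 106, 106, 89, 639], 7, 13⟩) (.lf ⟨[3, 5, 6, 9, 7, 6, 4, 2], [2154, 2153, 2154, 2154, 2156,
  2149, 2154, 2154], 1, 3⟩)) (.lf ⟨[1, 1, 2, 2, 2, 0, 0, 0], [1130, 1130, 1127, 1137, 1096, 1225, 1130,
  1130], 3, 17⟩)) (.nd (.lf ⟨[1, 0, 1, 1, 0, 0, -1, -1], [617, 620, 618, 614, 626, 587, 700, 942], 3, 21⟩)
  (.lf ⟨[1, 2, 2, 4, 2, 1, 1, 1], [1642, 1642, 1643, 1629, 1654, 1687, 1642, 1327], 3, 12⟩))) (.nd (.nd (.lf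
  ⟨[-1, -2, -3, -3, -2, -2, -2, -1], [361, 364, 369, 359, 344, 362, 474, 362], 6, 17⟩) (.lf ⟨[1, 1, 3, 3, 3,
  2, 1, 0], [1387, 1388, 1379, 1394, 1368, 1386, 1386, 1701], 3, 12⟩)) (.nd (.lf ⟨[1, -1, 0, -1, -1, -1, -1,
  0], [873, 876, 874, 874, 874, 874, 1004, 559], 3, 26⟩) (.lf ⟨[3, 3, 4, 6, 4, 3, 2, 1], [1897, 1898, 1901,
  1893, 1912, 1898, 1898, 1898], 1, 19⟩)))) (.nd (.nd (.nd (.lf ⟨[-1, -2, -3, -5, -4, -4, -2, -1], [233, 232,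
  234, 236, 227, 321, 178, 234], 6, 21⟩) (.lf ⟨[0, 0, -1, -1, 0, 1, 1, 0], [1257, 1256, 1260, 1262, 1258,
  1218, 1123, 1573], 4, 15⟩)) (.nd (.lf ⟨[-1, -3, -3, -5, -4, -2, -1, 0], [745, 748, 746, 746, 758, 718, 746,
  433], 6, 19⟩) (.lf ⟨[1, 1, 1, 2, 1, 2, 2, 1], [1769, 1770, 1771, 1767, 1803, 1744, 1658, 1770], 3, 13⟩)))
  (.nd (.nd (.lf ⟨[0, -2, -1, -2, -2, -2, -1, -1], [489, 492, 490, 482, 490, 535, 378, 805], 4, 23⟩) (.lf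
  ⟨[1, 2, 3, 4, 4, 3, 2, 0], [1515, 1514, 1513, 1519, 1508, 1514, 1436, 2050], 3, 8⟩)) (.nd (.lf ⟨[-1, 0, -2,
  -1, -1, -1, 0, 0], [1002, 1001, 1005, 995, 1002, 1052, 872, 1002], 6, 9⟩) (.lf ⟨[2, 4, 5, 8, 6, 5, 3, 1],
  [2027, 2026, 2026, 2024, 2029, 2015, 2026, 2125], 2, 4⟩))))))) (.nd (.nd (.nd (.nd (.nd (.nd (.nd (.lf
  ⟨[-2, -3, -4, -6, -5, -4, -4, -2], [26, 26, 26, 26, 26, 25, 99, 26], 7, 19⟩) (.lf ⟨[2, 3, 4, 5, 4, 3, 3,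
  2], [2074, 2073, 2072, 2075, 2074, 2085, 2057, 1975], 2, 11⟩)) (.lf ⟨[0, -1, 0, -2, -1, 0, 0, 0], [1050,
  1050, 1044, 1059, 1050, 1000, 1050, 1050], 4, 17⟩)) (.nd (.lf ⟨[0, -1, 0, -2, -2, -1, -1, -1], [538, 538,
  532, 543, 555, 493, 538, 853], 4, 21⟩) (.lf ⟨[0, 0, 1, 1, 1, 0, 1, 1], [1563, 1564, 1560, 1562, 1555, 1650,
  1487, 1245], 4, 11⟩))) (.nd (.nd (.lf ⟨[-1, -1, -2, -3, -4, -3, -2, -1], [282, 281, 282, 280, 315, 282,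
  282, 282], 6, 18⟩) (.lf ⟨[0, 1, 0, 2, 2, 1, 1, 0], [1306, 1306, 1312, 1301, 1289, 1351, 1176, 1621], 4,
  10⟩)) (.nd (.lf ⟨[-2, -1, -2, -3, -2, -2, -1, 0], [795, 792, 790, 801, 776, 839, 794, 479], 7, 5⟩) (.lf
  ⟨[0, 2, 2, 4, 3, 2, 2, 1], [1819, 1818, 1818, 1811, 1818, 1863, 1706, 1818], 4, 2⟩)))) (.nd (.nd (.nd (.lf
  ⟨[-3, -3, -5, -7, -5, -4, -3, -1], [155, 152, 154, 158, 147, 154, 210, 55], 8, 7⟩) (.lf ⟨[1, 0, 1, 2, 2, 1,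
  0, 0], [1177, 1180, 1181, 1173, 1161, 1178, 1308, 1178], 3, 17⟩)) (.nd (.lf ⟨[-2, -2, -3, -4, -3, -2, -2,
  0], [667, 666, 666, 666, 666, 650, 908, 116], 7, 9⟩) (.lf ⟨[0, 1, 1, 2, 3, 2, 1, 1], [1691, 1690, 1690,
  1693, 1657, 1690, 1802, 1375], 4, 7⟩))) (.nd (.nd (.lf ⟨[0, -1, -1, -2, -2, -1, -2, -1], [409, 410, 410,
  410, 416, 324, 643, 410], 4, 23⟩) (.lf ⟨[0, 0, 0, 0, -1, -1, 0, 1], [1434, 1434, 1434, 1431, 1438, 1456,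
  1434, 661], 4, 16⟩)) (.nd (.lf ⟨[-1, 0, -1, -1, 0, 0, -1, 0], [923, 920, 922, 928, 913, 887, 1217, 603], 6,
  8⟩) (.lf ⟨[2, 3, 4, 7, 5, 4, 2, 1], [1946, 1947, 1948, 1937, 1953, 1916, 2002, 1946], 2, 10⟩))))) (.nd (.nd
  (.nd (.nd (.nd (.lf ⟨[-1, -2, -3, -5, -4, -3, -3, -2], [89, 88, 90, 92, 90, 79, 107, 189], 6, 22⟩) (.lf
  ⟨[2, 3, 5, 7, 6, 5, 4, 2], [2139, 2140, 2136, 2138, 2138, 2138, 2121, 2138], 2, 4⟩)) (.lf ⟨[1, 0, 2, 2, 1,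
  0, 0, 0], [1114, 1117, 1111, 1107, 1114, 1164, 1114, 1114], 3, 18⟩)) (.nd (.lf ⟨[0, -1, -1, -1, 0, 0, -1,
  -1], [601, 604, 605, 602, 595, 571, 679, 921], 4, 19⟩) (.lf ⟨[1, 0, 2, 2, 2, 1, 1, 1], [1626, 1629, 1623,
  1626, 1609, 1671, 1626, 1311], 3, 14⟩))) (.nd (.nd (.lf ⟨[-1, -1, -3, -3, -3, -2, -2, -1], [345, 344, 353,
  338, 364, 301, 458, 346], 6, 17⟩) (.lf ⟨[1, 2, 3, 3, 2, 2, 1, 0], [1371, 1368, 1363, 1373, 1388, 1325,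
  1370, 1685], 3, 12⟩)) (.nd (.lf ⟨[0, -1, 0, -1, -2, -1, -1, 0], [858, 859, 855, 853, 889, 813, 988, 543],
  4, 19⟩) (.lf ⟨[1, 3, 2, 4, 4, 3, 2, 1], [1882, 1879, 1885, 1889, 1865, 1882, 1882, 1882], 3, 7⟩)))) (.nd
  (.nd (.nd (.lf ⟨[-1, -3, -4, -6, -5, -4, -2, -1], [217, 218, 221, 218, 218, 248, 162, 218], 6, 25⟩) (.lf
  ⟨[1, 2, 2, 3, 3, 2, 0, 0], [1242, 1241, 1242, 1249, 1233, 1204, 1484, 1242], 3, 13⟩)) (.nd (.lf ⟨[0, 1, 0,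
  1, 1, 1, 0, -1], [730, 728, 733, 730, 730, 705, 730, 1502], 4, 12⟩) (.lf ⟨[1, 3, 3, 5, 4, 3, 1, 1], [1755,
  1752, 1754, 1754, 1754, 1726, 1972, 1441], 3, 6⟩))) (.nd (.nd (.lf ⟨[-1, -2, -3, -3, -2, -2, -1, -1], [473,
  476, 481, 471, 456, 519, 362, 789], 6, 16⟩) (.lf ⟨[0, 0, 0, 0, 1, 1, 0, 1], [1498, 1498, 1498, 1501, 1497,
  1482, 1731, 725], 4, 13⟩)) (.nd (.lf ⟨[-1, 0, -1, -1, -2, -1, 0, 0], [987, 984, 986, 981, 1017, 986, 856,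
  986], 6, 9⟩) (.lf ⟨[2, 4, 4, 7, 6, 4, 3, 1], [2010, 2009, 2013, 2010, 2003, 2021, 1954, 2109], 2, 7⟩))))))
  (.nd (.nd (.nd (.nd (.nd (.nd (.lf ⟨[-2, -3, -4, -7, -5, -4, -3, -2], [58, 57, 56, 67, 51, 58, 58, 157], 7,
  19⟩) (.lf ⟨[3, 4, 5, 7, 5, 4, 3, 2], [2105, 2104, 2106, 2106, 2113, 2106, 2106, 2007], 1, 12⟩)) (.lf ⟨[0,
  -1, 1, 0, 0, 0, 0, 0], [1083, 1084, 1075, 1082, 1082, 1082, 1082, 1082], 5, 6⟩)) (.nd (.lf ⟨[-1, -1, -1,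
  -1, 0, -1, -1, -1], [571, 572, 570, 570, 539, 601, 570, 885], 6, 11⟩) (.lf ⟨[1, 0, 0, 0, 1, 1, 1, 1],
  [1593, 1594, 1597, 1599, 1580, 1594, 1594, 1279], 3, 18⟩))) (.nd (.nd (.lf ⟨[-1, -2, -2, -3, -2, -3, -2,
  -1], [314, 315, 314, 314, 281, 400, 314, 314], 6, 18⟩) (.lf ⟨[1, 1, 1, 1, 1, 2, 1, 0], [1337, 1336, 1338,
  1343, 1350, 1248, 1338, 1653], 3, 16⟩)) (.nd (.lf ⟨[0, 0, 0, -1, -1, -2, -1, 0], [826, 825, 824, 829, 814,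
  916, 826, 511], 4, 18⟩) (.lf ⟨[0, 1, 1, 3, 3, 3, 2, 1], [1851, 1852, 1854, 1847, 1850, 1805, 1850, 1850],
  4, 4⟩)))) (.nd (.nd (.nd (.lf ⟨[-2, -3, -3, -5, -4, -3, -3, -1], [187, 188, 184, 186, 186, 175, 404, 87],
  7, 14⟩) (.lf ⟨[1, 2, 2, 4, 3, 1, 0, 0], [1210, 1210, 1212, 1204, 1197, 1249, 1339, 1210], 3, 13⟩)) (.nd
  (.lf ⟨[0, 1, 0, 1, 0, 0, 0, -1], [698, 697, 701, 691, 705, 698, 616, 1477], 4, 14⟩) (.lf ⟨[2, 2, 3, 4, 4,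
  2, 1, 1], [1721, 1722, 1722, 1725, 1689, 1748, 1834, 1409], 2, 17⟩))) (.nd (.nd (.lf ⟨[-2, -3, -3, -5, -3,
  -2, -1, -1], [443, 444, 440, 447, 432, 442, 330, 757], 7, 11⟩) (.lf ⟨[0, 0, -1, 0, 0, 0, 0, 1], [1465,
  1466, 1472, 1460, 1466, 1466, 1546, 687], 4, 15⟩)) (.nd (.lf ⟨[1, 1, 1, 1, 1, 0, -1, 0], [953, 952, 954,
  958, 944, 954, 1248, 628], 3, 18⟩) (.lf ⟨[1, 2, 2, 4, 4, 4, 3, 1], [1978, 1978, 1979, 1978, 1978, 1967,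
  1922, 2077], 3, 7⟩))))) (.nd (.nd (.nd (.nd (.lf ⟨[-1, -1, -2, -3, -2, -2, -2, -2], [122, 121, 122, 123,
  120, 122, 122, 685], 6, 14⟩) (.lf ⟨[0, 0, -1, 0, 1, 1, 0, 0], [1145, 1146, 1151, 1146, 1129, 1095, 1276,
  1146], 4, 14⟩)) (.nd (.lf ⟨[-1, -1, -2, -3, -2, -1, 0, -1], [634, 633, 634, 641, 634, 634, 401, 1407], 6,
  15⟩) (.lf ⟨[1, 1, 1, 2, 1, 2, 1, 1], [1657, 1658, 1659, 1653, 1691, 1568, 1770, 1343], 3, 14⟩))) (.nd (.nd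
  (.lf ⟨[0, -2, -1, -2, -2, -2, -2, -1], [377, 380, 378, 370, 378, 378, 490, 378], 4, 24⟩) (.lf ⟨[2, 3, 3, 5,
  3, 2, 1, 0], [1401, 1400, 1404, 1397, 1414, 1402, 1402, 1717], 2, 17⟩)) (.nd (.lf ⟨[0, 0, 0, -1, 0, -1, -1,
  0], [890, 889, 888, 899, 859, 925, 1020, 575], 4, 17⟩) (.lf ⟨[2, 3, 5, 6, 5, 3, 2, 1], [1915, 1914, 1909,
  1918, 1900, 1944, 1914, 1914], 2, 11⟩)))) (.nd (.nd (.nd (.lf ⟨[-2, -3, -3, -6, -5, -3, -2, -1], [251, 250,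
  245, 254, 264, 220, 250, 250], 7, 15⟩) (.lf ⟨[1, 1, 1, 1, 0, 1, 1, 0], [1273, 1272, 1274, 1274, 1305, 1239,
  1144, 1589], 3, 17⟩)) (.nd (.lf ⟨[-2, -3, -3, -4, -3, -2, -1, 0], [763, 764, 762, 757, 762, 762, 762, 447],
  7, 9⟩) (.lf ⟨[1, 2, 2, 2, 2, 2, 2, 1], [1786, 1783, 1782, 1799, 1786, 1786, 1674, 1786], 3, 11⟩))) (.nd
  (.nd (.lf ⟨[-1, -1, -1, -1, -1, -2, -1, -1], [507, 508, 506, 501, 494, 594, 392, 821], 6, 12⟩) (.lf ⟨[0,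
  -1, -1, -2, -1, 0, 1, 1], [1529, 1530, 1530, 1532, 1530, 1530, 1448, 1202], 4, 18⟩)) (.nd (.lf ⟨[0, 0, -1,
  -1, 0, -1, 0, 0], [1017, 1016, 1020, 1024, 987, 1123, 888, 1018], 4, 17⟩) (.lf ⟨[1, 2, 3, 4, 3, 2, 2, 2],
  [2043, 2042, 2041, 2042, 2042, 2047, 2042, 1492], 3, 9⟩))))))))) (.nd (.nd (.nd (.nd (.nd (.nd (.nd (.nd
  (.nd (.lf ⟨[-3, -4, -6, -9, -7, -6, -4, -2], [6, 5, 6, 7, 4, 11, 6, 6], 8, 17⟩) (.lf ⟨[1, 3, 3, 5, 4, 3, 2,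
  2], [2055, 2052, 2054, 2054, 2054, 2054, 2071, 1521], 3, 5⟩)) (.lf ⟨[0, 0, 1, 0, 0, -1, 0, 0], [1031, 1030,
  1024, 1036, 1013, 1135, 897, 1030], 4, 15⟩)) (.nd (.lf ⟨[-2, -2, -3, -3, -2, -1, -1, -1], [519, 520, 522,
  515, 518, 473, 518, 833], 7, 7⟩) (.lf ⟨[0, 0, -1, -1, 0, 0, 1, 1], [1541, 1540, 1544, 1546, 1534, 1573,
  1460, 1218], 4, 15⟩))) (.nd (.nd (.lf ⟨[-1, -3, -4, -6, -4, -3, -2, -1], [261, 262, 265, 267, 248, 262,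
  262, 262], 6, 23⟩) (.lf ⟨[1, 1, 0, 1, 1, 1, 1, 0], [1285, 1284, 1288, 1286, 1286, 1286, 1156, 1601], 3,
  17⟩)) (.nd (.lf ⟨[-2, -2, -2, -3, -3, -2, -1, 0], [775, 776, 770, 767, 792, 774, 774, 459], 7, 7⟩) (.lf
  ⟨[2, 2, 3, 3, 2, 2, 2, 1], [1797, 1796, 1794, 1801, 1816, 1798, 1686, 1798], 2, 18⟩)))) (.nd (.nd (.nd (.lf
  ⟨[-3, -4, -5, -7, -6, -5, -3, -1], [135, 136, 134, 132, 134, 145, 134, 35], 8, 10⟩) (.lf ⟨[1, 1, 2, 1, 1,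
  1, 0, 0], [1158, 1157, 1156, 1168, 1158, 1108, 1288, 1158], 3, 17⟩)) (.nd (.lf ⟨[-1, -2, -2, -4, -4, -3,
  -2, 0], [646, 646, 645, 646, 652, 646, 724, 110], 6, 18⟩) (.lf ⟨[1, 2, 1, 2, 2, 2, 1, 1], [1669, 1668,
  1674, 1678, 1670, 1625, 1782, 1355], 3, 13⟩))) (.nd (.nd (.lf ⟨[0, -1, -1, -2, -1, -2, -2, -1], [389, 390,
  390, 393, 357, 416, 502, 390], 4, 23⟩) (.lf ⟨[2, 3, 3, 5, 4, 2, 1, 0], [1413, 1412, 1418, 1414, 1402, 1442,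
  1414, 1727], 2, 16⟩)) (.nd (.lf ⟨[1, 0, 1, 1, 0, -1, -1, 0], [901, 904, 902, 898, 902, 942, 1037, 587], 3,
  21⟩) (.lf ⟨[2, 2, 3, 5, 4, 4, 2, 1], [1925, 1928, 1929, 1924, 1933, 1839, 1982, 1926], 2, 14⟩))))) (.nd
  (.nd (.nd (.nd (.nd (.lf ⟨[-1, -3, -3, -5, -5, -4, -3, -2], [69, 72, 70, 66, 77, 70, 70, 169], 6, 25⟩) (.lf
  ⟨[2, 3, 4, 6, 6, 5, 3, 2], [2118, 2118, 2118, 2119, 2117, 2107, 2135, 2019], 2, 7⟩)) (.lf ⟨[-1, 0, -1, 0,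
  1, 0, 0, 0], [1095, 1094, 1098, 1094, 1057, 1145, 1094, 1094], 6, 6⟩)) (.nd (.lf ⟨[0, 0, 1, 0, 0, -1, -1,
  -1], [583, 582, 577, 586, 568, 613, 582, 897], 4, 17⟩) (.lf ⟨[1, 0, 1, 2, 1, 1, 1, 1], [1605, 1608, 1609,
  1597, 1623, 1606, 1606, 1291], 3, 16⟩))) (.nd (.nd (.lf ⟨[-1, -2, -3, -4, -4, -2, -2, -1], [325, 326, 327,
  321, 359, 236, 438, 326], 6, 19⟩) (.lf ⟨[1, 1, 1, 1, 2, 2, 1, 0], [1349, 1348, 1350, 1361, 1338, 1305,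
  1350, 1665], 3, 15⟩)) (.nd (.lf ⟨[0, -2, -2, -3, -2, -1, -1, 0], [837, 840, 842, 838, 838, 793, 968, 523],
  4, 23⟩) (.lf ⟨[1, 1, 2, 4, 3, 3, 2, 1], [1862, 1865, 1866, 1849, 1879, 1817, 1862, 1862], 3, 9⟩)))) (.nd
  (.nd (.nd (.lf ⟨[-3, -4, -6, -8, -6, -4, -2, -1], [198, 198, 199, 198, 198, 198, 142, 198], 8, 10⟩) (.lf
  ⟨[1, 1, 1, 2, 2, 2, 0, 0], [1221, 1222, 1225, 1222, 1222, 1127, 1464, 1222], 3, 17⟩)) (.nd (.lf ⟨[1, 1, 1,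
  1, 1, 0, 0, -1], [709, 708, 710, 712, 702, 734, 628, 1490], 3, 18⟩) (.lf ⟨[0, 0, 0, 1, 1, 1, 2, 1], [1734,
  1735, 1736, 1731, 1734, 1762, 1501, 1734], 4, 11⟩))) (.nd (.nd (.lf ⟨[-1, -1, -2, -4, -3, -2, -1, -1],
  [454, 451, 450, 467, 454, 454, 342, 769], 6, 16⟩) (.lf ⟨[0, 0, 1, 1, 0, 0, 0, 1], [1479, 1480, 1476, 1472,
  1487, 1478, 1555, 699], 4, 13⟩)) (.nd (.lf ⟨[-1, -1, -3, -3, -2, -1, 0, 0], [965, 964, 973, 966, 966, 966,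
  836, 966], 6, 12⟩) (.lf ⟨[1, 3, 3, 5, 5, 4, 3, 1], [1991, 1988, 1990, 1994, 1983, 1990, 1934, 2089], 3,
  3⟩)))))) (.nd (.nd (.nd (.nd (.nd (.nd (.lf ⟨[-2, -3, -5, -7, -6, -5, -3, -2], [37, 36, 40, 38, 38, 49, 21,
  137], 7, 22⟩) (.lf ⟨[2, 3, 4, 6, 4, 4, 3, 2], [2086, 2086, 2086, 2085, 2107, 2075, 2086, 1987], 2, 9⟩))
  (.lf ⟨[0, 1, 0, 0, -1, 0, 0, 0], [1062, 1059, 1062, 1062, 1100, 1012, 1062, 1062], 4, 15⟩)) (.nd (.lf ⟨[-1,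
  0, -2, -2, -1, -1, -1, -1], [550, 547, 553, 557, 533, 550, 550, 865], 6, 12⟩) (.lf ⟨[0, -1, 0, -1, 0, 1, 1,
  1], [1574, 1575, 1571, 1578, 1574, 1543, 1574, 1259], 4, 14⟩))) (.nd (.nd (.lf ⟨[-1, -3, -2, -4, -3, -3,
  -2, -1], [294, 297, 291, 294, 277, 339, 294, 294], 6, 19⟩) (.lf ⟨[1, 2, 1, 3, 2, 1, 1, 0], [1317, 1316,
  1325, 1310, 1318, 1363, 1188, 1633], 3, 14⟩)) (.nd (.lf ⟨[-1, 0, -1, -2, -2, -2, -1, 0], [807, 804, 803,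
  811, 806, 851, 806, 491], 6, 12⟩) (.lf ⟨[2, 2, 4, 5, 3, 2, 2, 1], [1830, 1831, 1827, 1825, 1842, 1875,
  1718, 1830], 2, 15⟩)))) (.nd (.nd (.nd (.lf ⟨[-2, -3, -4, -5, -5, -4, -3, -1], [166, 167, 168, 157, 173,
  166, 222, 67], 7, 17⟩) (.lf ⟨[2, 1, 2, 3, 2, 1, 0, 0], [1189, 1192, 1194, 1183, 1190, 1190, 1320, 1190], 2,
  24⟩)) (.nd (.lf ⟨[-1, -1, -1, -1, 0, 0, 0, -1], [679, 680, 678, 678, 669, 678, 601, 1457], 6, 9⟩) (.lf ⟨[2,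
  1, 3, 3, 3, 2, 1, 1], [1701, 1704, 1698, 1710, 1684, 1702, 1814, 1387], 2, 19⟩))) (.nd (.nd (.lf ⟨[-1, 0,
  -1, -1, -1, -1, -2, -1], [423, 420, 422, 422, 422, 394, 655, 422], 6, 11⟩) (.lf ⟨[-1, -1, -2, -2, -1, 0, 0,
  1], [1446, 1446, 1447, 1446, 1446, 1420, 1528, 663], 6, 11⟩)) (.nd (.lf ⟨[-1, -1, -2, -2, -2, -2, 0, 0],
  [934, 934, 937, 927, 934, 1029, 692, 934], 6, 11⟩) (.lf ⟨[3, 4, 5, 7, 6, 4, 2, 1], [1957, 1956, 1958, 1960,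
  1951, 1958, 2014, 1958], 1, 13⟩))))) (.nd (.nd (.nd (.nd (.nd (.lf ⟨[-2, -3, -4, -5, -4, -3, -2, -2], [102,
  103, 104, 101, 102, 102, 85, 635], 7, 15⟩) (.lf ⟨[2, 4, 5, 8, 7, 6, 4, 2], [2151, 2150, 2150, 2150, 2150,
  2145, 2150, 2150], 2, 0⟩)) (.lf ⟨[0, 1, 1, 2, 2, 0, 0, 0], [1127, 1126, 1126, 1126, 1092, 1221, 1126,
  1126], 5, 3⟩)) (.nd (.lf ⟨[1, 0, 1, 0, 0, 0, -1, -1], [613, 614, 611, 618, 614, 583, 694, 936], 3, 22⟩)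
  (.lf ⟨[1, 1, 3, 3, 2, 1, 1, 1], [1639, 1640, 1631, 1638, 1638, 1683, 1638, 1323], 3, 13⟩))) (.nd (.nd (.lf
  ⟨[-2, -2, -3, -4, -2, -2, -2, -1], [359, 358, 358, 361, 325, 358, 470, 358], 7, 10⟩) (.lf ⟨[0, 1, 2, 3, 3,
  2, 1, 0], [1383, 1384, 1378, 1382, 1364, 1382, 1382, 1697], 4, 6⟩)) (.nd (.lf ⟨[0, -1, 0, -2, -1, -1, -1,
  0], [870, 870, 864, 879, 853, 870, 1000, 555], 4, 19⟩) (.lf ⟨[1, 3, 3, 6, 4, 3, 2, 1], [1895, 1894, 1897,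
  1885, 1908, 1894, 1894, 1894], 3, 5⟩)))) (.nd (.nd (.nd (.lf ⟨[-2, -2, -4, -5, -4, -4, -2, -1], [230, 229,
  233, 230, 223, 317, 174, 230], 7, 14⟩) (.lf ⟨[1, 1, 2, 2, 1, 0, 1, 0], [1254, 1254, 1253, 1254, 1254, 1344,
  959, 1569], 3, 15⟩)) (.nd (.lf ⟨[-2, -2, -4, -5, -4, -2, -1, 0], [742, 741, 747, 742, 756, 716, 742, 431],
  7, 11⟩) (.lf ⟨[0, 1, 1, 1, 1, 2, 2, 1], [1767, 1764, 1763, 1769, 1776, 1738, 1652, 1766], 4, 8⟩))) (.nd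
  (.nd (.lf ⟨[-2, -1, -2, -2, -2, -2, -1, -1], [487, 486, 486, 479, 486, 531, 374, 801], 7, 5⟩) (.lf ⟨[0, 1,
  1, 2, 1, 1, 0, 1], [1511, 1510, 1510, 1505, 1516, 1494, 1743, 737], 4, 9⟩)) (.nd (.lf ⟨[-1, 0, -1, -2, -1,
  -1, 0, 0], [999, 996, 995, 1007, 981, 1048, 868, 998], 6, 9⟩) (.lf ⟨[2, 3, 5, 7, 6, 5, 3, 1], [2023, 2024,
  2020, 2022, 2022, 2011, 2022, 2121], 2, 6⟩))))))) (.nd (.nd (.nd (.nd (.nd (.nd (.nd (.lf ⟨[-2, -4, -4, -7,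
  -6, -5, -4, -2], [22, 23, 19, 22, 22, 22, 39, 22], 7, 23⟩) (.lf ⟨[2, 2, 3, 5, 4, 3, 3, 2], [2069, 2072,
  2073, 2068, 2070, 2081, 2053, 1971], 2, 13⟩)) (.lf ⟨[-1, -2, -1, -2, -1, 0, 0, 0], [1047, 1048, 1042, 1046,
  1046, 996, 1046, 1046], 6, 9⟩)) (.nd (.lf ⟨[-1, -2, -1, -2, -2, -1, -1, -1], [535, 536, 530, 526, 551, 489,
  534, 849], 6, 13⟩) (.lf ⟨[1, 1, 1, 1, 0, 0, 1, 1], [1557, 1556, 1558, 1558, 1565, 1589, 1481, 1239], 3,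
  17⟩))) (.nd (.nd (.lf ⟨[-2, -2, -2, -4, -4, -3, -2, -1], [279, 278, 272, 278, 295, 278, 278, 278], 7, 12⟩)
  (.lf ⟨[0, 0, 1, 1, 2, 1, 1, 0], [1303, 1304, 1300, 1307, 1271, 1347, 1172, 1617], 4, 11⟩)) (.nd (.lf ⟨[-2,
  -1, -3, -3, -2, -2, -1, 0], [791, 788, 794, 790, 772, 835, 790, 475], 7, 6⟩) (.lf ⟨[2, 1, 3, 3, 3, 2, 2,
  1], [1813, 1816, 1810, 1822, 1796, 1859, 1702, 1814], 2, 18⟩)))) (.nd (.nd (.nd (.lf ⟨[-2, -3, -4, -7, -6,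
  -4, -3, -1], [150, 149, 148, 151, 157, 139, 206, 51], 7, 19⟩) (.lf ⟨[0, 1, 1, 1, 2, 1, 0, 0], [1175, 1172,
  1171, 1185, 1143, 1174, 1304, 1174], 4, 11⟩)) (.nd (.lf ⟨[0, 0, 0, 0, 0, -1, 0, -1], [662, 662, 662, 662,
  661, 721, 436, 1438], 4, 16⟩) (.lf ⟨[2, 2, 3, 3, 2, 2, 1, 1], [1685, 1684, 1682, 1689, 1704, 1641, 1798,
  1371], 2, 19⟩))) (.nd (.nd (.lf ⟨[-2, -2, -3, -5, -4, -3, -1, -1], [407, 404, 403, 411, 406, 434, 188,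
  719], 7, 12⟩) (.lf ⟨[1, 2, 2, 4, 3, 3, 1, 0], [1430, 1430, 1432, 1424, 1435, 1339, 1507, 1740], 3, 11⟩))
  (.nd (.lf ⟨[-1, -1, -2, -3, -3, -2, 0, 0], [918, 917, 918, 918, 927, 956, 676, 918], 6, 13⟩) (.lf ⟨[3, 3,
  4, 6, 5, 4, 2, 1], [1941, 1942, 1945, 1942, 1942, 1912, 1998, 1942], 1, 17⟩))))) (.nd (.nd (.nd (.nd (.nd
  (.lf ⟨[-2, -2, -4, -5, -4, -3, -3, -2], [86, 85, 89, 86, 86, 75, 103, 185], 7, 15⟩) (.lf ⟨[2, 3, 4, 6, 5,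
  5, 4, 2], [2134, 2134, 2134, 2134, 2135, 2133, 2117, 2134], 2, 7⟩)) (.lf ⟨[0, 0, 1, 2, 1, 0, 0, 0], [1111,
  1112, 1110, 1101, 1110, 1160, 1110, 1110], 4, 13⟩)) (.nd (.lf ⟨[0, -1, 0, -1, -1, 0, -1, -1], [598, 599,
  595, 598, 605, 510, 673, 915], 4, 19⟩) (.lf ⟨[0, 0, 1, 2, 2, 1, 1, 1], [1623, 1624, 1622, 1617, 1605, 1667,
  1622, 1307], 4, 9⟩))) (.nd (.nd (.lf ⟨[-1, -1, -2, -4, -3, -2, -2, -1], [342, 339, 338, 355, 342, 297, 454,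
  342], 6, 17⟩) (.lf ⟨[0, 2, 2, 3, 2, 2, 1, 0], [1367, 1364, 1362, 1366, 1384, 1321, 1366, 1681], 4, 6⟩))
  (.nd (.lf ⟨[-1, -1, -1, -1, -2, -1, -1, 0], [855, 856, 854, 843, 885, 809, 984, 539], 6, 11⟩) (.lf ⟨[1, 2,
  2, 3, 4, 3, 2, 1], [1878, 1877, 1878, 1888, 1845, 1878, 1878, 1878], 3, 8⟩)))) (.nd (.nd (.nd (.lf ⟨[-3,
  -3, -5, -6, -5, -4, -2, -1], [215, 214, 217, 210, 214, 244, 158, 214], 8, 5⟩) (.lf ⟨[0, 1, 1, 1, 0, 0, 1,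
  0], [1239, 1236, 1235, 1238, 1247, 1273, 943, 1557], 4, 12⟩)) (.nd (.lf ⟨[-2, -2, -3, -4, -3, -3, -1, 0],
  [727, 726, 726, 726, 722, 818, 650, 417], 7, 9⟩) (.lf ⟨[1, 1, 1, 2, 2, 1, 2, 1], [1749, 1750, 1751, 1750,
  1744, 1836, 1517, 1750], 3, 13⟩))) (.nd (.nd (.lf ⟨[-2, -2, -3, -4, -2, -2, -1, -1], [471, 470, 470, 473,
  437, 515, 358, 785], 7, 9⟩) (.lf ⟨[0, 1, 1, 2, 1, 0, 0, 1], [1495, 1494, 1494, 1489, 1494, 1510, 1567,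
  711], 4, 10⟩)) (.nd (.lf ⟨[0, 0, -1, -2, -2, -1, 0, 0], [981, 980, 982, 987, 999, 982, 852, 982], 4, 19⟩)
  (.lf ⟨[2, 4, 5, 7, 5, 4, 3, 1], [2007, 2004, 2003, 2006, 2013, 2006, 1950, 2105], 2, 7⟩)))))) (.nd (.nd
  (.nd (.nd (.nd (.nd (.lf ⟨[-2, -4, -5, -7, -5, -4, -3, -2], [53, 56, 57, 54, 47, 54, 54, 153], 7, 21⟩) (.lf
  ⟨[2, 4, 4, 7, 5, 4, 3, 2], [2102, 2101, 2105, 2098, 2109, 2102, 2102, 2003], 2, 7⟩)) (.lf ⟨[-1, -1, 0, 0,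
  0, 0, 0, 0], [1079, 1080, 1074, 1070, 1078, 1078, 1078, 1078], 6, 6⟩)) (.nd (.lf ⟨[1, 0, 0, 0, -1, -1, -1,
  -1], [565, 566, 569, 561, 580, 566, 566, 881], 3, 25⟩) (.lf ⟨[-1, 0, -1, 0, 1, 1, 1, 1], [1591, 1590, 1593,
  1590, 1576, 1590, 1590, 1275], 6, 3⟩))) (.nd (.nd (.lf ⟨[-1, -1, -2, -2, -3, -3, -2, -1], [310, 310, 311,
  297, 322, 355, 310, 310], 6, 17⟩) (.lf ⟨[0, 1, 0, 1, 1, 2, 1, 0], [1334, 1333, 1337, 1334, 1346, 1244,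
  1334, 1649], 4, 11⟩)) (.nd (.lf ⟨[0, -1, -1, -1, -1, -2, -1, 0], [821, 824, 825, 817, 810, 912, 822, 507],
  4, 20⟩) (.lf ⟨[2, 3, 4, 6, 4, 2, 2, 1], [1846, 1846, 1846, 1843, 1846, 1931, 1730, 1846], 2, 12⟩)))) (.nd
  (.nd (.nd (.lf ⟨[-2, -3, -4, -6, -5, -3, -3, -1], [182, 182, 182, 182, 183, 141, 391, 83], 7, 17⟩) (.lf
  ⟨[0, -1, -1, -1, -1, 0, 1, 0], [1205, 1208, 1209, 1202, 1216, 1206, 912, 1532], 4, 18⟩)) (.nd (.lf ⟨[1, 0,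
  1, 0, 0, 0, 0, -1], [693, 694, 690, 700, 694, 694, 614, 1473], 3, 21⟩) (.lf ⟨[2, 2, 4, 5, 3, 2, 1, 1],
  [1718, 1719, 1715, 1713, 1728, 1718, 1830, 1403], 2, 16⟩))) (.nd (.nd (.lf ⟨[-1, -2, -3, -4, -4, -2, -1,
  -1], [437, 438, 439, 435, 471, 412, 326, 751], 6, 18⟩) (.lf ⟨[0, 0, 0, -1, 0, 0, 0, 1], [1462, 1461, 1460,
  1476, 1455, 1462, 1544, 683], 4, 15⟩)) (.nd (.lf ⟨[0, 1, 0, 1, 1, 0, -1, 0], [950, 948, 953, 950, 940, 950,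
  1244, 623], 4, 13⟩) (.lf ⟨[2, 2, 4, 5, 4, 3, 3, 1], [1974, 1975, 1971, 1974, 1974, 1985, 1756, 2073], 2,
  13⟩))))) (.nd (.nd (.nd (.nd (.lf ⟨[-1, -2, -2, -4, -3, -2, -2, -2], [118, 118, 117, 119, 118, 113, 118,
  668], 6, 17⟩) (.lf ⟨[1, 0, 1, 1, 0, 1, 0, 0], [1141, 1144, 1142, 1136, 1173, 1037, 1272, 1142], 3, 19⟩))
  (.nd (.lf ⟨[1, 1, 1, 2, 1, 0, -1, -1], [629, 630, 631, 628, 630, 630, 712, 958], 3, 18⟩) (.lf ⟨[1, 2, 2, 4,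
  3, 1, 1, 1], [1654, 1654, 1655, 1647, 1642, 1740, 1654, 1339], 3, 11⟩))) (.nd (.nd (.lf ⟨[-2, -1, -2, -2,
  -2, -2, -2, -1], [375, 374, 374, 367, 374, 374, 486, 374], 7, 6⟩) (.lf ⟨[2, 2, 4, 4, 3, 2, 1, 0], [1398,
  1398, 1392, 1403, 1398, 1398, 1398, 1713], 2, 18⟩)) (.nd (.lf ⟨[0, -1, -1, -1, 0, -1, -1, 0], [885, 888,
  889, 886, 855, 921, 1016, 571], 4, 19⟩) (.lf ⟨[2, 2, 4, 6, 5, 3, 2, 1], [1910, 1913, 1910, 1906, 1896,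
  1940, 1910, 1910], 2, 12⟩)))) (.nd (.nd (.nd (.lf ⟨[-2, -4, -4, -6, -5, -3, -2, -1], [246, 249, 246, 242,
  260, 216, 246, 246], 7, 16⟩) (.lf ⟨[0, 1, 0, 1, 0, 1, 1, 0], [1270, 1269, 1273, 1266, 1301, 1235, 1140,
  1585], 4, 12⟩)) (.nd (.lf ⟨[-1, -3, -3, -5, -3, -2, -1, 0], [757, 760, 758, 763, 746, 758, 758, 443], 6,
  18⟩) (.lf ⟨[1, 2, 1, 2, 2, 2, 2, 1], [1781, 1780, 1786, 1790, 1782, 1782, 1670, 1782], 3, 12⟩))) (.nd (.nd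
  (.lf ⟨[0, -1, -1, -2, -1, -2, -1, -1], [501, 502, 502, 507, 469, 592, 390, 817], 4, 22⟩) (.lf ⟨[1, 2, 2, 3,
  2, 1, 0, 1], [1526, 1525, 1526, 1526, 1526, 1526, 1759, 753], 3, 11⟩)) (.nd (.lf ⟨[1, 0, 1, 0, -1, -1, 0,
  0], [1013, 1014, 1011, 1014, 1031, 1065, 884, 1014], 3, 22⟩) (.lf ⟨[1, 2, 2, 3, 2, 2, 2, 2], [2038, 2037,
  2038, 2038, 2040, 2038, 2038, 1475], 3, 12⟩)))))))) (.nd (.nd (.nd (.nd (.nd (.nd (.nd (.nd (.lf ⟨[-2, -4,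
  -5, -8, -7, -5, -4, -2], [13, 14, 14, 14, 17, 9, 31, 14], 7, 26⟩) (.lf ⟨[1, 2, 2, 3, 3, 3, 3, 2], [2062,
  2061, 2062, 2063, 2062, 2062, 2045, 1963], 3, 9⟩)) (.lf ⟨[0, 1, 1, 1, 0, -1, 0, 0], [1039, 1036, 1035,
  1038, 1038, 1143, 903, 1038], 4, 13⟩)) (.nd (.lf ⟨[-1, -2, -1, -3, -2, -1, -1, -1], [527, 528, 519, 534,
  526, 481, 526, 841], 6, 14⟩) (.lf ⟨[0, 1, 0, 0, 0, 0, 1, 1], [1550, 1547, 1550, 1554, 1550, 1581, 1471,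
  1229], 4, 13⟩))) (.nd (.nd (.lf ⟨[-1, -3, -2, -5, -4, -3, -2, -1], [270, 271, 267, 277, 270, 270, 270,
  270], 6, 21⟩) (.lf ⟨[1, 0, 2, 2, 1, 1, 1, 0], [1294, 1297, 1291, 1287, 1311, 1294, 1164, 1609], 3, 16⟩))
  (.nd (.lf ⟨[-1, -1, -2, -2, -3, -2, -1, 0], [782, 782, 783, 769, 815, 782, 782, 467], 6, 14⟩) (.lf ⟨[1, 1,
  1, 3, 3, 2, 2, 1], [1805, 1808, 1813, 1803, 1788, 1851, 1694, 1806], 3, 11⟩)))) (.nd (.nd (.nd (.lf ⟨[-3,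
  -4, -6, -8, -6, -4, -3, -1], [142, 142, 143, 142, 142, 131, 198, 43], 8, 11⟩) (.lf ⟨[2, 1, 2, 2, 1, 1, 0,
  0], [1165, 1166, 1166, 1166, 1183, 1116, 1296, 1166], 2, 26⟩)) (.nd (.lf ⟨[0, -1, -1, -1, -1, -1, 0, -1],
  [653, 656, 657, 649, 654, 670, 421, 1426], 4, 20⟩) (.lf ⟨[1, 2, 1, 3, 2, 2, 1, 1], [1677, 1676, 1685, 1670,
  1696, 1633, 1790, 1363], 3, 12⟩))) (.nd (.nd (.lf ⟨[0, 0, 0, 0, -1, -2, -2, -1], [398, 398, 398, 397, 398,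
  428, 514, 398], 4, 19⟩) (.lf ⟨[0, -1, -1, -2, -1, -1, 0, 1], [1421, 1422, 1422, 1426, 1416, 1448, 1422,
  649], 4, 20⟩)) (.nd (.lf ⟨[-1, -2, -2, -4, -3, -2, 0, 0], [910, 910, 909, 917, 910, 949, 668, 910], 6, 15⟩)
  (.lf ⟨[1, 3, 3, 5, 5, 4, 2, 1], [1935, 1932, 1934, 1938, 1927, 1904, 1990, 1934], 3, 4⟩))))) (.nd (.nd (.nd
  (.nd (.nd (.lf ⟨[-2, -2, -3, -5, -4, -4, -3, -2], [79, 76, 75, 80, 71, 89, 78, 177], 7, 15⟩) (.lf ⟨[3, 4,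
  5, 8, 6, 5, 3, 2], [2125, 2126, 2127, 2124, 2129, 2115, 2143, 2027], 1, 9⟩)) (.lf ⟨[1, 0, 1, 0, 1, 0, 0,
  0], [1101, 1102, 1099, 1111, 1065, 1152, 1102, 1102], 3, 20⟩)) (.nd (.lf ⟨[-1, -1, -2, -2, -1, 0, -1, -1],
  [590, 590, 591, 590, 590, 500, 663, 905], 6, 13⟩) (.lf ⟨[1, 2, 2, 3, 1, 1, 1, 1], [1614, 1613, 1614, 1612,
  1647, 1614, 1614, 1299], 3, 13⟩))) (.nd (.nd (.lf ⟨[-2, -2, -4, -4, -3, -2, -2, -1], [334, 334, 340, 329,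
  334, 289, 446, 334], 7, 11⟩) (.lf ⟨[2, 1, 2, 2, 2, 2, 1, 0], [1357, 1358, 1358, 1365, 1358, 1313, 1358,
  1673], 2, 23⟩)) (.nd (.lf ⟨[-2, -1, -2, -2, -2, -1, -1, 0], [847, 846, 846, 839, 863, 801, 976, 531], 7,
  3⟩) (.lf ⟨[2, 2, 4, 4, 3, 3, 2, 1], [1870, 1870, 1864, 1875, 1887, 1825, 1870, 1870], 2, 15⟩)))) (.nd (.nd
  (.nd (.lf ⟨[-2, -3, -4, -7, -6, -4, -2, -1], [206, 205, 204, 207, 213, 206, 150, 206], 7, 18⟩) (.lf ⟨[0, 0,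
  1, 0, 0, 0, 1, 0], [1231, 1230, 1224, 1236, 1230, 1267, 935, 1551], 4, 14⟩)) (.nd (.lf ⟨[-1, -3, -3, -5,
  -4, -3, -1, 0], [717, 720, 718, 718, 718, 746, 638, 405], 6, 20⟩) (.lf ⟨[2, 2, 3, 4, 3, 3, 1, 1], [1741,
  1742, 1742, 1742, 1748, 1656, 1966, 1433], 2, 17⟩))) (.nd (.nd (.lf ⟨[0, -1, -2, -3, -3, -2, -1, -1], [461,
  460, 466, 462, 480, 462, 350, 777], 4, 25⟩) (.lf ⟨[0, 1, 0, 1, 1, 0, 0, 1], [1486, 1485, 1489, 1486, 1477,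
  1502, 1561, 705], 4, 12⟩)) (.nd (.lf ⟨[0, -1, -1, -3, -2, -1, 0, 0], [973, 972, 970, 985, 974, 974, 844,
  974], 4, 20⟩) (.lf ⟨[3, 3, 4, 6, 5, 4, 3, 1], [1997, 1998, 2001, 1998, 1998, 1998, 1942, 2097], 1,
  16⟩)))))) (.nd (.nd (.nd (.nd (.nd (.nd (.lf ⟨[-3, -4, -5, -7, -6, -4, -3, -2], [47, 48, 46, 44, 53, 35,
  46, 145], 8, 10⟩) (.lf ⟨[2, 3, 3, 6, 5, 4, 3, 2], [2093, 2094, 2099, 2090, 2094, 2094, 2094, 1995], 2, 9⟩))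
  (.lf ⟨[-1, -1, 0, -1, 0, 0, 0, 0], [1071, 1072, 1068, 1078, 1053, 1070, 1070, 1070], 6, 7⟩)) (.nd (.lf
  ⟨[-1, -1, 0, -1, -1, -1, -1, -1], [559, 560, 556, 558, 558, 558, 558, 873], 6, 11⟩) (.lf ⟨[0, 0, 1, 0, 0,
  1, 1, 1], [1583, 1582, 1577, 1586, 1596, 1551, 1582, 1267], 4, 12⟩))) (.nd (.nd (.lf ⟨[-2, -2, -2, -3, -3,
  -3, -2, -1], [303, 304, 298, 295, 302, 347, 302, 302], 7, 10⟩) (.lf ⟨[2, 2, 3, 3, 2, 1, 1, 0], [1325, 1324,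
  1322, 1329, 1326, 1371, 1196, 1641], 2, 21⟩)) (.nd (.lf ⟨[0, 0, 0, -1, -2, -2, -1, 0], [814, 813, 812, 814,
  826, 859, 814, 499], 4, 19⟩) (.lf ⟨[1, 2, 3, 5, 4, 2, 2, 1], [1839, 1840, 1838, 1833, 1826, 1925, 1724,
  1838], 3, 7⟩)))) (.nd (.nd (.nd (.lf ⟨[-2, -2, -4, -5, -4, -4, -3, -1], [174, 173, 177, 174, 167, 185, 230,
  75], 7, 15⟩) (.lf ⟨[1, 2, 3, 4, 2, 1, 0, 0], [1199, 1198, 1197, 1195, 1212, 1198, 1328, 1198], 3, 13⟩))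
  (.nd (.lf ⟨[-1, 0, -1, 0, 0, 0, 0, -1], [687, 686, 689, 680, 686, 686, 607, 1465], 6, 7⟩) (.lf ⟨[2, 1, 3,
  4, 3, 2, 1, 1], [1709, 1712, 1710, 1702, 1710, 1710, 1822, 1395], 2, 18⟩))) (.nd (.nd (.lf ⟨[-2, -3, -4,
  -5, -4, -2, -1, -1], [430, 431, 432, 429, 440, 402, 316, 741], 7, 13⟩) (.lf ⟨[0, -1, 0, -1, -1, 0, 0, 1],
  [1454, 1455, 1450, 1454, 1461, 1429, 1536, 673], 4, 17⟩)) (.nd (.lf ⟨[1, 0, 1, 1, 0, 0, -1, 0], [941, 944,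
  942, 936, 952, 902, 1237, 618], 3, 20⟩) (.lf ⟨[2, 2, 3, 4, 3, 3, 3, 1], [1965, 1966, 1966, 1966, 1969,
  1966, 1742, 2065], 2, 16⟩))))) (.nd (.nd (.nd (.nd (.nd (.lf ⟨[-1, -2, -2, -4, -4, -3, -2, -2], [110, 110,
  109, 110, 113, 110, 93, 646], 6, 19⟩) (.lf ⟨[3, 5, 7, 10, 8, 6, 4, 2], [2159, 2158, 2157, 2158, 2158, 2158,
  2158, 2158], 1, 0⟩)) (.lf ⟨[0, 1, 0, 0, 0, 1, 0, 0], [1134, 1131, 1134, 1140, 1150, 1028, 1266, 1134], 4,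
  14⟩)) (.nd (.lf ⟨[0, 0, 0, 1, 1, 0, -1, -1], [622, 623, 625, 621, 615, 622, 704, 948], 4, 15⟩) (.lf ⟨[1, 1,
  2, 3, 3, 1, 1, 1], [1646, 1647, 1646, 1646, 1613, 1732, 1646, 1331], 3, 13⟩))) (.nd (.nd (.lf ⟨[0, -2, -2,
  -3, -2, -2, -2, -1], [365, 368, 370, 366, 348, 366, 478, 366], 4, 26⟩) (.lf ⟨[1, 1, 2, 4, 3, 2, 1, 0],
  [1390, 1393, 1394, 1377, 1390, 1390, 1390, 1705], 3, 12⟩)) (.nd (.lf ⟨[0, 0, -1, 0, -1, -1, -1, 0], [877,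
  878, 883, 869, 892, 878, 1008, 563], 4, 18⟩) (.lf ⟨[1, 2, 3, 5, 5, 3, 2, 1], [1903, 1904, 1902, 1902, 1871,
  1932, 1902, 1902], 3, 6⟩)))) (.nd (.nd (.nd (.lf ⟨[-3, -4, -5, -7, -5, -3, -2, -1], [239, 240, 238, 238,
  238, 208, 238, 238], 8, 6⟩) (.lf ⟨[0, 0, -1, 0, 0, 1, 1, 0], [1261, 1262, 1267, 1258, 1276, 1224, 1129,
  1577], 4, 14⟩)) (.nd (.lf ⟨[-2, -2, -3, -4, -4, -2, -1, 0], [751, 750, 750, 747, 785, 722, 750, 437], 7,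
  9⟩) (.lf ⟨[0, 0, 1, 1, 2, 2, 2, 1], [1775, 1776, 1772, 1779, 1764, 1774, 1662, 1774], 4, 8⟩))) (.nd (.nd
  (.lf ⟨[-1, -1, -1, -1, -2, -2, -1, -1], [495, 496, 494, 483, 506, 539, 382, 809], 6, 13⟩) (.lf ⟨[1, 1, 2,
  2, 2, 1, 0, 1], [1518, 1518, 1517, 1525, 1512, 1518, 1751, 749], 3, 13⟩)) (.nd (.lf ⟨[1, 0, 0, -1, -1, -1,
  0, 0], [1005, 1004, 1006, 1011, 1006, 1056, 876, 1006], 3, 24⟩) (.lf ⟨[3, 4, 5, 8, 7, 5, 3, 1], [2029,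
  2030, 2031, 2030, 2027, 2030, 2030, 2129], 1, 9⟩))))))) (.nd (.nd (.nd (.nd (.nd (.nd (.nd (.lf ⟨[-3, -4,
  -5, -8, -7, -5, -3, -2], [31, 30, 29, 30, 33, 30, 13, 129], 8, 13⟩) (.lf ⟨[1, 2, 3, 4, 4, 4, 3, 2], [2079,
  2078, 2077, 2080, 2078, 2067, 2078, 1979], 3, 5⟩)) (.lf ⟨[1, -1, 0, -1, -1, 0, 0, 0], [1053, 1056, 1054,
  1054, 1071, 1004, 1054, 1054], 3, 24⟩)) (.nd (.lf ⟨[0, 0, -1, -1, -2, -1, -1, -1], [541, 540, 544, 537,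
  573, 497, 542, 857], 4, 20⟩) (.lf ⟨[2, 3, 4, 6, 5, 4, 2, 0], [1566, 1566, 1566, 1566, 1566, 1535, 1566,
  2060], 2, 10⟩))) (.nd (.nd (.lf ⟨[-1, -3, -3, -5, -3, -3, -2, -1], [285, 288, 286, 291, 255, 331, 286,
  286], 6, 21⟩) (.lf ⟨[1, 2, 1, 2, 2, 1, 1, 0], [1309, 1308, 1314, 1318, 1293, 1355, 1180, 1625], 3, 15⟩))
  (.nd (.lf ⟨[-1, -1, -1, -3, -2, -2, -1, 0], [799, 796, 791, 809, 780, 843, 798, 483], 6, 13⟩) (.lf ⟨[2, 1,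
  3, 4, 3, 2, 2, 1], [1821, 1824, 1822, 1814, 1822, 1867, 1710, 1822], 2, 17⟩)))) (.nd (.nd (.nd (.lf ⟨[-3,
  -3, -5, -6, -5, -4, -3, -1], [159, 158, 161, 154, 158, 158, 214, 59], 8, 6⟩) (.lf ⟨[0, 1, 2, 2, 2, 1, 0,
  0], [1183, 1182, 1176, 1189, 1165, 1182, 1312, 1182], 4, 10⟩)) (.nd (.lf ⟨[0, -1, -1, -1, -1, 0, 0, -1],
  [669, 672, 673, 665, 679, 654, 595, 1450], 4, 19⟩) (.lf ⟨[1, 1, 1, 3, 3, 2, 1, 1], [1693, 1696, 1701, 1691,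
  1676, 1694, 1806, 1379], 3, 12⟩))) (.nd (.nd (.lf ⟨[-1, -1, -2, -2, -1, -1, -2, -1], [414, 414, 415, 414,
  408, 388, 647, 414], 6, 14⟩) (.lf ⟨[0, 0, 0, 0, 0, -1, 0, 1], [1438, 1438, 1438, 1438, 1434, 1497, 1438,
  662], 4, 15⟩)) (.nd (.lf ⟨[-1, -2, -2, -3, -2, -2, 0, 0], [926, 927, 926, 926, 917, 1021, 684, 926], 6,
  13⟩) (.lf ⟨[2, 4, 5, 7, 5, 4, 2, 1], [1951, 1948, 1947, 1950, 1957, 1920, 2006, 1950], 2, 8⟩))))) (.nd (.nd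
  (.nd (.nd (.nd (.lf ⟨[-2, -2, -3, -4, -3, -3, -3, -2], [95, 94, 94, 94, 91, 94, 111, 193], 7, 12⟩) (.lf
  ⟨[2, 4, 5, 8, 6, 5, 4, 2], [2143, 2142, 2142, 2140, 2145, 2142, 2125, 2142], 2, 2⟩)) (.lf ⟨[1, 1, 2, 3, 1,
  0, 0, 0], [1118, 1119, 1118, 1108, 1137, 1168, 1118, 1118], 3, 17⟩)) (.nd (.lf ⟨[0, 0, 0, -1, 0, 0, -1,
  -1], [606, 605, 604, 615, 599, 575, 683, 925], 4, 17⟩) (.lf ⟨[0, 1, 1, 3, 2, 1, 1, 1], [1631, 1632, 1634,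
  1619, 1630, 1675, 1630, 1315], 4, 8⟩))) (.nd (.nd (.lf ⟨[0, -1, -2, -3, -3, -2, -2, -1], [349, 348, 354,
  350, 368, 305, 462, 350], 4, 26⟩) (.lf ⟨[2, 2, 3, 4, 2, 2, 1, 0], [1373, 1374, 1374, 1371, 1409, 1329,
  1374, 1689], 2, 19⟩)) (.nd (.lf ⟨[-1, -2, -2, -2, -1, -1, -1, 0], [862, 865, 866, 860, 845, 862, 992, 547],
  6, 12⟩) (.lf ⟨[2, 3, 3, 4, 4, 3, 2, 1], [1885, 1884, 1886, 1895, 1869, 1886, 1886, 1886], 2, 14⟩)))) (.nd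
  (.nd (.nd (.lf ⟨[-2, -3, -4, -5, -5, -4, -2, -1], [222, 223, 224, 213, 229, 252, 166, 222], 7, 16⟩) (.lf
  ⟨[1, 0, 1, 1, 1, 0, 1, 0], [1245, 1248, 1246, 1246, 1237, 1336, 952, 1563], 3, 18⟩)) (.nd (.lf ⟨[1, 1, 1,
  1, 1, 1, 0, -1], [733, 732, 734, 738, 734, 710, 734, 1506], 3, 17⟩) (.lf ⟨[1, 1, 2, 3, 2, 1, 2, 1], [1758,
  1759, 1758, 1751, 1758, 1844, 1525, 1758], 3, 11⟩))) (.nd (.nd (.lf ⟨[0, -2, -2, -3, -2, -2, -1, -1], [477,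
  480, 482, 478, 460, 523, 366, 793], 4, 25⟩) (.lf ⟨[0, 1, 0, 1, 1, 1, 0, 1], [1502, 1501, 1505, 1502, 1502,
  1486, 1735, 730], 4, 11⟩)) (.nd (.lf ⟨[-1, -2, -2, -3, -1, -1, 0, 0], [990, 991, 990, 992, 955, 1040, 860,
  990], 6, 12⟩) (.lf ⟨[3, 4, 5, 7, 6, 4, 3, 1], [2013, 2012, 2014, 2016, 2007, 2025, 1958, 2113], 1,
  12⟩)))))) (.nd (.nd (.nd (.nd (.nd (.nd (.lf ⟨[-3, -3, -4, -6, -5, -4, -3, -2], [63, 62, 59, 62, 62, 62,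
  62, 161], 8, 6⟩) (.lf ⟨[2, 3, 5, 7, 6, 4, 3, 2], [2111, 2112, 2108, 2110, 2103, 2121, 2110, 2011], 2, 6⟩))
  (.lf ⟨[-1, 0, 0, 1, 0, 0, 0, 0], [1087, 1088, 1086, 1072, 1103, 1086, 1086, 1086], 6, 5⟩)) (.nd (.lf ⟨[0,
  -1, 0, -1, 0, -1, -1, -1], [574, 575, 571, 578, 543, 605, 574, 889], 4, 19⟩) (.lf ⟨[-1, 0, 0, 1, 1, 1, 1,
  1], [1599, 1600, 1598, 1593, 1598, 1598, 1598, 1283], 6, 1⟩))) (.nd (.nd (.lf ⟨[-2, -3, -3, -5, -4, -2, -2,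
  -1], [319, 320, 316, 318, 330, 231, 432, 318], 7, 13⟩) (.lf ⟨[0, 1, 1, 2, 1, 2, 1, 0], [1343, 1342, 1342,
  1337, 1375, 1252, 1342, 1657], 4, 9⟩)) (.nd (.lf ⟨[-2, -2, -3, -4, -2, -1, -1, 0], [831, 830, 830, 833,
  818, 785, 960, 515], 7, 7⟩) (.lf ⟨[0, 1, 2, 3, 3, 3, 2, 1], [1855, 1856, 1850, 1854, 1854, 1809, 1854,
  1854], 4, 3⟩)))) (.nd (.nd (.nd (.lf ⟨[-2, -2, -3, -4, -4, -3, -3, -1], [191, 190, 190, 188, 193, 179, 411,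
  91], 7, 12⟩) (.lf ⟨[0, 0, 0, 0, -1, 0, 1, 0], [1214, 1214, 1214, 1211, 1240, 1214, 919, 1538], 4, 15⟩))
  (.nd (.lf ⟨[1, 1, 1, 1, 0, 0, 0, -1], [701, 700, 702, 702, 710, 702, 620, 1481], 3, 19⟩) (.lf ⟨[1, 3, 3, 5,
  4, 2, 1, 1], [1727, 1724, 1726, 1726, 1716, 1754, 1840, 1413], 3, 7⟩))) (.nd (.nd (.lf ⟨[-2, -2, -4, -4,
  -3, -2, -1, -1], [446, 446, 452, 441, 446, 446, 334, 761], 7, 10⟩) (.lf ⟨[1, 0, 0, 0, 0, 0, 0, 1], [1469,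
  1470, 1473, 1470, 1470, 1470, 1549, 690], 3, 21⟩)) (.nd (.lf ⟨[1, 1, 1, 2, 1, 0, -1, 0], [957, 958, 959,
  954, 958, 958, 1253, 630], 3, 17⟩) (.lf ⟨[2, 2, 3, 5, 4, 4, 3, 1], [1981, 1984, 1985, 1980, 1989, 1971,
  1926, 2081], 2, 13⟩))))) (.nd (.nd (.nd (.nd (.lf ⟨[-3, -5, -6, -9, -7, -5, -3, -1], [126, 127, 126, 126,
  126, 126, 126, 27], 8, 15⟩) (.lf ⟨[0, 1, 0, 0, 1, 1, 0, 0], [1150, 1147, 1150, 1159, 1134, 1100, 1280,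
  1150], 4, 13⟩)) (.nd (.lf ⟨[-1, -3, -3, -5, -4, -3, -2, 0], [637, 640, 638, 638, 638, 638, 718, 105], 6,
  21⟩) (.lf ⟨[0, 0, 1, 1, 2, 2, 1, 1], [1663, 1664, 1660, 1667, 1650, 1617, 1774, 1347], 4, 9⟩))) (.nd (.nd
  (.lf ⟨[-1, -1, -1, -1, -2, -2, -2, -1], [383, 384, 382, 371, 392, 382, 494, 382], 6, 14⟩) (.lf ⟨[-1, -2,
  -2, -3, -2, -1, 0, 1], [1406, 1407, 1406, 1406, 1406, 1406, 1406, 633], 6, 15⟩)) (.nd (.lf ⟨[-1, 0, 0, 0,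
  0, -1, -1, 0], [895, 894, 891, 894, 880, 931, 1026, 579], 6, 7⟩) (.lf ⟨[2, 3, 5, 7, 5, 3, 2, 1], [1919,
  1920, 1916, 1914, 1918, 1948, 1918, 1918], 2, 10⟩)))) (.nd (.nd (.nd (.lf ⟨[-2, -3, -3, -5, -5, -3, -2,
  -1], [255, 256, 252, 250, 285, 224, 254, 254], 7, 14⟩) (.lf ⟨[-1, 0, 0, 0, 1, 1, 1, 0], [1279, 1278, 1275,
  1283, 1264, 1278, 1148, 1593], 6, 3⟩)) (.nd (.lf ⟨[-1, -3, -2, -4, -3, -2, -1, 0], [766, 769, 763, 766,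
  766, 766, 766, 451], 6, 16⟩) (.lf ⟨[1, 2, 1, 3, 2, 2, 2, 1], [1789, 1788, 1797, 1782, 1808, 1790, 1678,
  1790], 3, 11⟩))) (.nd (.nd (.lf ⟨[0, -1, 0, -1, -1, -2, -1, -1], [510, 511, 507, 510, 498, 598, 396, 825],
  4, 20⟩) (.lf ⟨[0, 0, -1, -1, -1, 0, 1, 1], [1533, 1532, 1537, 1534, 1542, 1534, 1452, 1208], 4, 16⟩)) (.nd
  (.lf ⟨[-1, -1, -2, -3, -2, 0, 0, 0], [1022, 1021, 1022, 1029, 1041, 927, 1022, 1022], 6, 11⟩) (.lf ⟨[1, 2,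
  2, 4, 3, 3, 2, 2], [2046, 2046, 2047, 2045, 2049, 2041, 2063, 1507], 3, 9⟩))))))))))) (.nd (.nd (.nd (.nd
  (.nd (.nd (.nd (.nd (.nd (.nd (.nd (.lf ⟨[-3, -5, -7, -10, -8, -6, -4, -2], [0, 1, 2, 1, 1, 1, 1, 1], 8,
  21⟩) (.lf ⟨[1, 2, 2, 4, 4, 3, 2, 2], [2049, 2049, 2050, 2049, 2046, 2049, 2066, 1513], 3, 8⟩)) (.lf ⟨[0,
  -1, 0, 0, 0, -1, 0, 0], [1025, 1028, 1025, 1019, 1009, 1131, 893, 1025], 4, 16⟩)) (.nd (.lf ⟨[-1, -1, -2,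
  -3, -3, -1, -1, -1], [513, 512, 513, 513, 546, 427, 513, 828], 6, 14⟩) (.lf ⟨[0, 0, 0, -1, -1, 0, 1, 1],
  [1537, 1536, 1534, 1538, 1544, 1537, 1455, 1211], 4, 15⟩))) (.nd (.nd (.lf ⟨[-1, -2, -3, -5, -5, -3, -2,
  -1], [256, 255, 257, 257, 288, 227, 257, 257], 6, 21⟩) (.lf ⟨[0, 0, 1, 0, 1, 1, 1, 0], [1282, 1281, 1276,
  1290, 1267, 1281, 1151, 1596], 4, 12⟩)) (.nd (.lf ⟨[-1, -1, -2, -4, -3, -2, -1, 0], [769, 766, 765, 782,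
  769, 769, 769, 454], 6, 15⟩) (.lf ⟨[0, 2, 2, 3, 2, 2, 2, 1], [1794, 1791, 1789, 1793, 1811, 1793, 1681,
  1793], 4, 4⟩)))) (.nd (.nd (.nd (.lf ⟨[-3, -4, -5, -8, -7, -5, -3, -1], [130, 129, 128, 129, 132, 129, 129,
  30], 8, 12⟩) (.lf ⟨[-1, 0, 0, 1, 1, 1, 0, 0], [1154, 1155, 1153, 1148, 1153, 1103, 1283, 1153], 6, 3⟩))
  (.nd (.lf ⟨[-1, -1, -2, -2, -2, -1, 0, -1], [641, 641, 642, 634, 647, 641, 408, 1410], 6, 14⟩) (.lf ⟨[1, 1,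
  1, 1, 2, 2, 1, 1], [1664, 1663, 1665, 1676, 1653, 1620, 1777, 1350], 3, 14⟩))) (.nd (.nd (.lf ⟨[0, 0, -1,
  -1, -2, -2, -2, -1], [384, 383, 387, 380, 395, 385, 497, 385], 4, 22⟩) (.lf ⟨[2, 2, 3, 4, 4, 2, 1, 0],
  [1408, 1409, 1409, 1412, 1374, 1437, 1409, 1722], 2, 18⟩)) (.nd (.lf ⟨[0, 0, 1, 0, 0, -1, -1, 0], [898,
  897, 892, 901, 883, 935, 1030, 582], 4, 16⟩) (.lf ⟨[3, 4, 5, 7, 5, 3, 2, 1], [1920, 1919, 1921, 1921, 1921,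
  1951, 1921, 1921], 1, 15⟩))))) (.nd (.nd (.nd (.nd (.nd (.lf ⟨[-2, -3, -3, -6, -5, -4, -3, -2], [66, 65,
  60, 69, 65, 65, 65, 164], 7, 18⟩) (.lf ⟨[3, 4, 5, 7, 6, 4, 3, 2], [2112, 2111, 2113, 2115, 2106, 2124,
  2113, 2014], 1, 11⟩)) (.lf ⟨[1, 1, 0, 1, 0, 0, 0, 0], [1088, 1087, 1091, 1081, 1106, 1089, 1089, 1089], 3,
  20⟩)) (.nd (.lf ⟨[0, 0, -1, 0, 0, -1, -1, -1], [576, 577, 582, 573, 563, 608, 577, 892], 4, 18⟩) (.lf ⟨[1,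
  1, 0, 1, 1, 1, 1, 1], [1600, 1599, 1603, 1601, 1601, 1601, 1601, 1286], 3, 16⟩))) (.nd (.nd (.lf ⟨[-1, -2,
  -3, -5, -4, -2, -2, -1], [320, 319, 321, 326, 333, 234, 435, 321], 6, 20⟩) (.lf ⟨[0, 0, 0, 1, 2, 2, 1, 0],
  [1345, 1346, 1347, 1345, 1333, 1300, 1345, 1660], 4, 11⟩)) (.nd (.lf ⟨[-2, -2, -3, -3, -2, -1, -1, 0],
  [834, 835, 837, 830, 833, 788, 963, 518], 7, 6⟩) (.lf ⟨[2, 2, 2, 3, 3, 3, 2, 1], [1856, 1855, 1861, 1864,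
  1857, 1812, 1857, 1857], 2, 17⟩)))) (.nd (.nd (.nd (.lf ⟨[-2, -2, -3, -4, -3, -3, -3, -1], [194, 193, 193,
  193, 190, 193, 417, 94], 7, 11⟩) (.lf ⟨[-1, 0, -1, -1, 0, 0, 1, 0], [1218, 1215, 1217, 1223, 1207, 1257,
  922, 1541], 6, 7⟩)) (.nd (.lf ⟨[0, 1, 0, 1, 1, 0, 0, -1], [705, 704, 709, 705, 698, 730, 623, 1486], 4,
  13⟩) (.lf ⟨[2, 3, 4, 5, 4, 2, 1, 1], [1729, 1728, 1727, 1730, 1719, 1757, 1843, 1418], 2, 14⟩))) (.nd (.nd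
  (.lf ⟨[-2, -1, -3, -4, -3, -2, -1, -1], [450, 447, 449, 457, 449, 449, 337, 764], 7, 9⟩) (.lf ⟨[1, 0, 1, 0,
  0, 0, 0, 1], [1472, 1473, 1470, 1479, 1473, 1473, 1552, 694], 3, 20⟩)) (.nd (.lf ⟨[-1, -2, -3, -4, -2, -1,
  0, 0], [960, 961, 962, 964, 947, 961, 831, 961], 6, 14⟩) (.lf ⟨[2, 2, 4, 5, 4, 4, 3, 1], [1985, 1986, 1982,
  1985, 1992, 1974, 1929, 2084], 2, 12⟩)))))) (.nd (.nd (.nd (.nd (.nd (.nd (.lf ⟨[-3, -4, -5, -8, -6, -5,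
  -3, -2], [34, 33, 32, 35, 30, 44, 16, 132], 8, 12⟩) (.lf ⟨[2, 2, 3, 5, 4, 4, 3, 2], [2080, 2083, 2084,
  2079, 2088, 2070, 2081, 1982], 2, 12⟩)) (.lf ⟨[-1, 0, -1, 0, -1, 0, 0, 0], [1058, 1057, 1060, 1048, 1094,
  1007, 1057, 1057], 6, 7⟩)) (.nd (.lf ⟨[-1, -2, -2, -3, -1, -1, -1, -1], [545, 546, 545, 547, 512, 545, 545,
  860], 6, 14⟩) (.lf ⟨[1, 1, 2, 2, 1, 0, 1, 1], [1569, 1569, 1568, 1569, 1569, 1659, 1496, 1254], 3, 14⟩)))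
  (.nd (.nd (.lf ⟨[-2, -2, -4, -4, -3, -3, -2, -1], [289, 289, 295, 284, 272, 334, 289, 289], 7, 12⟩) (.lf
  ⟨[2, 1, 2, 2, 2, 1, 1, 0], [1312, 1313, 1313, 1320, 1296, 1358, 1183, 1628], 2, 24⟩)) (.nd (.lf ⟨[-2, -1,
  -2, -2, -2, -2, -1, 0], [802, 801, 801, 794, 801, 846, 801, 486], 7, 4⟩) (.lf ⟨[2, 2, 4, 4, 3, 2, 2, 1],
  [1825, 1825, 1819, 1830, 1825, 1870, 1713, 1825], 2, 16⟩)))) (.nd (.nd (.nd (.lf ⟨[-3, -3, -4, -6, -5, -4,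
  -3, -1], [162, 161, 158, 161, 161, 161, 217, 62], 8, 5⟩) (.lf ⟨[0, 1, 1, 3, 2, 1, 0, 0], [1186, 1187, 1189,
  1174, 1185, 1185, 1315, 1185], 4, 10⟩)) (.nd (.lf ⟨[0, -1, 0, -1, -1, 0, 0, -1], [673, 674, 670, 673, 682,
  657, 598, 1454], 4, 18⟩) (.lf ⟨[0, 1, 2, 3, 3, 2, 1, 1], [1698, 1699, 1693, 1697, 1679, 1697, 1809, 1382],
  4, 5⟩))) (.nd (.nd (.lf ⟨[-2, -2, -3, -4, -3, -3, -1, -1], [418, 417, 417, 417, 411, 503, 193, 726], 7,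
  10⟩) (.lf ⟨[1, 3, 3, 5, 4, 3, 1, 0], [1442, 1439, 1441, 1441, 1441, 1413, 1521, 1754], 3, 7⟩)) (.nd (.lf
  ⟨[0, 0, -1, 0, 0, 0, -1, 0], [928, 929, 935, 923, 929, 892, 1224, 608], 4, 16⟩) (.lf ⟨[2, 3, 4, 7, 6, 4, 2,
  1], [1953, 1954, 1955, 1952, 1946, 1953, 2009, 1953], 2, 9⟩))))) (.nd (.nd (.nd (.nd (.nd (.lf ⟨[-1, -2,
  -2, -3, -3, -3, -3, -2], [97, 98, 97, 96, 97, 97, 114, 196], 6, 18⟩) (.lf ⟨[2, 4, 5, 8, 7, 5, 4, 2], [2146,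
  2145, 2145, 2145, 2142, 2150, 2128, 2145], 2, 1⟩)) (.lf ⟨[0, -1, -1, -1, 0, 1, 0, 0], [1120, 1123, 1124,
  1121, 1121, 1016, 1256, 1121], 4, 17⟩)) (.nd (.lf ⟨[0, -1, 0, 0, 0, 0, -1, -1], [609, 612, 609, 605, 609,
  578, 688, 930], 4, 17⟩) (.lf ⟨[1, 2, 1, 3, 2, 1, 1, 1], [1632, 1631, 1640, 1625, 1633, 1678, 1633, 1318],
  3, 13⟩))) (.nd (.nd (.lf ⟨[-1, -1, -1, -3, -3, -2, -2, -1], [354, 351, 346, 356, 371, 308, 465, 353], 6,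
  16⟩) (.lf ⟨[1, 1, 2, 2, 3, 2, 1, 0], [1377, 1377, 1376, 1390, 1344, 1377, 1377, 1692], 3, 13⟩)) (.nd (.lf
  ⟨[-1, 0, -2, -2, -1, -1, -1, 0], [865, 862, 868, 872, 848, 865, 995, 550], 6, 11⟩) (.lf ⟨[1, 3, 2, 5, 4, 3,
  2, 1], [1889, 1888, 1892, 1882, 1889, 1889, 1889, 1889], 3, 6⟩)))) (.nd (.nd (.nd (.lf ⟨[-1, -3, -3, -5,
  -5, -4, -2, -1], [224, 227, 225, 221, 232, 255, 169, 225], 6, 23⟩) (.lf ⟨[1, 2, 2, 4, 3, 2, 0, 0], [1249,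
  1249, 1250, 1242, 1249, 1210, 1491, 1249], 3, 12⟩)) (.nd (.lf ⟨[0, 1, 1, 2, 1, 1, 0, -1], [738, 737, 737,
  733, 743, 711, 737, 1510], 4, 10⟩) (.lf ⟨[0, 0, 0, 0, 1, 2, 2, 1], [1761, 1761, 1761, 1762, 1761, 1731,
  1645, 1761], 4, 11⟩))) (.nd (.nd (.lf ⟨[-1, -2, -1, -3, -2, -2, -1, -1], [482, 483, 474, 489, 463, 526,
  369, 796], 6, 15⟩) (.lf ⟨[0, 1, 1, 1, 1, 1, 0, 1], [1506, 1503, 1502, 1510, 1505, 1489, 1738, 733], 4,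
  10⟩)) (.nd (.lf ⟨[-2, -1, -2, -2, -1, -1, 0, 0], [994, 993, 993, 993, 976, 1043, 863, 993], 7, 1⟩) (.lf
  ⟨[3, 4, 6, 8, 6, 4, 3, 1], [2017, 2017, 2016, 2017, 2017, 2028, 1961, 2116], 1, 10⟩))))))) (.nd (.nd (.nd
  (.nd (.nd (.nd (.nd (.lf ⟨[-2, -4, -5, -8, -6, -5, -4, -2], [16, 17, 17, 19, 14, 17, 34, 17], 7, 25⟩) (.lf
  ⟨[2, 2, 3, 4, 3, 3, 3, 2], [2064, 2065, 2065, 2065, 2068, 2065, 2048, 1966], 2, 15⟩)) (.lf ⟨[-1, -1, -2,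
  -3, -1, 0, 0, 0], [1041, 1040, 1041, 1051, 1022, 991, 1041, 1041], 6, 10⟩)) (.nd (.lf ⟨[0, -1, -1, -3, -2,
  -1, -1, -1], [528, 527, 525, 540, 529, 484, 529, 844], 4, 22⟩) (.lf ⟨[0, 0, 0, 1, 0, 0, 1, 1], [1553, 1554,
  1555, 1544, 1560, 1584, 1476, 1234], 4, 13⟩))) (.nd (.nd (.lf ⟨[-2, -3, -3, -4, -4, -3, -2, -1], [274, 275,
  273, 264, 290, 273, 273, 273], 7, 13⟩) (.lf ⟨[1, 2, 2, 2, 1, 1, 1, 0], [1297, 1294, 1293, 1299, 1314, 1297,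
  1167, 1612], 3, 15⟩)) (.nd (.lf ⟨[-2, -2, -3, -4, -2, -2, -1, 0], [786, 785, 785, 788, 750, 830, 785, 470],
  7, 8⟩) (.lf ⟨[0, 1, 2, 3, 3, 2, 2, 1], [1810, 1811, 1805, 1809, 1791, 1854, 1697, 1809], 4, 4⟩)))) (.nd
  (.nd (.nd (.lf ⟨[-3, -4, -5, -7, -6, -4, -3, -1], [146, 147, 145, 143, 152, 134, 201, 46], 8, 9⟩) (.lf ⟨[1,
  2, 2, 3, 1, 1, 0, 0], [1169, 1168, 1169, 1167, 1204, 1119, 1299, 1169], 3, 15⟩)) (.nd (.lf ⟨[0, -1, 0, -1,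
  -1, -1, 0, -1], [657, 658, 654, 657, 657, 673, 424, 1429], 4, 19⟩) (.lf ⟨[0, 2, 2, 3, 2, 2, 1, 1], [1682,
  1679, 1677, 1681, 1699, 1636, 1793, 1366], 4, 5⟩))) (.nd (.nd (.lf ⟨[-1, -1, -2, -3, -2, -1, -2, -1], [401,
  400, 401, 408, 401, 315, 634, 401], 6, 16⟩) (.lf ⟨[-1, -1, -1, -1, -1, -1, 0, 1], [1426, 1427, 1425, 1421,
  1425, 1449, 1425, 653], 6, 10⟩)) (.nd (.lf ⟨[-1, 0, -1, -1, -1, 0, -1, 0], [914, 911, 913, 913, 922, 823,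
  1207, 596], 6, 9⟩) (.lf ⟨[2, 3, 4, 5, 5, 4, 2, 1], [1937, 1936, 1935, 1946, 1930, 1907, 1993, 1937], 2,
  11⟩))))) (.nd (.nd (.nd (.nd (.nd (.lf ⟨[-1, -2, -3, -4, -4, -4, -3, -2], [80, 81, 82, 79, 81, 92, 81,
  180], 6, 22⟩) (.lf ⟨[3, 4, 5, 8, 7, 5, 3, 2], [2128, 2129, 2130, 2129, 2126, 2129, 2146, 2030], 1, 8⟩))
  (.lf ⟨[-1, 1, 0, 1, 1, 0, 0, 0], [1106, 1103, 1105, 1105, 1088, 1155, 1105, 1105], 6, 3⟩)) (.nd (.lf ⟨[-2,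
  -3, -4, -6, -5, -4, -2, 0], [593, 593, 593, 593, 593, 624, 593, 99], 7, 17⟩) (.lf ⟨[0, 0, 1, 1, 2, 1, 1,
  1], [1618, 1619, 1615, 1622, 1586, 1662, 1617, 1302], 4, 10⟩))) (.nd (.nd (.lf ⟨[-2, -1, -3, -4, -3, -2,
  -2, -1], [338, 335, 337, 345, 337, 292, 449, 337], 7, 10⟩) (.lf ⟨[1, 1, 1, 3, 2, 2, 1, 0], [1360, 1363,
  1368, 1350, 1379, 1316, 1361, 1676], 3, 14⟩)) (.nd (.lf ⟨[-1, -2, -1, -2, -2, -1, -1, 0], [850, 851, 845,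
  841, 866, 804, 979, 534], 6, 12⟩) (.lf ⟨[1, 3, 3, 5, 3, 3, 2, 1], [1874, 1871, 1873, 1868, 1904, 1828,
  1873, 1873], 3, 6⟩)))) (.nd (.nd (.nd (.lf ⟨[-2, -4, -5, -7, -5, -4, -2, -1], [208, 211, 212, 209, 202,
  239, 153, 209], 7, 19⟩) (.lf ⟨[1, 2, 2, 3, 2, 2, 0, 0], [1233, 1232, 1233, 1233, 1242, 1138, 1475, 1233],
  3, 14⟩)) (.nd (.lf ⟨[0, 0, 0, 0, 0, 1, 0, -1], [721, 721, 721, 721, 725, 662, 721, 1497], 4, 15⟩) (.lf ⟨[1,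
  1, 2, 2, 1, 1, 2, 1], [1745, 1745, 1744, 1745, 1751, 1771, 1512, 1745], 3, 13⟩))) (.nd (.nd (.lf ⟨[-1, -1,
  -1, -3, -3, -2, -1, -1], [466, 463, 458, 468, 483, 465, 353, 780], 6, 15⟩) (.lf ⟨[0, 1, 1, 1, 1, 0, 0, 1],
  [1490, 1487, 1486, 1494, 1480, 1505, 1564, 709], 4, 11⟩)) (.nd (.lf ⟨[0, -1, -2, -2, -2, -1, 0, 0], [976,
  977, 983, 970, 994, 977, 847, 977], 4, 20⟩) (.lf ⟨[3, 3, 5, 6, 5, 4, 3, 1], [2000, 2001, 1998, 2005, 2001,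
  2001, 1945, 2100], 1, 15⟩)))))) (.nd (.nd (.nd (.nd (.nd (.nd (.lf ⟨[-2, -3, -5, -7, -6, -4, -3, -2], [48,
  47, 51, 49, 56, 38, 49, 148], 7, 21⟩) (.lf ⟨[3, 3, 4, 6, 5, 4, 3, 2], [2096, 2097, 2100, 2097, 2097, 2097,
  2097, 1998], 1, 15⟩)) (.lf ⟨[1, 0, 0, -1, 0, 0, 0, 0], [1072, 1071, 1073, 1087, 1056, 1073, 1073, 1073], 3,
  22⟩)) (.nd (.lf ⟨[1, 0, 0, -1, -1, -1, -1, -1], [560, 559, 561, 566, 561, 561, 561, 876], 3, 26⟩) (.lf ⟨[0,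
  1, 0, 1, 0, 1, 1, 1], [1585, 1584, 1588, 1581, 1616, 1554, 1585, 1270], 4, 11⟩))) (.nd (.nd (.lf ⟨[0, -1,
  -2, -3, -3, -3, -2, -1], [304, 303, 309, 305, 305, 350, 305, 305], 4, 27⟩) (.lf ⟨[2, 2, 3, 4, 2, 1, 1, 0],
  [1328, 1329, 1329, 1326, 1341, 1374, 1199, 1644], 2, 20⟩)) (.nd (.lf ⟨[0, -1, -1, -2, -1, -2, -1, 0], [816,
  817, 817, 822, 784, 907, 817, 502], 4, 21⟩) (.lf ⟨[2, 3, 3, 5, 4, 2, 2, 1], [1840, 1839, 1843, 1841, 1829,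
  1928, 1727, 1841], 2, 14⟩)))) (.nd (.nd (.nd (.lf ⟨[-2, -2, -3, -5, -4, -4, -3, -1], [178, 175, 174, 179,
  170, 188, 233, 78], 7, 14⟩) (.lf ⟨[-1, -1, -1, -2, -1, 0, 1, 0], [1202, 1201, 1200, 1205, 1201, 1201, 906,
  1529], 6, 10⟩)) (.nd (.lf ⟨[-1, 0, 0, 0, 0, 0, 0, -1], [690, 689, 686, 689, 689, 689, 610, 1469], 6, 6⟩)
  (.lf ⟨[2, 2, 4, 4, 3, 2, 1, 1], [1713, 1713, 1707, 1718, 1713, 1713, 1825, 1398], 2, 17⟩))) (.nd (.nd (.lf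
  ⟨[-1, -3, -3, -5, -4, -2, -1, -1], [432, 435, 433, 433, 443, 405, 319, 746], 6, 20⟩) (.lf ⟨[-1, -1, -1, -1,
  0, 0, 0, 1], [1458, 1459, 1457, 1457, 1449, 1457, 1539, 678], 6, 8⟩)) (.nd (.lf ⟨[0, 0, 0, 0, 1, 0, -1, 0],
  [945, 945, 945, 948, 919, 945, 1240, 621], 4, 15⟩) (.lf ⟨[2, 2, 3, 4, 4, 3, 3, 1], [1968, 1969, 1969, 1971,
  1966, 1980, 1748, 2068], 2, 15⟩))))) (.nd (.nd (.nd (.nd (.lf ⟨[-1, -2, -2, -4, -3, -3, -2, -2], [113, 113,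
  112, 114, 110, 118, 96, 652], 6, 18⟩) (.lf ⟨[1, 1, 2, 3, 2, 0, 0, 0], [1137, 1138, 1137, 1130, 1118, 1232,
  1137, 1137], 3, 16⟩)) (.nd (.lf ⟨[0, 0, 1, 1, 1, 0, -1, -1], [626, 627, 622, 625, 617, 625, 707, 951], 4,
  14⟩) (.lf ⟨[0, 1, 0, 1, 1, 2, 1, 1], [1649, 1648, 1652, 1649, 1661, 1561, 1763, 1334], 4, 10⟩))) (.nd (.nd
  (.lf ⟨[-1, -2, -1, -3, -2, -2, -2, -1], [370, 371, 362, 377, 351, 369, 481, 369], 6, 16⟩) (.lf ⟨[1, 3, 2,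
  4, 3, 2, 1, 0], [1393, 1390, 1396, 1393, 1393, 1393, 1393, 1708], 3, 11⟩)) (.nd (.lf ⟨[1, 0, 0, 0, -1, -1,
  -1, 0], [880, 881, 884, 876, 895, 881, 1011, 566], 3, 24⟩) (.lf ⟨[2, 3, 3, 5, 5, 3, 2, 1], [1904, 1903,
  1907, 1909, 1874, 1935, 1905, 1905], 2, 13⟩)))) (.nd (.nd (.nd (.lf ⟨[-2, -3, -5, -7, -5, -3, -2, -1],
  [240, 239, 243, 245, 241, 211, 241, 241], 7, 17⟩) (.lf ⟨[1, 0, 0, 0, 0, 1, 1, 0], [1264, 1265, 1268, 1265,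
  1279, 1228, 1133, 1580], 3, 20⟩)) (.nd (.lf ⟨[1, 2, 2, 3, 2, 1, 0, -1], [753, 752, 753, 753, 753, 753, 753,
  1526], 3, 12⟩) (.lf ⟨[1, 1, 1, 1, 2, 2, 2, 1], [1776, 1775, 1777, 1788, 1767, 1777, 1665, 1777], 3, 13⟩)))
  (.nd (.nd (.lf ⟨[0, 0, -1, -1, -2, -2, -1, -1], [496, 495, 499, 492, 509, 542, 385, 812], 4, 21⟩) (.lf ⟨[1,
  3, 3, 5, 4, 3, 2, 0], [1522, 1519, 1521, 1521, 1521, 1521, 1441, 2054], 3, 6⟩)) (.nd (.lf ⟨[0, -1, 0, 0,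
  -1, -1, 0, 0], [1009, 1012, 1009, 1000, 1025, 1059, 879, 1009], 4, 17⟩) (.lf ⟨[3, 5, 6, 9, 7, 5, 3, 1],
  [2033, 2032, 2033, 2033, 2033, 2033, 2033, 2132], 1, 6⟩)))))))) (.nd (.nd (.nd (.nd (.nd (.nd (.nd (.nd
  (.lf ⟨[-2, -4, -5, -8, -7, -6, -4, -2], [8, 9, 9, 9, 9, 14, 9, 9], 7, 27⟩) (.lf ⟨[2, 3, 4, 5, 4, 3, 2, 2],
  [2057, 2056, 2055, 2058, 2057, 2057, 2074, 1524], 2, 12⟩)) (.lf ⟨[0, -1, -1, -2, -2, 0, 0, 0], [1032, 1033,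
  1033, 1033, 1067, 938, 1033, 1033], 5, 9⟩)) (.nd (.lf ⟨[-1, -1, -3, -3, -2, -1, -1, -1], [520, 519, 528,
  521, 521, 476, 521, 836], 6, 14⟩) (.lf ⟨[-1, 0, -1, 0, 0, 0, 1, 1], [1546, 1545, 1548, 1541, 1545, 1576,
  1465, 1223], 6, 5⟩))) (.nd (.nd (.lf ⟨[-1, -3, -3, -6, -4, -3, -2, -1], [264, 265, 262, 274, 251, 265, 265,
  265], 6, 22⟩) (.lf ⟨[0, 1, 0, 2, 1, 1, 1, 0], [1289, 1289, 1295, 1280, 1306, 1289, 1159, 1604], 4, 11⟩))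
  (.nd (.lf ⟨[0, -1, -2, -3, -3, -2, -1, 0], [776, 775, 781, 777, 795, 777, 777, 462], 4, 24⟩) (.lf ⟨[2, 2,
  3, 4, 2, 2, 2, 1], [1800, 1801, 1801, 1798, 1834, 1801, 1689, 1801], 2, 17⟩)))) (.nd (.nd (.nd (.lf ⟨[-2,
  -3, -5, -7, -6, -5, -3, -1], [136, 135, 139, 137, 137, 148, 137, 38], 7, 21⟩) (.lf ⟨[1, 0, 1, 2, 1, 1, 0,
  0], [1160, 1163, 1164, 1152, 1178, 1111, 1291, 1161], 3, 18⟩)) (.nd (.lf ⟨[0, -1, -1, -2, -1, -1, 0, -1],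
  [648, 649, 649, 654, 643, 665, 416, 1422], 4, 21⟩) (.lf ⟨[2, 1, 2, 2, 2, 2, 1, 1], [1672, 1673, 1673, 1680,
  1673, 1628, 1785, 1358], 2, 22⟩))) (.nd (.nd (.lf ⟨[0, -1, -1, -1, -1, -2, -2, -1], [392, 395, 396, 390,
  383, 421, 507, 393], 4, 22⟩) (.lf ⟨[2, 2, 4, 5, 4, 2, 1, 0], [1417, 1418, 1412, 1417, 1403, 1443, 1417,
  1728], 2, 16⟩)) (.nd (.lf ⟨[-1, -1, -2, -2, -1, 0, -1, 0], [905, 905, 906, 905, 905, 815, 1200, 590], 6,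
  12⟩) (.lf ⟨[2, 2, 4, 5, 4, 4, 2, 1], [1929, 1930, 1926, 1929, 1936, 1842, 1985, 1929], 2, 13⟩))))) (.nd
  (.nd (.nd (.nd (.nd (.lf ⟨[-2, -3, -4, -6, -4, -4, -3, -2], [73, 73, 73, 74, 52, 84, 73, 172], 7, 18⟩) (.lf
  ⟨[2, 3, 5, 7, 6, 5, 3, 2], [2122, 2123, 2119, 2121, 2121, 2110, 2138, 2022], 2, 5⟩)) (.lf ⟨[0, -1, 0, 0, 1,
  0, 0, 0], [1097, 1100, 1097, 1097, 1059, 1147, 1097, 1097], 4, 15⟩)) (.nd (.lf ⟨[0, 1, 0, 1, 0, -1, -1,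
  -1], [585, 584, 588, 581, 585, 616, 585, 900], 4, 16⟩) (.lf ⟨[1, 0, 2, 2, 1, 1, 1, 1], [1609, 1612, 1606,
  1602, 1626, 1609, 1609, 1294], 3, 15⟩))) (.nd (.nd (.lf ⟨[-2, -2, -4, -5, -3, -2, -2, -1], [329, 328, 332,
  334, 317, 284, 441, 329], 7, 12⟩) (.lf ⟨[1, 0, 1, 2, 2, 2, 1, 0], [1352, 1355, 1356, 1348, 1353, 1308,
  1353, 1668], 3, 15⟩)) (.nd (.lf ⟨[-1, -2, -1, -3, -2, -1, -1, 0], [842, 843, 834, 849, 841, 796, 971, 526],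
  6, 13⟩) (.lf ⟨[1, 3, 2, 4, 3, 3, 2, 1], [1865, 1862, 1868, 1865, 1882, 1820, 1865, 1865], 3, 8⟩)))) (.nd
  (.nd (.nd (.lf ⟨[-3, -4, -5, -7, -6, -4, -2, -1], [202, 203, 201, 199, 208, 201, 145, 201], 8, 8⟩) (.lf
  ⟨[1, 1, 2, 2, 2, 2, 0, 0], [1225, 1225, 1222, 1232, 1225, 1130, 1467, 1225], 3, 16⟩)) (.nd (.lf ⟨[1, 1, 2,
  2, 1, 0, 0, -1], [713, 713, 712, 713, 713, 739, 631, 1496], 3, 16⟩) (.lf ⟨[1, 0, 1, 1, 1, 1, 2, 1], [1736,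
  1739, 1737, 1737, 1737, 1765, 1504, 1737], 3, 16⟩))) (.nd (.nd (.lf ⟨[-2, -1, -3, -3, -3, -2, -1, -1],
  [458, 455, 461, 449, 475, 457, 345, 772], 7, 8⟩) (.lf ⟨[1, 1, 1, 1, 0, 0, 0, 1], [1480, 1479, 1481, 1481,
  1490, 1481, 1558, 702], 3, 18⟩)) (.nd (.lf ⟨[-2, -1, -2, -3, -2, -1, 0, 0], [970, 967, 965, 976, 969, 969,
  839, 969], 7, 3⟩) (.lf ⟨[2, 3, 4, 5, 5, 4, 3, 1], [1993, 1992, 1991, 2002, 1986, 1993, 1937, 2092], 2,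
  10⟩)))))) (.nd (.nd (.nd (.nd (.nd (.nd (.lf ⟨[-2, -3, -4, -6, -6, -5, -3, -2], [41, 41, 41, 40, 42, 52,
  24, 140], 7, 20⟩) (.lf ⟨[1, 3, 3, 5, 5, 4, 3, 2], [2090, 2087, 2089, 2093, 2082, 2089, 2089, 1990], 3, 2⟩))
  (.lf ⟨[1, 0, 1, 0, -1, 0, 0, 0], [1064, 1065, 1061, 1065, 1102, 1014, 1065, 1065], 3, 21⟩)) (.nd (.lf ⟨[-1,
  0, -1, -2, -1, -1, -1, -1], [554, 551, 550, 562, 536, 553, 553, 868], 6, 11⟩) (.lf ⟨[0, 0, -1, 0, 0, 1, 1,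
  1], [1576, 1577, 1582, 1573, 1591, 1546, 1577, 1262], 4, 13⟩))) (.nd (.nd (.lf ⟨[-1, -1, -2, -4, -3, -3,
  -2, -1], [297, 294, 293, 310, 280, 342, 297, 297], 6, 18⟩) (.lf ⟨[0, 2, 2, 3, 2, 1, 1, 0], [1322, 1319,
  1317, 1321, 1321, 1366, 1191, 1636], 4, 7⟩)) (.nd (.lf ⟨[-1, -1, -1, -1, -2, -2, -1, 0], [810, 811, 809,
  798, 821, 854, 809, 494], 6, 12⟩) (.lf ⟨[1, 2, 3, 4, 4, 2, 2, 1], [1834, 1833, 1832, 1838, 1800, 1923,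
  1721, 1833], 3, 8⟩)))) (.nd (.nd (.nd (.lf ⟨[-1, -3, -3, -5, -5, -4, -3, -1], [168, 171, 169, 165, 176,
  169, 225, 70], 6, 24⟩) (.lf ⟨[1, 1, 3, 3, 2, 1, 0, 0], [1194, 1195, 1186, 1193, 1193, 1193, 1323, 1193], 3,
  15⟩)) (.nd (.lf ⟨[0, 0, -1, -1, 0, 0, 0, -1], [680, 679, 683, 687, 672, 681, 604, 1460], 4, 17⟩) (.lf ⟨[1,
  1, 2, 4, 3, 2, 1, 1], [1705, 1708, 1709, 1692, 1705, 1705, 1817, 1390], 3, 11⟩))) (.nd (.nd (.lf ⟨[0, 0, 0,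
  -1, -1, -1, -2, -1], [425, 424, 423, 428, 425, 397, 658, 425], 4, 19⟩) (.lf ⟨[-1, -1, -1, -1, -1, 0, 0, 1],
  [1450, 1451, 1449, 1447, 1457, 1425, 1531, 669], 6, 9⟩)) (.nd (.lf ⟨[-1, -1, -1, -2, -2, -2, 0, 0], [938,
  937, 934, 937, 937, 1032, 695, 937], 6, 10⟩) (.lf ⟨[3, 4, 6, 8, 6, 4, 2, 1], [1961, 1961, 1960, 1961, 1961,
  1961, 2017, 1961], 1, 11⟩))))) (.nd (.nd (.nd (.nd (.nd (.lf ⟨[-1, -3, -3, -5, -4, -3, -2, -2], [104, 107,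
  105, 105, 105, 105, 88, 638], 6, 22⟩) (.lf ⟨[3, 4, 6, 9, 7, 6, 4, 2], [2153, 2154, 2153, 2152, 2155, 2148,
  2153, 2153], 1, 4⟩)) (.lf ⟨[0, 0, -1, 0, 0, 1, 0, 0], [1128, 1129, 1135, 1123, 1146, 1024, 1262, 1129], 4,
  15⟩)) (.nd (.lf ⟨[0, 0, 1, 1, 0, 0, -1, -1], [618, 619, 615, 613, 625, 586, 699, 941], 4, 15⟩) (.lf ⟨[2, 2,
  3, 3, 2, 1, 1, 1], [1640, 1639, 1637, 1644, 1641, 1686, 1641, 1326], 2, 20⟩))) (.nd (.nd (.lf ⟨[-2, -2, -3,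
  -3, -2, -2, -2, -1], [362, 363, 365, 358, 343, 361, 473, 361], 7, 9⟩) (.lf ⟨[2, 2, 2, 3, 3, 2, 1, 0],
  [1384, 1383, 1389, 1392, 1367, 1385, 1385, 1700], 2, 20⟩)) (.nd (.lf ⟨[-1, -1, 0, -1, -1, -1, -1, 0], [874,
  875, 871, 873, 873, 873, 1003, 558], 6, 10⟩) (.lf ⟨[1, 3, 4, 6, 4, 3, 2, 1], [1898, 1897, 1894, 1892, 1911,
  1897, 1897, 1897], 3, 4⟩)))) (.nd (.nd (.nd (.lf ⟨[-2, -2, -3, -5, -4, -4, -2, -1], [234, 231, 230, 235,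
  226, 320, 177, 233], 7, 13⟩) (.lf ⟨[-1, 0, -1, -1, 0, 1, 1, 0], [1258, 1255, 1257, 1261, 1257, 1217, 1122,
  1572], 6, 6⟩)) (.nd (.lf ⟨[-2, -3, -3, -5, -4, -2, -1, 0], [746, 747, 741, 745, 757, 717, 745, 432], 7,
  11⟩) (.lf ⟨[0, 1, 1, 2, 1, 2, 2, 1], [1770, 1769, 1769, 1766, 1802, 1743, 1657, 1769], 4, 7⟩))) (.nd (.nd
  (.lf ⟨[-1, -2, -1, -2, -2, -2, -1, -1], [490, 491, 485, 481, 489, 534, 377, 804], 6, 14⟩) (.lf ⟨[1, 2, 2,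
  4, 4, 3, 2, 0], [1513, 1513, 1514, 1513, 1507, 1513, 1435, 2049], 3, 9⟩)) (.nd (.lf ⟨[-1, -1, -2, -1, -1,
  -1, 0, 0], [1001, 1002, 1003, 991, 1001, 1051, 871, 1001], 6, 10⟩) (.lf ⟨[3, 4, 5, 7, 6, 5, 3, 1], [2024,
  2023, 2025, 2027, 2025, 2014, 2025, 2124], 1, 11⟩))))))) (.nd (.nd (.nd (.nd (.nd (.nd (.nd (.lf ⟨[-2, -3,
  -4, -6, -5, -5, -4, -2], [25, 25, 25, 25, 24, 26, 42, 25], 7, 20⟩) (.lf ⟨[2, 2, 4, 5, 4, 3, 3, 2], [2073,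
  2074, 2070, 2073, 2073, 2084, 2056, 1974], 2, 12⟩)) (.lf ⟨[0, 0, -1, -2, -1, 0, 0, 0], [1048, 1047, 1049,
  1058, 1049, 999, 1049, 1049], 4, 17⟩)) (.nd (.lf ⟨[0, 0, -1, -2, -2, -1, -1, -1], [536, 535, 537, 542, 554,
  492, 537, 852], 4, 21⟩) (.lf ⟨[0, 1, 0, 1, 1, 0, 1, 1], [1561, 1560, 1564, 1561, 1554, 1649, 1486, 1244],
  4, 11⟩))) (.nd (.nd (.lf ⟨[-1, -2, -2, -3, -4, -3, -2, -1], [281, 282, 281, 271, 314, 281, 281, 281], 6,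
  19⟩) (.lf ⟨[1, 1, 1, 1, 2, 1, 1, 0], [1304, 1303, 1305, 1316, 1274, 1350, 1175, 1620], 3, 16⟩)) (.nd (.lf
  ⟨[0, -2, -2, -3, -2, -2, -1, 0], [792, 795, 797, 793, 775, 838, 793, 478], 4, 24⟩) (.lf ⟨[1, 1, 2, 4, 3, 2,
  2, 1], [1817, 1820, 1821, 1804, 1817, 1862, 1705, 1817], 3, 10⟩)))) (.nd (.nd (.nd (.lf ⟨[-2, -4, -5, -7,
  -5, -4, -3, -1], [152, 155, 156, 153, 146, 153, 209, 54], 7, 20⟩) (.lf ⟨[0, 0, 1, 2, 2, 1, 0, 0], [1178,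
  1179, 1177, 1172, 1160, 1177, 1307, 1177], 4, 11⟩)) (.nd (.lf ⟨[0, -1, -1, -2, -1, 0, 0, -1], [664, 665,
  665, 670, 665, 649, 592, 1448], 4, 20⟩) (.lf ⟨[2, 2, 3, 4, 2, 2, 1, 1], [1688, 1689, 1689, 1686, 1722,
  1644, 1801, 1374], 2, 18⟩))) (.nd (.nd (.lf ⟨[-1, -1, -1, -2, -2, -1, -2, -1], [410, 409, 408, 409, 415,
  323, 642, 409], 6, 14⟩) (.lf ⟨[2, 2, 3, 4, 3, 3, 1, 0], [1432, 1433, 1433, 1433, 1437, 1341, 1509, 1742],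
  2, 18⟩)) (.nd (.lf ⟨[0, -1, -1, -1, 0, 0, -1, 0], [920, 923, 924, 921, 912, 886, 1216, 602], 4, 18⟩) (.lf
  ⟨[3, 3, 5, 6, 5, 4, 2, 1], [1944, 1945, 1942, 1949, 1945, 1915, 2001, 1945], 1, 16⟩))))) (.nd (.nd (.nd
  (.nd (.nd (.lf ⟨[-2, -2, -3, -5, -4, -3, -3, -2], [90, 87, 86, 91, 89, 78, 106, 188], 7, 14⟩) (.lf ⟨[2, 4,
  4, 7, 6, 5, 4, 2], [2137, 2136, 2140, 2137, 2137, 2137, 2120, 2137], 2, 4⟩)) (.lf ⟨[1, 2, 1, 2, 1, 0, 0,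
  0], [1112, 1111, 1117, 1113, 1113, 1163, 1113, 1113], 3, 18⟩)) (.nd (.lf ⟨[-1, -1, -1, -1, 0, 0, -1, -1],
  [602, 603, 601, 601, 594, 570, 678, 920], 6, 10⟩) (.lf ⟨[1, 2, 1, 2, 2, 1, 1, 1], [1624, 1623, 1629, 1633,
  1608, 1670, 1625, 1310], 3, 14⟩))) (.nd (.nd (.lf ⟨[-2, -1, -3, -3, -3, -2, -2, -1], [346, 343, 349, 337,
  363, 300, 457, 345], 7, 9⟩) (.lf ⟨[2, 1, 3, 3, 2, 2, 1, 0], [1368, 1371, 1365, 1369, 1387, 1324, 1369,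
  1684], 2, 21⟩)) (.nd (.lf ⟨[0, 0, -1, -1, -2, -1, -1, 0], [856, 855, 859, 852, 888, 812, 987, 542], 4, 19⟩)
  (.lf ⟨[2, 2, 2, 4, 4, 3, 2, 1], [1880, 1881, 1887, 1881, 1864, 1881, 1881, 1881], 2, 15⟩)))) (.nd (.nd (.nd
  (.lf ⟨[-3, -3, -4, -6, -5, -4, -2, -1], [218, 217, 214, 217, 217, 247, 161, 217], 8, 4⟩) (.lf ⟨[1, 1, 2, 3,
  3, 2, 0, 0], [1241, 1242, 1241, 1241, 1232, 1203, 1483, 1241], 3, 14⟩)) (.nd (.lf ⟨[-1, -2, -2, -4, -3, -3,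
  -1, 0], [729, 729, 727, 735, 724, 820, 652, 419], 6, 16⟩) (.lf ⟨[2, 2, 3, 5, 4, 3, 1, 1], [1752, 1755,
  1756, 1748, 1753, 1725, 1971, 1440], 2, 15⟩))) (.nd (.nd (.lf ⟨[-2, -2, -3, -3, -2, -2, -1, -1], [474, 475,
  477, 470, 455, 518, 361, 788], 7, 8⟩) (.lf ⟨[0, 0, 0, 0, 0, 1, 0, 1], [1497, 1497, 1497, 1497, 1498, 1438,
  1723, 721], 4, 14⟩)) (.nd (.lf ⟨[0, -1, -1, -1, -2, -1, 0, 0], [984, 987, 988, 974, 1016, 985, 855, 985],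
  4, 19⟩) (.lf ⟨[2, 3, 4, 7, 6, 4, 3, 1], [2009, 2010, 2011, 2008, 2002, 2020, 1953, 2108], 2, 8⟩)))))) (.nd
  (.nd (.nd (.nd (.nd (.nd (.lf ⟨[-2, -4, -4, -7, -5, -4, -3, -2], [57, 58, 54, 61, 50, 57, 57, 156], 7, 20⟩)
  (.lf ⟨[2, 4, 5, 7, 5, 4, 3, 2], [2106, 2103, 2102, 2105, 2112, 2105, 2105, 2006], 2, 6⟩)) (.lf ⟨[1, 1, 0,
  0, 0, 0, 0, 0], [1080, 1079, 1085, 1089, 1081, 1081, 1081, 1081], 3, 21⟩)) (.nd (.lf ⟨[1, 0, 1, 0, -1, -1,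
  -1, -1], [568, 569, 566, 569, 583, 569, 569, 884], 3, 24⟩) (.lf ⟨[-1, 0, 0, 0, 1, 1, 1, 1], [1594, 1593,
  1590, 1598, 1579, 1593, 1593, 1278], 6, 2⟩))) (.nd (.nd (.lf ⟨[-2, -3, -4, -6, -4, -2, -2, -1], [313, 313,
  313, 316, 313, 228, 429, 313], 7, 15⟩) (.lf ⟨[0, 1, 1, 1, 1, 2, 1, 0], [1338, 1335, 1334, 1342, 1349, 1247,
  1337, 1652], 4, 10⟩)) (.nd (.lf ⟨[0, -1, 0, -1, -1, -2, -1, 0], [825, 826, 822, 825, 813, 915, 825, 510],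
  4, 19⟩) (.lf ⟨[1, 1, 2, 2, 3, 3, 2, 1], [1849, 1849, 1848, 1862, 1837, 1804, 1849, 1849], 3, 10⟩)))) (.nd
  (.nd (.nd (.lf ⟨[-2, -2, -4, -5, -4, -3, -3, -1], [185, 184, 188, 185, 185, 174, 403, 86], 7, 14⟩) (.lf
  ⟨[0, -1, 0, -1, -1, 0, 1, 0], [1209, 1211, 1206, 1209, 1219, 1209, 915, 1536], 4, 17⟩)) (.nd (.lf ⟨[0, 0,
  0, 1, 0, 0, 0, -1], [697, 698, 699, 683, 704, 697, 615, 1476], 4, 15⟩) (.lf ⟨[1, 2, 3, 4, 4, 2, 1, 1],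
  [1722, 1721, 1720, 1724, 1688, 1747, 1833, 1408], 3, 9⟩))) (.nd (.nd (.lf ⟨[-2, -2, -4, -5, -3, -2, -1,
  -1], [441, 440, 444, 446, 431, 441, 329, 756], 7, 11⟩) (.lf ⟨[-1, 0, -1, 0, 0, 0, 0, 1], [1466, 1465, 1469,
  1459, 1465, 1465, 1545, 686], 6, 6⟩)) (.nd (.lf ⟨[0, 1, 1, 1, 1, 0, -1, 0], [954, 951, 950, 957, 943, 953,
  1247, 627], 4, 12⟩) (.lf ⟨[2, 3, 4, 6, 5, 3, 3, 1], [1977, 1977, 1977, 1977, 1976, 2018, 1768, 2076], 2,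
  10⟩))))) (.nd (.nd (.nd (.nd (.lf ⟨[-1, -2, -2, -3, -2, -2, -2, -2], [121, 122, 121, 121, 119, 121, 121,
  684], 6, 15⟩) (.lf ⟨[-1, 0, -1, 0, 1, 1, 0, 0], [1146, 1145, 1148, 1145, 1128, 1094, 1275, 1145], 6, 5⟩))
  (.nd (.lf ⟨[-1, -2, -2, -3, -2, -1, 0, -1], [633, 634, 633, 633, 633, 633, 400, 1406], 6, 16⟩) (.lf ⟨[0, 1,
  1, 2, 1, 2, 1, 1], [1658, 1657, 1657, 1652, 1690, 1567, 1769, 1342], 4, 8⟩))) (.nd (.nd (.lf ⟨[-1, -2, -1,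
  -2, -2, -2, -2, -1], [378, 379, 373, 369, 377, 377, 489, 377], 6, 15⟩) (.lf ⟨[1, 3, 3, 5, 3, 2, 1, 0],
  [1402, 1399, 1401, 1396, 1413, 1401, 1401, 1716], 3, 9⟩)) (.nd (.lf ⟨[0, -1, 0, -1, 0, -1, -1, 0], [889,
  890, 886, 893, 858, 924, 1019, 574], 4, 18⟩) (.lf ⟨[2, 4, 4, 6, 5, 3, 2, 1], [1913, 1910, 1913, 1917, 1899,
  1943, 1913, 1913], 2, 11⟩)))) (.nd (.nd (.nd (.lf ⟨[-2, -2, -4, -6, -5, -3, -2, -1], [249, 246, 249, 253,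
  263, 219, 249, 249], 7, 15⟩) (.lf ⟨[0, 1, 1, 1, 0, 1, 1, 0], [1274, 1271, 1270, 1273, 1304, 1238, 1143,
  1588], 4, 11⟩)) (.nd (.lf ⟨[-2, -2, -4, -4, -3, -2, -1, 0], [761, 761, 767, 756, 761, 761, 761, 446], 7,
  9⟩) (.lf ⟨[2, 1, 2, 2, 2, 2, 2, 1], [1784, 1785, 1785, 1792, 1785, 1785, 1673, 1785], 2, 21⟩))) (.nd (.nd
  (.lf ⟨[-1, -2, -2, -4, -3, -1, -1, -1], [505, 505, 504, 512, 517, 419, 505, 820], 6, 16⟩) (.lf ⟨[-1, -1,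
  -1, -2, -1, 0, 1, 1], [1530, 1529, 1528, 1531, 1529, 1529, 1447, 1201], 6, 9⟩)) (.nd (.lf ⟨[-1, 0, -1, -1,
  0, -1, 0, 0], [1018, 1015, 1017, 1023, 986, 1122, 887, 1017], 6, 8⟩) (.lf ⟨[1, 2, 2, 4, 3, 2, 2, 2], [2041,
  2041, 2042, 2040, 2041, 2046, 2041, 1491], 3, 10⟩))))))))) (.nd (.nd (.nd (.nd (.nd (.nd (.nd (.nd (.nd
  (.lf ⟨[-3, -5, -6, -9, -7, -6, -4, -2], [5, 6, 5, 5, 3, 10, 5, 5], 8, 18⟩) (.lf ⟨[2, 2, 3, 5, 4, 3, 2, 2],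
  [2052, 2055, 2056, 2051, 2053, 2053, 2070, 1520], 2, 14⟩)) (.lf ⟨[-1, -1, -2, -2, -2, 0, 0, 0], [1029,
  1029, 1032, 1022, 1063, 934, 1029, 1029], 6, 10⟩)) (.nd (.lf ⟨[-1, -2, -2, -4, -2, -1, -1, -1], [517, 517,
  516, 530, 505, 472, 517, 832], 6, 15⟩) (.lf ⟨[-1, 0, -1, -1, 0, 0, 1, 1], [1542, 1539, 1541, 1545, 1533,
  1572, 1459, 1217], 6, 6⟩))) (.nd (.nd (.lf ⟨[-3, -3, -4, -6, -4, -3, -2, -1], [262, 261, 258, 266, 247,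
  261, 261, 261], 8, 2⟩) (.lf ⟨[-1, 1, 0, 1, 1, 1, 1, 0], [1286, 1283, 1285, 1285, 1285, 1285, 1155, 1600],
  6, 1⟩)) (.nd (.lf ⟨[-1, -1, -3, -3, -3, -2, -1, 0], [772, 771, 780, 765, 791, 773, 773, 458], 6, 15⟩) (.lf
  ⟨[1, 2, 3, 3, 2, 2, 2, 1], [1798, 1795, 1790, 1800, 1815, 1797, 1685, 1797], 3, 10⟩)))) (.nd (.nd (.nd (.lf
  ⟨[-2, -4, -5, -8, -6, -5, -3, -1], [132, 133, 133, 135, 130, 144, 133, 34], 7, 23⟩) (.lf ⟨[1, 0, 2, 1, 1,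
  1, 0, 0], [1157, 1158, 1154, 1164, 1157, 1107, 1287, 1157], 3, 18⟩)) (.nd (.lf ⟨[-1, -2, -3, -4, -4, -3,
  -2, 0], [644, 645, 646, 640, 651, 645, 723, 109], 6, 19⟩) (.lf ⟨[0, 2, 1, 2, 2, 2, 1, 1], [1670, 1667,
  1669, 1677, 1669, 1624, 1781, 1354], 4, 7⟩))) (.nd (.nd (.lf ⟨[-1, -1, -1, -2, -1, -2, -2, -1], [390, 389,
  388, 392, 356, 415, 501, 389], 6, 14⟩) (.lf ⟨[1, 3, 3, 5, 4, 2, 1, 0], [1414, 1411, 1413, 1413, 1401, 1441,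
  1413, 1726], 3, 8⟩)) (.nd (.lf ⟨[0, 0, 1, 1, 0, -1, -1, 0], [902, 903, 899, 897, 901, 941, 1036, 586], 4,
  15⟩) (.lf ⟨[1, 2, 3, 5, 4, 4, 2, 1], [1926, 1927, 1925, 1923, 1932, 1838, 1981, 1925], 3, 6⟩))))) (.nd (.nd
  (.nd (.nd (.nd (.lf ⟨[-2, -3, -3, -5, -5, -4, -3, -2], [70, 71, 67, 65, 76, 69, 69, 168], 7, 17⟩) (.lf ⟨[2,
  3, 4, 6, 5, 5, 3, 2], [2117, 2117, 2117, 2117, 2118, 2076, 2134, 2018], 2, 8⟩)) (.lf ⟨[1, 1, 1, 2, 0, 0, 0,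
  0], [1092, 1093, 1096, 1085, 1127, 1093, 1093, 1093], 3, 19⟩)) (.nd (.lf ⟨[0, 1, 0, 0, 0, -1, -1, -1],
  [581, 578, 581, 585, 567, 612, 581, 896], 4, 17⟩) (.lf ⟨[0, 0, 1, 2, 1, 1, 1, 1], [1606, 1607, 1605, 1596,
  1622, 1605, 1605, 1290], 4, 10⟩))) (.nd (.nd (.lf ⟨[-2, -2, -3, -4, -4, -2, -2, -1], [326, 325, 325, 320,
  358, 235, 437, 325], 7, 11⟩) (.lf ⟨[0, 1, 1, 1, 2, 2, 1, 0], [1350, 1347, 1346, 1360, 1337, 1304, 1349,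
  1664], 4, 9⟩)) (.nd (.lf ⟨[-2, -2, -2, -3, -2, -1, -1, 0], [838, 839, 833, 837, 837, 792, 967, 522], 7, 5⟩)
  (.lf ⟨[2, 2, 3, 3, 3, 3, 2, 1], [1860, 1859, 1857, 1872, 1861, 1816, 1861, 1861], 2, 16⟩)))) (.nd (.nd (.nd
  (.lf ⟨[-1, -1, -2, -3, -3, -3, -3, -1], [197, 196, 197, 197, 197, 197, 427, 98], 6, 16⟩) (.lf ⟨[0, 1, 1, 2,
  2, 2, 0, 0], [1222, 1221, 1221, 1221, 1221, 1126, 1463, 1221], 5, 2⟩)) (.nd (.lf ⟨[0, 1, 1, 1, 1, 0, 0,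
  -1], [710, 707, 705, 711, 701, 733, 627, 1489], 4, 12⟩) (.lf ⟨[1, 2, 2, 3, 3, 3, 1, 1], [1733, 1732, 1733,
  1740, 1733, 1647, 1963, 1424], 3, 11⟩))) (.nd (.nd (.lf ⟨[0, -2, -2, -4, -3, -2, -1, -1], [452, 453, 453,
  460, 453, 453, 341, 768], 4, 27⟩) (.lf ⟨[0, 1, 0, 1, 0, 0, 0, 1], [1477, 1476, 1480, 1471, 1486, 1477,
  1554, 698], 4, 13⟩)) (.nd (.lf ⟨[-2, -1, -3, -3, -2, -1, 0, 0], [966, 963, 969, 965, 965, 965, 835, 965],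
  7, 4⟩) (.lf ⟨[2, 2, 3, 5, 5, 4, 3, 1], [1988, 1991, 1992, 1989, 1982, 1989, 1933, 2088], 2, 12⟩)))))) (.nd
  (.nd (.nd (.nd (.nd (.nd (.lf ⟨[-3, -3, -5, -7, -6, -5, -3, -2], [38, 35, 37, 37, 37, 48, 20, 136], 8, 10⟩)
  (.lf ⟨[2, 3, 4, 5, 4, 4, 3, 2], [2085, 2084, 2083, 2086, 2092, 2074, 2085, 1986], 2, 10⟩)) (.lf ⟨[1, 0, 0,
  0, -1, 0, 0, 0], [1060, 1061, 1065, 1056, 1099, 1011, 1061, 1061], 3, 22⟩)) (.nd (.lf ⟨[0, -1, -2, -2, -1,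
  -1, -1, -1], [548, 549, 555, 549, 532, 549, 549, 864], 4, 21⟩) (.lf ⟨[0, 0, -1, -1, 0, 1, 1, 1], [1572,
  1571, 1575, 1577, 1573, 1542, 1573, 1258], 4, 14⟩))) (.nd (.nd (.lf ⟨[-1, -1, -3, -4, -3, -3, -2, -1],
  [292, 291, 297, 301, 276, 338, 293, 293], 6, 19⟩) (.lf ⟨[0, 2, 1, 3, 2, 1, 1, 0], [1318, 1315, 1321, 1309,
  1317, 1362, 1187, 1632], 4, 8⟩)) (.nd (.lf ⟨[0, -2, -1, -2, -2, -2, -1, 0], [804, 807, 805, 797, 805, 850,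
  805, 490], 4, 22⟩) (.lf ⟨[2, 3, 3, 5, 3, 2, 2, 1], [1828, 1827, 1831, 1824, 1841, 1874, 1717, 1829], 2,
  15⟩)))) (.nd (.nd (.nd (.lf ⟨[-1, -3, -3, -6, -5, -4, -3, -1], [164, 165, 162, 169, 165, 165, 221, 66], 6,
  25⟩) (.lf ⟨[0, 1, 2, 3, 2, 1, 0, 0], [1190, 1191, 1185, 1182, 1189, 1189, 1319, 1189], 4, 9⟩)) (.nd (.lf
  ⟨[0, 0, 0, 0, -1, 0, 0, -1], [677, 677, 677, 674, 703, 661, 600, 1456], 4, 16⟩) (.lf ⟨[1, 1, 3, 3, 3, 2, 1,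
  1], [1702, 1703, 1694, 1709, 1683, 1701, 1813, 1386], 3, 11⟩))) (.nd (.nd (.lf ⟨[0, -1, -1, -1, -1, -1, -2,
  -1], [420, 423, 424, 416, 421, 393, 654, 421], 4, 21⟩) (.lf ⟨[2, 3, 4, 6, 4, 3, 1, 0], [1445, 1445, 1445,
  1444, 1453, 1419, 1527, 1760], 2, 13⟩)) (.nd (.lf ⟨[0, 1, 0, 0, 0, 0, -1, 0], [933, 930, 933, 940, 933,
  896, 1229, 612], 4, 15⟩) (.lf ⟨[2, 4, 5, 7, 6, 4, 2, 1], [1958, 1955, 1954, 1959, 1950, 1957, 2013, 1957],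
  2, 7⟩))))) (.nd (.nd (.nd (.nd (.nd (.lf ⟨[-2, -3, -4, -6, -4, -3, -2, -2], [101, 101, 101, 102, 100, 101,
  84, 632], 7, 16⟩) (.lf ⟨[3, 5, 6, 9, 7, 5, 4, 2], [2149, 2148, 2149, 2149, 2149, 2154, 2132, 2149], 1, 4⟩))
  (.lf ⟨[0, 0, 0, -1, 0, 1, 0, 0], [1125, 1124, 1123, 1139, 1125, 1020, 1260, 1125], 4, 15⟩)) (.nd (.lf ⟨[0,
  0, 1, 0, 0, 0, -1, -1], [614, 613, 608, 617, 613, 582, 693, 935], 4, 16⟩) (.lf ⟨[2, 2, 2, 3, 2, 1, 1, 1],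
  [1636, 1635, 1641, 1637, 1637, 1682, 1637, 1322], 2, 21⟩))) (.nd (.nd (.lf ⟨[0, -1, -1, -2, -3, -2, -2,
  -1], [356, 357, 357, 354, 390, 312, 469, 357], 4, 24⟩) (.lf ⟨[1, 2, 1, 3, 3, 2, 1, 0], [1380, 1379, 1388,
  1381, 1363, 1381, 1381, 1696], 3, 12⟩)) (.nd (.lf ⟨[0, 0, -1, -2, -1, -1, -1, 0], [868, 867, 869, 878, 852,
  869, 999, 554], 4, 19⟩) (.lf ⟨[3, 3, 4, 5, 4, 3, 2, 1], [1892, 1891, 1893, 1898, 1893, 1893, 1893, 1893],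
  1, 20⟩)))) (.nd (.nd (.nd (.lf ⟨[-2, -3, -4, -5, -4, -4, -2, -1], [229, 230, 231, 228, 222, 316, 173, 229],
  7, 15⟩) (.lf ⟨[1, 1, 1, 2, 1, 0, 1, 0], [1252, 1253, 1254, 1248, 1253, 1343, 958, 1568], 3, 16⟩)) (.nd (.lf
  ⟨[-2, -3, -4, -5, -4, -2, -1, 0], [741, 742, 745, 740, 755, 715, 741, 430], 7, 12⟩) (.lf ⟨[1, 0, 1, 1, 1,
  2, 2, 1], [1764, 1767, 1765, 1765, 1775, 1737, 1651, 1765], 3, 15⟩))) (.nd (.nd (.lf ⟨[-1, -2, -2, -2, -2,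
  -2, -1, -1], [485, 488, 489, 472, 485, 530, 373, 800], 6, 15⟩) (.lf ⟨[2, 2, 3, 4, 3, 3, 2, 0], [1508, 1509,
  1509, 1509, 1515, 1493, 1433, 2048], 2, 17⟩)) (.nd (.lf ⟨[0, -2, -1, -2, -1, -1, 0, 0], [996, 999, 997,
  997, 980, 1047, 867, 997], 4, 19⟩) (.lf ⟨[2, 4, 4, 7, 6, 5, 3, 1], [2021, 2020, 2024, 2021, 2021, 2010,
  2021, 2120], 2, 6⟩))))))) (.nd (.nd (.nd (.nd (.nd (.nd (.nd (.lf ⟨[-2, -3, -5, -7, -6, -5, -4, -2], [20,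
  19, 23, 21, 21, 21, 38, 21], 7, 23⟩) (.lf ⟨[1, 2, 3, 5, 4, 3, 3, 2], [2070, 2071, 2069, 2067, 2069, 2080,
  2052, 1970], 3, 5⟩)) (.lf ⟨[-1, 0, -2, -2, -1, 0, 0, 0], [1045, 1042, 1048, 1052, 1045, 995, 1045, 1045],
  6, 9⟩)) (.nd (.lf ⟨[-1, 0, -2, -2, -2, -1, -1, -1], [533, 530, 536, 533, 550, 488, 533, 848], 6, 13⟩) (.lf
  ⟨[0, 1, 1, 1, 0, 0, 1, 1], [1558, 1555, 1554, 1557, 1564, 1588, 1480, 1238], 4, 11⟩))) (.nd (.nd (.lf ⟨[-1,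
  -3, -2, -4, -4, -3, -2, -1], [277, 280, 274, 270, 294, 277, 277, 277], 6, 20⟩) (.lf ⟨[0, 1, 0, 1, 2, 1, 1,
  0], [1301, 1300, 1304, 1306, 1270, 1346, 1171, 1616], 4, 11⟩)) (.nd (.lf ⟨[-1, -2, -3, -3, -2, -2, -1, 0],
  [788, 791, 796, 786, 771, 834, 789, 474], 6, 15⟩) (.lf ⟨[1, 1, 3, 3, 3, 2, 2, 1], [1814, 1815, 1806, 1821,
  1795, 1858, 1701, 1813], 3, 10⟩)))) (.nd (.nd (.nd (.lf ⟨[-2, -4, -4, -7, -6, -4, -3, -1], [149, 150, 146,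
  149, 156, 138, 205, 50], 7, 20⟩) (.lf ⟨[1, 0, 1, 1, 2, 1, 0, 0], [1172, 1175, 1173, 1178, 1142, 1173, 1303,
  1173], 3, 18⟩)) (.nd (.lf ⟨[0, 0, 0, 0, -1, -1, 0, -1], [661, 661, 661, 658, 662, 677, 428, 1434], 4, 17⟩)
  (.lf ⟨[1, 2, 3, 3, 2, 2, 1, 1], [1686, 1683, 1678, 1688, 1703, 1640, 1797, 1370], 3, 11⟩))) (.nd (.nd (.lf
  ⟨[-1, -3, -3, -5, -4, -3, -1, -1], [404, 407, 405, 405, 405, 433, 187, 718], 6, 21⟩) (.lf ⟨[0, -1, 0, -1,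
  -1, -1, 0, 1], [1429, 1431, 1426, 1429, 1429, 1454, 1429, 657], 4, 18⟩)) (.nd (.lf ⟨[-1, -2, -2, -3, -3,
  -2, 0, 0], [917, 918, 917, 910, 926, 955, 675, 917], 6, 14⟩) (.lf ⟨[1, 3, 4, 6, 5, 4, 2, 1], [1942, 1941,
  1938, 1941, 1941, 1911, 1997, 1941], 3, 2⟩))))) (.nd (.nd (.nd (.nd (.nd (.lf ⟨[-2, -3, -4, -5, -4, -3, -3,
  -2], [85, 86, 87, 84, 85, 74, 102, 184], 7, 16⟩) (.lf ⟨[2, 3, 4, 6, 5, 4, 4, 2], [2133, 2133, 2133, 2133,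
  2133, 2134, 2060, 2133], 2, 8⟩)) (.lf ⟨[0, 1, 0, 2, 1, 0, 0, 0], [1109, 1109, 1115, 1100, 1109, 1159, 1109,
  1109], 4, 13⟩)) (.nd (.lf ⟨[0, 0, -1, -1, -1, 0, -1, -1], [596, 595, 599, 597, 604, 509, 672, 914], 4, 19⟩)
  (.lf ⟨[0, 1, 0, 2, 2, 1, 1, 1], [1621, 1621, 1627, 1616, 1604, 1666, 1621, 1306], 4, 9⟩))) (.nd (.nd (.lf
  ⟨[0, -2, -2, -4, -3, -2, -2, -1], [340, 341, 341, 348, 341, 296, 453, 341], 4, 28⟩) (.lf ⟨[2, 1, 2, 3, 2,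
  2, 1, 0], [1364, 1367, 1369, 1358, 1383, 1320, 1365, 1680], 2, 22⟩)) (.nd (.lf ⟨[0, -1, 0, -2, -2, -1, -1,
  0], [853, 853, 847, 858, 870, 808, 983, 538], 4, 20⟩) (.lf ⟨[1, 1, 2, 3, 4, 3, 2, 1], [1877, 1878, 1877,
  1879, 1844, 1877, 1877, 1877], 3, 9⟩)))) (.nd (.nd (.nd (.lf ⟨[-2, -3, -4, -7, -5, -4, -2, -1], [213, 212,
  211, 222, 206, 243, 157, 213], 7, 17⟩) (.lf ⟨[1, 0, 1, 1, 0, 0, 1, 0], [1236, 1239, 1237, 1231, 1246, 1272,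
  942, 1556], 3, 19⟩)) (.nd (.lf ⟨[0, 0, 0, 0, 1, 1, 0, -1], [725, 725, 725, 728, 721, 703, 725, 1498], 4,
  14⟩) (.lf ⟨[0, 1, 1, 2, 2, 1, 2, 1], [1750, 1749, 1749, 1749, 1743, 1835, 1516, 1749], 4, 7⟩))) (.nd (.nd
  (.lf ⟨[0, -1, -1, -2, -3, -2, -1, -1], [468, 469, 469, 466, 502, 469, 357, 784], 4, 23⟩) (.lf ⟨[2, 2, 3, 4,
  3, 2, 2, 0], [1492, 1493, 1493, 1493, 1493, 1509, 1251, 2043], 2, 18⟩)) (.nd (.lf ⟨[-1, 0, -1, -2, -2, -1,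
  0, 0], [982, 979, 978, 986, 998, 981, 851, 981], 6, 10⟩) (.lf ⟨[3, 3, 5, 7, 5, 4, 3, 1], [2004, 2007, 2005,
  2001, 2012, 2005, 1949, 2104], 1, 14⟩)))))) (.nd (.nd (.nd (.nd (.nd (.nd (.lf ⟨[-3, -4, -5, -7, -5, -4,
  -3, -2], [54, 55, 53, 53, 46, 53, 53, 152], 8, 9⟩) (.lf ⟨[2, 3, 4, 7, 5, 4, 3, 2], [2101, 2102, 2103, 2092,
  2108, 2101, 2101, 2002], 2, 8⟩)) (.lf ⟨[0, 1, -1, 0, 0, 0, 0, 0], [1076, 1075, 1084, 1077, 1077, 1077,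
  1077, 1077], 5, 6⟩)) (.nd (.lf ⟨[-1, 0, 0, 0, -1, -1, -1, -1], [566, 565, 562, 560, 579, 565, 565, 880], 6,
  9⟩) (.lf ⟨[1, 1, 1, 1, 0, 1, 1, 1], [1588, 1587, 1589, 1589, 1620, 1558, 1589, 1274], 3, 16⟩))) (.nd (.nd
  (.lf ⟨[0, -1, -1, -3, -3, -3, -2, -1], [308, 307, 305, 312, 309, 354, 309, 309], 4, 26⟩) (.lf ⟨[0, 0, 0, 1,
  1, 2, 1, 0], [1333, 1334, 1335, 1330, 1345, 1243, 1333, 1648], 4, 12⟩)) (.nd (.lf ⟨[-1, -1, -1, -1, -1, -2,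
  -1, 0], [822, 823, 821, 816, 809, 911, 821, 506], 6, 11⟩) (.lf ⟨[1, 2, 2, 3, 2, 3, 2, 1], [1845, 1844,
  1845, 1845, 1878, 1759, 1845, 1845], 3, 9⟩)))) (.nd (.nd (.nd (.lf ⟨[-1, -2, -2, -4, -4, -4, -3, -1], [181,
  181, 180, 181, 181, 192, 237, 82], 6, 20⟩) (.lf ⟨[-1, -1, -1, -1, -1, 0, 1, 0], [1206, 1207, 1205, 1201,
  1215, 1205, 911, 1531], 6, 9⟩)) (.nd (.lf ⟨[0, 0, 1, 0, 0, 0, 0, -1], [694, 693, 687, 699, 693, 693, 613,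
  1472], 4, 15⟩) (.lf ⟨[2, 3, 3, 5, 3, 2, 1, 1], [1716, 1715, 1719, 1712, 1727, 1717, 1829, 1402], 2, 16⟩)))
  (.nd (.nd (.lf ⟨[-2, -2, -3, -4, -4, -2, -1, -1], [438, 437, 437, 434, 470, 411, 325, 750], 7, 10⟩) (.lf
  ⟨[0, -1, 0, -1, 0, 0, 0, 1], [1461, 1462, 1458, 1468, 1454, 1461, 1543, 682], 4, 16⟩)) (.nd (.lf ⟨[-1, -2,
  -2, -4, -3, -1, 0, 0], [949, 949, 947, 955, 962, 910, 820, 949], 6, 14⟩) (.lf ⟨[2, 3, 3, 5, 4, 3, 3, 1],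
  [1972, 1971, 1975, 1973, 1973, 1984, 1755, 2072], 2, 13⟩))))) (.nd (.nd (.nd (.nd (.lf ⟨[-1, -2, -3, -4,
  -3, -2, -2, -2], [116, 117, 118, 117, 117, 112, 117, 667], 6, 18⟩) (.lf ⟨[0, 0, 1, 1, 0, 1, 0, 0], [1142,
  1143, 1139, 1135, 1172, 1036, 1271, 1141], 4, 13⟩)) (.nd (.lf ⟨[0, 1, 1, 2, 1, 0, -1, -1], [630, 629, 629,
  627, 629, 629, 711, 957], 4, 12⟩) (.lf ⟨[1, 1, 1, 1, 1, 2, 1, 1], [1652, 1651, 1653, 1658, 1665, 1565,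
  1767, 1338], 3, 15⟩))) (.nd (.nd (.lf ⟨[-1, -2, -2, -2, -2, -2, -2, -1], [373, 376, 377, 360, 373, 373,
  485, 373], 6, 16⟩) (.lf ⟨[2, 3, 3, 4, 3, 2, 1, 0], [1396, 1395, 1397, 1402, 1397, 1397, 1397, 1712], 2,
  18⟩)) (.nd (.lf ⟨[-1, -1, -1, -1, 0, -1, -1, 0], [886, 887, 885, 885, 854, 920, 1015, 570], 6, 10⟩) (.lf
  ⟨[2, 3, 3, 6, 5, 3, 2, 1], [1908, 1909, 1914, 1905, 1895, 1939, 1909, 1909], 2, 12⟩)))) (.nd (.nd (.nd (.lf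
  ⟨[-2, -3, -5, -6, -5, -3, -2, -1], [244, 245, 250, 241, 259, 215, 245, 245], 7, 16⟩) (.lf ⟨[0, 0, 0, 1, 0,
  1, 1, 0], [1269, 1270, 1271, 1260, 1300, 1234, 1139, 1584], 4, 13⟩)) (.nd (.lf ⟨[-2, -3, -3, -5, -3, -2,
  -1, 0], [758, 759, 755, 762, 745, 757, 757, 442], 7, 10⟩) (.lf ⟨[0, 2, 1, 2, 2, 2, 2, 1], [1782, 1779,
  1781, 1789, 1781, 1781, 1669, 1781], 4, 6⟩))) (.nd (.nd (.lf ⟨[-1, -1, -1, -2, -1, -2, -1, -1], [502, 501,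
  500, 506, 468, 591, 389, 816], 6, 13⟩) (.lf ⟨[1, 1, 2, 3, 2, 1, 0, 1], [1525, 1526, 1525, 1518, 1525, 1525,
  1758, 752], 3, 12⟩)) (.nd (.lf ⟨[0, 0, 1, 0, -1, -1, 0, 0], [1014, 1013, 1008, 1013, 1030, 1064, 883,
  1013], 4, 16⟩) (.lf ⟨[1, 1, 2, 3, 2, 2, 2, 2], [2037, 2038, 2037, 2036, 2039, 2037, 2037, 1474], 3,
  13⟩)))))))) (.nd (.nd (.nd (.nd (.nd (.nd (.nd (.nd (.lf ⟨[-3, -4, -5, -8, -7, -5, -4, -2], [14, 13, 12,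
  13, 16, 8, 30, 13], 8, 14⟩) (.lf ⟨[1, 1, 2, 3, 3, 3, 3, 2], [2061, 2062, 2061, 2061, 2061, 2061, 2044,
  1962], 3, 10⟩)) (.lf ⟨[1, 0, 1, 1, 0, -1, 0, 0], [1036, 1039, 1037, 1031, 1037, 1142, 902, 1037], 3, 20⟩))
  (.nd (.lf ⟨[0, -1, -2, -3, -2, -1, -1, -1], [524, 523, 529, 532, 525, 480, 525, 840], 4, 23⟩) (.lf ⟨[1, 0,
  0, 0, 0, 0, 1, 1], [1548, 1549, 1552, 1549, 1549, 1580, 1470, 1228], 3, 20⟩))) (.nd (.nd (.lf ⟨[-1, -2, -4,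
  -5, -4, -3, -2, -1], [268, 267, 271, 269, 269, 269, 269, 269], 6, 21⟩) (.lf ⟨[1, 2, 1, 2, 1, 1, 1, 0],
  [1292, 1291, 1297, 1293, 1310, 1293, 1163, 1608], 3, 16⟩)) (.nd (.lf ⟨[0, -1, -1, -3, -3, -2, -1, 0], [780,
  779, 777, 784, 799, 781, 781, 466], 4, 23⟩) (.lf ⟨[0, 1, 1, 3, 3, 2, 2, 1], [1806, 1807, 1809, 1802, 1787,
  1850, 1693, 1805], 4, 5⟩)))) (.nd (.nd (.nd (.lf ⟨[-2, -3, -4, -6, -5, -5, -3, -1], [141, 141, 141, 141,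
  140, 182, 141, 42], 7, 18⟩) (.lf ⟨[0, 1, 2, 2, 1, 1, 0, 0], [1166, 1165, 1159, 1165, 1182, 1115, 1295,
  1165], 4, 11⟩)) (.nd (.lf ⟨[-1, -1, -1, -1, -1, -1, 0, -1], [654, 655, 653, 648, 653, 669, 420, 1425], 6,
  11⟩) (.lf ⟨[0, 2, 1, 3, 2, 2, 1, 1], [1678, 1675, 1681, 1669, 1695, 1632, 1789, 1362], 4, 6⟩))) (.nd (.nd
  (.lf ⟨[0, 0, 0, -1, -1, -2, -2, -1], [397, 396, 395, 398, 387, 425, 511, 397], 4, 20⟩) (.lf ⟨[-1, -1, -1,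
  -2, -1, -1, 0, 1], [1422, 1421, 1420, 1425, 1415, 1447, 1421, 648], 6, 11⟩)) (.nd (.lf ⟨[-1, -2, -3, -4,
  -3, -2, 0, 0], [908, 909, 910, 909, 909, 947, 667, 909], 6, 16⟩) (.lf ⟨[2, 2, 3, 5, 5, 4, 2, 1], [1932,
  1935, 1936, 1933, 1926, 1903, 1989, 1933], 2, 13⟩))))) (.nd (.nd (.nd (.nd (.nd (.lf ⟨[-1, -3, -3, -5, -4,
  -4, -3, -2], [76, 79, 77, 77, 70, 88, 77, 176], 6, 24⟩) (.lf ⟨[2, 4, 5, 8, 6, 5, 3, 2], [2126, 2125, 2125,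
  2123, 2128, 2114, 2142, 2026], 2, 3⟩)) (.lf ⟨[0, 0, 1, 0, 1, 0, 0, 0], [1102, 1101, 1095, 1110, 1064, 1151,
  1101, 1101], 4, 14⟩)) (.nd (.lf ⟨[1, 1, 1, 1, 0, -1, -1, -1], [588, 587, 589, 589, 589, 620, 589, 904], 3,
  21⟩) (.lf ⟨[1, 1, 2, 3, 1, 1, 1, 1], [1613, 1614, 1613, 1603, 1646, 1613, 1613, 1298], 3, 14⟩))) (.nd (.nd
  (.lf ⟨[-1, -2, -3, -5, -3, -2, -2, -1], [332, 331, 333, 344, 321, 288, 445, 333], 6, 19⟩) (.lf ⟨[0, 1, 2,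
  2, 2, 2, 1, 0], [1358, 1357, 1351, 1364, 1357, 1312, 1357, 1672], 4, 8⟩)) (.nd (.lf ⟨[-1, -2, -2, -2, -2,
  -1, -1, 0], [845, 848, 849, 832, 862, 800, 975, 530], 6, 13⟩) (.lf ⟨[2, 3, 3, 4, 3, 3, 2, 1], [1868, 1867,
  1869, 1874, 1886, 1824, 1869, 1869], 2, 15⟩)))) (.nd (.nd (.nd (.lf ⟨[-2, -4, -4, -7, -6, -4, -2, -1],
  [205, 206, 202, 205, 212, 205, 149, 205], 7, 19⟩) (.lf ⟨[0, 1, 0, 0, 0, 0, 1, 0], [1229, 1226, 1229, 1235,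
  1229, 1266, 933, 1550], 4, 14⟩)) (.nd (.lf ⟨[-2, -3, -3, -5, -4, -3, -1, 0], [718, 719, 715, 717, 717, 745,
  637, 404], 7, 12⟩) (.lf ⟨[1, 2, 3, 4, 3, 3, 1, 1], [1742, 1741, 1740, 1741, 1747, 1655, 1965, 1432], 3,
  9⟩))) (.nd (.nd (.lf ⟨[-2, -1, -2, -3, -3, -2, -1, -1], [462, 459, 457, 461, 479, 461, 349, 776], 7, 7⟩)
  (.lf ⟨[0, 0, 0, 1, 1, 0, 0, 1], [1485, 1486, 1487, 1482, 1476, 1501, 1560, 704], 4, 13⟩)) (.nd (.lf ⟨[-1,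
  -1, -1, -3, -2, -1, 0, 0], [974, 971, 966, 984, 973, 973, 843, 973], 6, 11⟩) (.lf ⟨[1, 3, 4, 6, 5, 4, 3,
  1], [1998, 1997, 1994, 1997, 1997, 1997, 1941, 2096], 3, 1⟩)))))) (.nd (.nd (.nd (.nd (.nd (.nd (.lf ⟨[-2,
  -4, -5, -8, -6, -4, -3, -2], [44, 45, 45, 47, 45, 34, 45, 144], 7, 23⟩) (.lf ⟨[1, 3, 3, 6, 5, 4, 3, 2],
  [2094, 2093, 2096, 2089, 2093, 2093, 2093, 1994], 3, 1⟩)) (.lf ⟨[-1, 0, -2, -1, 0, 0, 0, 0], [1069, 1068,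
  1072, 1069, 1052, 1069, 1069, 1069], 6, 7⟩)) (.nd (.lf ⟨[-1, 0, -2, -1, -1, -1, -1, -1], [557, 556, 560,
  550, 557, 557, 557, 872], 6, 11⟩) (.lf ⟨[0, 1, 0, 0, 0, 1, 1, 1], [1581, 1578, 1581, 1585, 1595, 1550,
  1581, 1266], 4, 12⟩))) (.nd (.nd (.lf ⟨[-1, -1, -3, -3, -3, -3, -2, -1], [300, 299, 308, 293, 301, 346,
  301, 301], 6, 18⟩) (.lf ⟨[1, 2, 3, 3, 2, 1, 1, 0], [1326, 1323, 1318, 1328, 1325, 1370, 1195, 1640], 3,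
  13⟩)) (.nd (.lf ⟨[0, -1, 0, -1, -2, -2, -1, 0], [813, 814, 810, 808, 825, 858, 813, 498], 4, 20⟩) (.lf ⟨[1,
  1, 2, 2, 2, 3, 2, 1], [1837, 1837, 1836, 1844, 1849, 1751, 1837, 1837], 3, 11⟩)))) (.nd (.nd (.nd (.lf
  ⟨[-2, -3, -4, -5, -4, -4, -3, -1], [173, 174, 175, 172, 166, 184, 229, 74], 7, 16⟩) (.lf ⟨[1, 2, 2, 4, 2,
  1, 0, 0], [1197, 1197, 1198, 1184, 1210, 1197, 1327, 1197], 3, 14⟩)) (.nd (.lf ⟨[-1, -1, -2, -3, -2, -2,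
  -2, 0], [685, 684, 685, 692, 676, 685, 927, 122], 6, 13⟩) (.lf ⟨[1, 1, 3, 4, 3, 2, 1, 1], [1710, 1711,
  1705, 1701, 1709, 1709, 1821, 1394], 3, 10⟩))) (.nd (.nd (.lf ⟨[-2, -3, -4, -6, -4, -2, -1, -1], [429, 429,
  429, 430, 429, 399, 313, 740], 7, 14⟩) (.lf ⟨[2, 3, 4, 6, 5, 3, 1, 0], [1453, 1453, 1453, 1453, 1445, 1453,
  1535, 1768], 2, 12⟩)) (.nd (.lf ⟨[0, 0, 1, 1, 0, 0, -1, 0], [942, 943, 939, 935, 951, 901, 1236, 617], 4,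
  14⟩) (.lf ⟨[1, 2, 3, 4, 3, 3, 3, 1], [1966, 1965, 1964, 1965, 1968, 1965, 1741, 2064], 3, 8⟩))))) (.nd (.nd
  (.nd (.nd (.nd (.lf ⟨[-1, -2, -3, -4, -4, -3, -2, -2], [108, 109, 110, 107, 112, 109, 92, 645], 6, 20⟩)
  (.lf ⟨[3, 5, 6, 10, 8, 6, 4, 2], [2157, 2157, 2158, 2156, 2157, 2157, 2157, 2157], 1, 1⟩)) (.lf ⟨[1, 0, 0,
  0, 0, 1, 0, 0], [1132, 1133, 1136, 1133, 1149, 1027, 1265, 1133], 3, 21⟩)) (.nd (.lf ⟨[0, 0, 0, 0, 1, 0,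
  -1, -1], [621, 621, 621, 622, 600, 621, 703, 945], 4, 16⟩) (.lf ⟨[0, 0, 0, 0, 1, 2, 1, 1], [1645, 1645,
  1645, 1648, 1645, 1559, 1761, 1330], 4, 12⟩))) (.nd (.nd (.lf ⟨[-2, -2, -2, -3, -2, -2, -2, -1], [366, 367,
  361, 365, 347, 365, 477, 365], 7, 8⟩) (.lf ⟨[2, 2, 3, 3, 3, 2, 1, 0], [1388, 1387, 1385, 1400, 1371, 1389,
  1389, 1704], 2, 19⟩)) (.nd (.lf ⟨[-1, 0, -1, 0, -1, -1, -1, 0], [878, 877, 880, 868, 891, 877, 1007, 562],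
  6, 9⟩) (.lf ⟨[3, 3, 5, 6, 4, 3, 2, 1], [1900, 1901, 1898, 1901, 1915, 1901, 1901, 1901], 1, 18⟩)))) (.nd
  (.nd (.nd (.lf ⟨[-1, -2, -2, -4, -4, -4, -2, -1], [237, 237, 236, 237, 237, 327, 181, 237], 6, 19⟩) (.lf
  ⟨[-1, 0, -1, 0, 0, 1, 1, 0], [1262, 1261, 1264, 1257, 1275, 1223, 1128, 1576], 6, 5⟩)) (.nd (.lf ⟨[1, 1, 2,
  2, 2, 1, 0, -1], [749, 749, 744, 752, 739, 749, 749, 1518], 3, 14⟩) (.lf ⟨[0, 1, 0, 1, 2, 2, 2, 1], [1773,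
  1772, 1776, 1778, 1763, 1773, 1661, 1773], 4, 8⟩))) (.nd (.nd (.lf ⟨[0, -1, 0, -2, -2, -2, -1, -1], [493,
  493, 487, 498, 493, 538, 381, 808], 4, 22⟩) (.lf ⟨[1, 1, 1, 2, 2, 1, 0, 1], [1516, 1517, 1518, 1517, 1511,
  1517, 1750, 744], 3, 14⟩)) (.nd (.lf ⟨[-1, 0, 0, -1, -1, -1, 0, 0], [1006, 1003, 1002, 1010, 1005, 1055,
  875, 1005], 6, 8⟩) (.lf ⟨[2, 4, 5, 8, 7, 5, 3, 1], [2030, 2029, 2029, 2029, 2026, 2029, 2029, 2128], 2,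
  3⟩))))))) (.nd (.nd (.nd (.nd (.nd (.nd (.nd (.lf ⟨[-3, -4, -6, -8, -7, -5, -3, -2], [29, 29, 30, 28, 32,
  29, 12, 128], 8, 14⟩) (.lf ⟨[1, 2, 2, 4, 4, 4, 3, 2], [2077, 2077, 2078, 2077, 2077, 2066, 2077, 1978], 3,
  6⟩)) (.lf ⟨[-1, -1, 0, -1, -1, 0, 0, 0], [1054, 1055, 1051, 1053, 1070, 1003, 1053, 1053], 6, 8⟩)) (.nd
  (.lf ⟨[-1, 0, -1, -1, -2, -1, -1, -1], [542, 539, 541, 536, 572, 496, 541, 856], 6, 11⟩) (.lf ⟨[1, 1, 1, 1,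
  1, 0, 1, 1], [1564, 1563, 1565, 1568, 1558, 1653, 1490, 1248], 3, 16⟩))) (.nd (.nd (.lf ⟨[-2, -3, -3, -5,
  -3, -3, -2, -1], [286, 287, 283, 290, 254, 330, 285, 285], 7, 13⟩) (.lf ⟨[0, 2, 1, 2, 2, 1, 1, 0], [1310,
  1307, 1309, 1317, 1292, 1354, 1179, 1624], 4, 9⟩)) (.nd (.lf ⟨[0, -2, -1, -3, -2, -2, -1, 0], [796, 799,
  793, 805, 779, 842, 797, 482], 4, 23⟩) (.lf ⟨[1, 1, 3, 4, 3, 2, 2, 1], [1822, 1823, 1817, 1813, 1821, 1866,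
  1709, 1821], 3, 9⟩)))) (.nd (.nd (.nd (.lf ⟨[-2, -3, -4, -7, -5, -4, -3, -1], [157, 156, 155, 166, 150,
  157, 213, 58], 7, 18⟩) (.lf ⟨[1, 0, 2, 2, 2, 1, 0, 0], [1181, 1184, 1178, 1181, 1164, 1181, 1311, 1181], 3,
  16⟩)) (.nd (.lf ⟨[-1, -1, -1, -1, -1, 0, 0, -1], [670, 671, 669, 664, 678, 653, 594, 1449], 6, 10⟩) (.lf
  ⟨[0, 1, 1, 3, 3, 2, 1, 1], [1694, 1695, 1697, 1690, 1675, 1693, 1805, 1378], 4, 6⟩))) (.nd (.nd (.lf ⟨[-1,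
  -2, -2, -4, -4, -3, -1, -1], [413, 413, 412, 413, 419, 439, 192, 724], 6, 18⟩) (.lf ⟨[2, 2, 3, 4, 4, 3, 1,
  0], [1436, 1437, 1437, 1440, 1433, 1409, 1515, 1748], 2, 17⟩)) (.nd (.lf ⟨[0, 0, 0, -1, 0, 0, -1, 0], [925,
  924, 923, 939, 916, 890, 1220, 606], 4, 16⟩) (.lf ⟨[3, 3, 5, 7, 5, 4, 2, 1], [1948, 1951, 1949, 1945, 1956,
  1919, 2005, 1949], 1, 15⟩))))) (.nd (.nd (.nd (.nd (.nd (.lf ⟨[-1, -2, -2, -4, -4, -3, -3, -2], [93, 93,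
  92, 93, 96, 82, 110, 192], 6, 20⟩) (.lf ⟨[3, 4, 5, 7, 6, 5, 4, 2], [2140, 2139, 2141, 2143, 2141, 2141,
  2124, 2141], 1, 9⟩)) (.lf ⟨[1, 2, 2, 2, 1, 0, 0, 0], [1117, 1114, 1113, 1119, 1117, 1167, 1117, 1117], 3,
  17⟩)) (.nd (.lf ⟨[0, -1, 0, -1, 0, 0, -1, -1], [605, 606, 602, 609, 598, 574, 682, 924], 4, 18⟩) (.lf ⟨[1,
  2, 2, 2, 2, 1, 1, 1], [1629, 1626, 1625, 1642, 1612, 1674, 1629, 1314], 3, 13⟩))) (.nd (.nd (.lf ⟨[-2, -1,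
  -2, -3, -3, -2, -2, -1], [350, 347, 345, 349, 367, 304, 461, 349], 7, 8⟩) (.lf ⟨[1, 2, 3, 4, 2, 2, 1, 0],
  [1374, 1373, 1372, 1370, 1408, 1328, 1373, 1688], 3, 11⟩)) (.nd (.lf ⟨[-1, -1, -2, -3, -1, -1, -1, 0],
  [861, 860, 861, 871, 828, 861, 991, 546], 6, 12⟩) (.lf ⟨[1, 3, 3, 4, 4, 3, 2, 1], [1886, 1883, 1882, 1894,
  1868, 1885, 1885, 1885], 3, 6⟩)))) (.nd (.nd (.nd (.lf ⟨[-1, -3, -3, -6, -5, -4, -2, -1], [220, 221, 218,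
  225, 221, 251, 165, 221], 6, 24⟩) (.lf ⟨[0, 0, 1, 1, 1, 0, 1, 0], [1246, 1247, 1243, 1245, 1236, 1335, 951,
  1562], 4, 12⟩)) (.nd (.lf ⟨[0, 1, 1, 1, 1, 1, 0, -1], [734, 731, 730, 737, 733, 709, 733, 1505], 4, 11⟩)
  (.lf ⟨[2, 3, 4, 5, 4, 3, 1, 1], [1757, 1756, 1755, 1760, 1757, 1729, 1975, 1444], 2, 13⟩))) (.nd (.nd (.lf
  ⟨[-2, -2, -2, -3, -2, -2, -1, -1], [478, 479, 473, 477, 459, 522, 365, 792], 7, 7⟩) (.lf ⟨[0, 0, 0, 1, 1,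
  1, 0, 1], [1501, 1502, 1503, 1498, 1501, 1485, 1734, 728], 4, 12⟩)) (.nd (.lf ⟨[0, 0, 0, -1, -2, -1, 0, 0],
  [989, 988, 987, 989, 1020, 989, 859, 989], 4, 17⟩) (.lf ⟨[2, 4, 5, 7, 6, 4, 3, 1], [2014, 2011, 2010, 2015,
  2006, 2024, 1957, 2112], 2, 6⟩)))))) (.nd (.nd (.nd (.nd (.nd (.nd (.lf ⟨[-2, -4, -4, -6, -5, -4, -3, -2],
  [61, 64, 61, 57, 61, 61, 61, 160], 7, 19⟩) (.lf ⟨[2, 4, 4, 7, 6, 4, 3, 2], [2109, 2108, 2112, 2109, 2102,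
  2120, 2109, 2010], 2, 6⟩)) (.lf ⟨[1, 1, 1, 0, 0, 0, 0, 0], [1084, 1083, 1081, 1093, 1085, 1085, 1085,
  1085], 3, 20⟩)) (.nd (.lf ⟨[0, 0, -1, -1, 0, -1, -1, -1], [572, 571, 575, 577, 542, 604, 573, 888], 4, 19⟩)
  (.lf ⟨[1, 0, 1, 0, 1, 1, 1, 1], [1596, 1597, 1594, 1606, 1583, 1597, 1597, 1282], 3, 17⟩))) (.nd (.nd (.lf
  ⟨[-2, -2, -4, -5, -4, -2, -2, -1], [317, 316, 320, 317, 329, 230, 431, 317], 7, 13⟩) (.lf ⟨[2, 2, 3, 4, 3,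
  1, 1, 0], [1340, 1341, 1341, 1341, 1329, 1433, 1213, 1656], 2, 19⟩)) (.nd (.lf ⟨[0, 0, 0, 0, -1, -2, -1,
  0], [829, 829, 829, 826, 829, 919, 829, 514], 4, 17⟩) (.lf ⟨[1, 2, 1, 3, 3, 3, 2, 1], [1852, 1851, 1860,
  1853, 1853, 1808, 1853, 1853], 3, 9⟩)))) (.nd (.nd (.nd (.lf ⟨[-1, -2, -3, -5, -4, -3, -3, -1], [188, 187,
  189, 191, 189, 178, 407, 90], 6, 21⟩) (.lf ⟨[2, 2, 3, 4, 3, 1, 0, 0], [1212, 1213, 1213, 1213, 1199, 1251,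
  1341, 1213], 2, 20⟩)) (.nd (.lf ⟨[0, 1, 1, 1, 0, 0, 0, -1], [702, 699, 698, 701, 709, 701, 619, 1480], 4,
  13⟩) (.lf ⟨[2, 2, 3, 5, 4, 2, 1, 1], [1724, 1727, 1728, 1722, 1715, 1753, 1839, 1412], 2, 16⟩))) (.nd (.nd
  (.lf ⟨[-1, -2, -3, -5, -3, -2, -1, -1], [444, 443, 445, 456, 435, 445, 333, 760], 6, 18⟩) (.lf ⟨[-1, 0, 0,
  0, 0, 0, 0, 1], [1470, 1469, 1465, 1469, 1469, 1469, 1548, 689], 6, 5⟩)) (.nd (.lf ⟨[0, 1, 1, 2, 1, 0, -1,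
  0], [958, 957, 957, 953, 957, 957, 1252, 629], 4, 11⟩) (.lf ⟨[1, 2, 3, 5, 4, 4, 3, 1], [1982, 1983, 1981,
  1979, 1988, 1970, 1925, 2080], 3, 5⟩))))) (.nd (.nd (.nd (.nd (.lf ⟨[0, -1, -1, -2, -2, -2, -2, -2], [124,
  125, 125, 125, 125, 125, 125, 696], 5, 12⟩) (.lf ⟨[1, 0, 0, 0, 1, 1, 0, 0], [1148, 1149, 1152, 1154, 1133,
  1099, 1279, 1149], 3, 20⟩)) (.nd (.lf ⟨[-2, -3, -3, -5, -4, -3, -2, 0], [638, 639, 635, 637, 637, 637, 717,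
  104], 7, 13⟩) (.lf ⟨[0, 1, 0, 1, 2, 2, 1, 1], [1661, 1660, 1664, 1666, 1649, 1616, 1773, 1346], 4, 9⟩)))
  (.nd (.nd (.lf ⟨[0, -1, 0, -2, -2, -2, -2, -1], [381, 381, 375, 386, 381, 381, 493, 381], 4, 23⟩) (.lf ⟨[1,
  2, 2, 4, 4, 2, 1, 0], [1405, 1405, 1408, 1405, 1372, 1435, 1405, 1720], 3, 11⟩)) (.nd (.lf ⟨[0, -1, 0, 0,
  0, -1, -1, 0], [893, 896, 893, 889, 879, 930, 1025, 578], 4, 17⟩) (.lf ⟨[2, 4, 4, 7, 5, 3, 2, 1], [1917,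
  1916, 1920, 1913, 1917, 1947, 1917, 1917], 2, 10⟩)))) (.nd (.nd (.nd (.lf ⟨[-2, -2, -4, -5, -5, -3, -2,
  -1], [253, 252, 256, 249, 284, 223, 253, 253], 7, 14⟩) (.lf ⟨[0, -1, 0, 0, 1, 1, 1, 0], [1277, 1280, 1277,
  1277, 1263, 1277, 1147, 1592], 4, 13⟩)) (.nd (.lf ⟨[-1, -1, -3, -4, -3, -2, -1, 0], [764, 763, 769, 773,
  765, 765, 765, 450], 6, 16⟩) (.lf ⟨[0, 2, 1, 3, 2, 2, 2, 1], [1790, 1787, 1793, 1781, 1807, 1789, 1677,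
  1789], 4, 5⟩))) (.nd (.nd (.lf ⟨[0, 0, -1, -1, -1, -2, -1, -1], [508, 507, 511, 509, 497, 597, 395, 824],
  4, 20⟩) (.lf ⟨[-1, 0, -1, -1, -1, 0, 1, 1], [1534, 1531, 1533, 1533, 1541, 1533, 1451, 1207], 6, 7⟩)) (.nd
  (.lf ⟨[-1, -2, -2, -3, -2, 0, 0, 0], [1021, 1022, 1021, 1021, 1040, 926, 1021, 1021], 6, 12⟩) (.lf ⟨[1, 2,
  2, 3, 3, 3, 2, 2], [2045, 2044, 2045, 2046, 2045, 2040, 2062, 1500], 3, 10⟩)))))))))) (.nd (.nd (.nd (.nd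
  (.nd (.nd (.nd (.nd (.nd (.nd (.lf ⟨[-3, -5, -6, -9, -8, -6, -4, -2], [3, 4, 3, 2, 5, 3, 3, 3], 8, 19⟩)
  (.lf ⟨[2, 2, 3, 4, 4, 3, 2, 2], [2050, 2051, 2051, 2053, 2048, 2051, 2068, 1515], 2, 15⟩)) (.lf ⟨[1, 0, 0,
  0, 0, -1, 0, 0], [1026, 1027, 1031, 1027, 1011, 1133, 895, 1027], 3, 22⟩)) (.nd (.lf ⟨[-2, -2, -3, -4, -2,
  -1, -1, -1], [516, 515, 515, 518, 503, 470, 515, 830], 7, 8⟩) (.lf ⟨[-1, -1, -1, -1, 0, 0, 1, 1], [1540,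
  1541, 1539, 1539, 1531, 1570, 1457, 1215], 6, 7⟩))) (.nd (.nd (.lf ⟨[-2, -3, -5, -6, -4, -3, -2, -1], [258,
  259, 264, 259, 245, 259, 259, 259], 7, 15⟩) (.lf ⟨[-1, 0, 0, 1, 1, 1, 1, 0], [1284, 1285, 1283, 1278, 1283,
  1283, 1153, 1598], 6, 2⟩)) (.nd (.lf ⟨[-1, -2, -3, -3, -3, -2, -1, 0], [770, 773, 778, 760, 789, 771, 771,
  456], 6, 16⟩) (.lf ⟨[1, 1, 3, 3, 2, 2, 2, 1], [1796, 1797, 1788, 1795, 1813, 1795, 1683, 1795], 3, 11⟩))))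
  (.nd (.nd (.nd (.lf ⟨[-3, -4, -6, -8, -6, -5, -3, -1], [131, 131, 132, 131, 128, 142, 131, 32], 8, 12⟩)
  (.lf ⟨[-1, 1, 0, 1, 1, 1, 0, 0], [1156, 1153, 1155, 1155, 1155, 1105, 1285, 1155], 6, 2⟩)) (.nd (.lf ⟨[0,
  -1, -1, -2, -2, -1, 0, -1], [642, 643, 643, 643, 649, 643, 410, 1416], 4, 22⟩) (.lf ⟨[0, 0, 1, 2, 2, 2, 1,
  1], [1668, 1669, 1667, 1662, 1667, 1622, 1779, 1352], 4, 8⟩))) (.nd (.nd (.lf ⟨[0, 0, 0, -1, -2, -2, -2,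
  -1], [387, 386, 385, 387, 397, 387, 499, 387], 4, 21⟩) (.lf ⟨[1, 2, 3, 5, 4, 2, 1, 0], [1412, 1413, 1411,
  1408, 1399, 1439, 1411, 1724], 3, 9⟩)) (.nd (.lf ⟨[0, 0, 0, 1, 0, -1, -1, 0], [899, 900, 901, 890, 899,
  939, 1034, 584], 4, 16⟩) (.lf ⟨[1, 2, 3, 4, 4, 4, 2, 1], [1924, 1923, 1922, 1925, 1923, 1833, 1979, 1923],
  3, 7⟩))))) (.nd (.nd (.nd (.nd (.nd (.lf ⟨[-2, -3, -4, -5, -5, -4, -3, -2], [67, 68, 69, 58, 74, 67, 67,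
  166], 7, 18⟩) (.lf ⟨[3, 4, 5, 8, 6, 4, 3, 2], [2114, 2115, 2116, 2113, 2115, 2126, 2115, 2016], 1, 10⟩))
  (.lf ⟨[1, 1, 2, 1, 0, 0, 0, 0], [1091, 1090, 1089, 1096, 1108, 1091, 1091, 1091], 3, 19⟩)) (.nd (.lf ⟨[-1,
  0, 0, 0, 0, -1, -1, -1], [580, 579, 576, 579, 565, 610, 579, 894], 6, 8⟩) (.lf ⟨[1, 1, 2, 1, 1, 1, 1, 1],
  [1603, 1602, 1601, 1613, 1603, 1603, 1603, 1288], 3, 15⟩))) (.nd (.nd (.lf ⟨[-1, -1, -1, -2, -2, -3, -2,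
  -1], [324, 323, 322, 323, 311, 409, 323, 323], 6, 15⟩) (.lf ⟨[0, 0, 1, 1, 2, 2, 1, 0], [1348, 1349, 1345,
  1352, 1335, 1302, 1347, 1662], 4, 10⟩)) (.nd (.lf ⟨[-2, -1, -3, -3, -2, -1, -1, 0], [836, 833, 839, 835,
  835, 790, 965, 520], 7, 5⟩) (.lf ⟨[2, 1, 3, 3, 3, 3, 2, 1], [1858, 1861, 1855, 1867, 1859, 1814, 1859,
  1859], 2, 17⟩)))) (.nd (.nd (.nd (.lf ⟨[-1, -2, -2, -4, -3, -3, -3, -1], [195, 195, 194, 196, 192, 195,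
  419, 96], 6, 18⟩) (.lf ⟨[0, -1, 0, -1, 0, 0, 1, 0], [1219, 1220, 1216, 1226, 1209, 1259, 924, 1543], 4,
  16⟩)) (.nd (.lf ⟨[0, 0, 1, 1, 1, 0, 0, -1], [708, 709, 704, 707, 699, 731, 625, 1487], 4, 13⟩) (.lf ⟨[0, 0,
  0, 0, 1, 1, 2, 1], [1731, 1731, 1731, 1734, 1723, 1761, 1498, 1731], 4, 12⟩))) (.nd (.nd (.lf ⟨[-1, -3, -2,
  -4, -3, -2, -1, -1], [451, 454, 448, 451, 451, 451, 339, 766], 6, 17⟩) (.lf ⟨[1, 2, 2, 3, 2, 2, 2, 0],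
  [1475, 1474, 1475, 1475, 1484, 1475, 1233, 2038], 3, 13⟩)) (.nd (.lf ⟨[-2, -2, -3, -3, -2, -1, 0, 0], [964,
  965, 967, 960, 963, 963, 833, 963], 7, 5⟩) (.lf ⟨[2, 3, 4, 6, 4, 4, 3, 1], [1987, 1987, 1987, 1986, 2008,
  1976, 1931, 2086], 2, 10⟩)))))) (.nd (.nd (.nd (.nd (.nd (.nd (.lf ⟨[-3, -4, -5, -7, -6, -5, -3, -2], [36,
  37, 35, 33, 35, 46, 18, 134], 8, 11⟩) (.lf ⟨[2, 3, 3, 5, 4, 4, 3, 2], [2082, 2081, 2085, 2083, 2090, 2072,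
  2083, 1984], 2, 11⟩)) (.lf ⟨[0, -1, 0, 0, -1, 0, 0, 0], [1059, 1062, 1059, 1050, 1097, 1009, 1059, 1059],
  4, 16⟩)) (.nd (.lf ⟨[-1, -2, -2, -2, -1, -1, -1, -1], [547, 550, 551, 545, 530, 547, 547, 862], 6, 13⟩)
  (.lf ⟨[0, -1, -1, -1, 0, 1, 1, 1], [1570, 1573, 1574, 1571, 1571, 1540, 1571, 1256], 4, 15⟩))) (.nd (.nd
  (.lf ⟨[-1, -3, -3, -4, -3, -3, -2, -1], [290, 293, 294, 286, 274, 336, 291, 291], 6, 20⟩) (.lf ⟨[0, 1, 1,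
  3, 2, 1, 1, 0], [1316, 1317, 1319, 1304, 1315, 1360, 1185, 1630], 4, 9⟩)) (.nd (.lf ⟨[-1, 0, -2, -2, -2,
  -2, -1, 0], [803, 800, 806, 803, 803, 848, 803, 488], 6, 13⟩) (.lf ⟨[2, 2, 3, 5, 3, 2, 2, 1], [1826, 1829,
  1830, 1816, 1839, 1872, 1715, 1827], 2, 16⟩)))) (.nd (.nd (.nd (.lf ⟨[-2, -2, -4, -6, -5, -4, -3, -1],
  [163, 160, 163, 167, 163, 163, 219, 64], 7, 17⟩) (.lf ⟨[0, 2, 1, 3, 2, 1, 0, 0], [1188, 1185, 1191, 1179,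
  1187, 1187, 1317, 1187], 4, 9⟩)) (.nd (.lf ⟨[-1, -2, -2, -3, -3, -2, -2, 0], [675, 676, 675, 668, 684, 659,
  917, 119], 6, 15⟩) (.lf ⟨[0, 2, 2, 3, 3, 2, 1, 1], [1700, 1697, 1695, 1706, 1681, 1699, 1811, 1384], 4,
  4⟩))) (.nd (.nd (.lf ⟨[-1, -2, -2, -4, -3, -3, -1, -1], [419, 419, 418, 426, 413, 505, 195, 729], 6, 17⟩)
  (.lf ⟨[2, 2, 4, 5, 4, 3, 1, 0], [1443, 1444, 1440, 1443, 1443, 1417, 1523, 1756], 2, 15⟩)) (.nd (.lf ⟨[-1,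
  0, 0, 0, 0, 0, -1, 0], [932, 931, 928, 931, 931, 894, 1227, 610], 6, 6⟩) (.lf ⟨[2, 3, 5, 7, 6, 4, 2, 1],
  [1956, 1957, 1953, 1955, 1948, 1955, 2011, 1955], 2, 8⟩))))) (.nd (.nd (.nd (.nd (.nd (.lf ⟨[-2, -3, -4,
  -6, -5, -4, -2, -2], [99, 99, 99, 99, 99, 100, 26, 593], 7, 18⟩) (.lf ⟨[3, 4, 6, 8, 7, 5, 4, 2], [2147,
  2147, 2146, 2148, 2144, 2152, 2130, 2147], 1, 6⟩)) (.lf ⟨[0, 0, -1, -1, 0, 1, 0, 0], [1122, 1121, 1125,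
  1129, 1123, 1018, 1258, 1123], 4, 16⟩)) (.nd (.lf ⟨[1, 0, 0, 0, 0, 0, -1, -1], [610, 611, 614, 611, 611,
  580, 690, 932], 3, 23⟩) (.lf ⟨[2, 1, 2, 3, 2, 1, 1, 1], [1634, 1637, 1639, 1628, 1635, 1680, 1635, 1320],
  2, 22⟩))) (.nd (.nd (.lf ⟨[-1, -1, -2, -2, -3, -2, -2, -1], [355, 355, 356, 342, 388, 310, 467, 355], 6,
  16⟩) (.lf ⟨[1, 1, 1, 3, 3, 2, 1, 0], [1378, 1381, 1386, 1376, 1361, 1379, 1379, 1694], 3, 13⟩)) (.nd (.lf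
  ⟨[0, -2, -1, -2, -1, -1, -1, 0], [866, 869, 867, 867, 850, 867, 997, 552], 4, 20⟩) (.lf ⟨[3, 2, 4, 5, 4, 3,
  2, 1], [1890, 1893, 1891, 1891, 1891, 1891, 1891, 1891], 1, 21⟩)))) (.nd (.nd (.nd (.lf ⟨[-1, -2, -3, -5,
  -5, -4, -2, -1], [226, 225, 227, 227, 234, 257, 171, 227], 6, 22⟩) (.lf ⟨[2, 2, 3, 4, 3, 2, 0, 0], [1250,
  1251, 1251, 1251, 1251, 1213, 1493, 1251], 2, 19⟩)) (.nd (.lf ⟨[1, 1, 2, 2, 1, 1, 0, -1], [739, 739, 738,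
  739, 749, 713, 739, 1512], 3, 15⟩) (.lf ⟨[0, 1, 0, 1, 1, 2, 2, 1], [1763, 1762, 1766, 1763, 1773, 1735,
  1649, 1763], 4, 9⟩))) (.nd (.nd (.lf ⟨[-1, -1, -1, -3, -2, -2, -1, -1], [484, 481, 476, 494, 465, 528, 371,
  798], 6, 14⟩) (.lf ⟨[1, 2, 2, 4, 3, 3, 2, 0], [1507, 1507, 1508, 1500, 1513, 1491, 1430, 2046], 3, 10⟩))
  (.nd (.lf ⟨[-1, 0, -2, -2, -1, -1, 0, 0], [995, 992, 998, 1002, 978, 1045, 865, 995], 6, 10⟩) (.lf ⟨[2, 3,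
  4, 6, 6, 5, 3, 1], [2019, 2019, 2019, 2020, 2018, 2008, 2019, 2118], 2, 8⟩))))))) (.nd (.nd (.nd (.nd (.nd
  (.nd (.nd (.lf ⟨[-2, -4, -5, -7, -6, -5, -4, -2], [18, 21, 22, 17, 19, 19, 36, 19], 7, 24⟩) (.lf ⟨[1, 2, 3,
  4, 4, 3, 3, 2], [2068, 2067, 2066, 2069, 2064, 2078, 2050, 1968], 3, 6⟩)) (.lf ⟨[-2, -1, -2, -2, -1, 0, 0,
  0], [1044, 1043, 1043, 1043, 1043, 993, 1043, 1043], 7, 0⟩)) (.nd (.lf ⟨[-2, -1, -2, -2, -2, -1, -1, -1],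
  [532, 531, 531, 524, 548, 486, 531, 846], 7, 4⟩) (.lf ⟨[0, 0, 1, 1, 0, 0, 1, 1], [1556, 1557, 1553, 1551,
  1562, 1586, 1478, 1236], 4, 12⟩))) (.nd (.nd (.lf ⟨[-2, -1, -3, -4, -4, -3, -2, -1], [276, 273, 275, 275,
  292, 275, 275, 275], 7, 12⟩) (.lf ⟨[1, 2, 2, 3, 1, 1, 1, 0], [1299, 1298, 1299, 1297, 1332, 1299, 1169,
  1614], 3, 14⟩)) (.nd (.lf ⟨[-1, -2, -2, -4, -2, -2, -1, 0], [787, 787, 786, 800, 754, 832, 787, 472], 6,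
  15⟩) (.lf ⟨[0, 2, 2, 3, 3, 2, 2, 1], [1812, 1809, 1807, 1818, 1793, 1856, 1699, 1811], 4, 3⟩)))) (.nd (.nd
  (.nd (.lf ⟨[-3, -3, -5, -7, -6, -4, -3, -1], [148, 145, 147, 147, 154, 136, 203, 48], 8, 8⟩) (.lf ⟨[0, 1,
  0, 1, 2, 1, 0, 0], [1171, 1170, 1174, 1176, 1140, 1171, 1301, 1171], 4, 12⟩)) (.nd (.lf ⟨[-1, -2, -2, -3,
  -3, -3, -2, 0], [659, 660, 659, 652, 659, 675, 735, 114], 6, 16⟩) (.lf ⟨[1, 1, 3, 3, 2, 2, 1, 1], [1684,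
  1685, 1676, 1683, 1701, 1638, 1795, 1368], 3, 12⟩))) (.nd (.nd (.lf ⟨[-2, -2, -4, -5, -4, -3, -1, -1],
  [403, 402, 406, 403, 403, 431, 185, 716], 7, 13⟩) (.lf ⟨[-1, 0, -1, -1, -1, -1, 0, 1], [1428, 1425, 1427,
  1427, 1427, 1451, 1427, 655], 6, 9⟩)) (.nd (.lf ⟨[0, -1, 0, -1, -1, 0, -1, 0], [915, 916, 912, 915, 924,
  825, 1209, 598], 4, 18⟩) (.lf ⟨[2, 3, 3, 6, 5, 4, 2, 1], [1938, 1939, 1944, 1935, 1939, 1909, 1995, 1939],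
  2, 11⟩))))) (.nd (.nd (.nd (.nd (.nd (.lf ⟨[-2, -3, -4, -6, -5, -3, -3, -2], [83, 83, 83, 83, 84, 42, 100,
  182], 7, 18⟩) (.lf ⟨[3, 4, 6, 9, 7, 5, 3, 2], [2131, 2132, 2131, 2130, 2131, 2131, 2148, 2032], 1, 6⟩))
  (.lf ⟨[1, 0, 2, 1, 1, 0, 0, 0], [1107, 1108, 1104, 1114, 1090, 1157, 1107, 1107], 3, 19⟩)) (.nd (.lf ⟨[0,
  -1, -1, -1, -1, 0, -1, -1], [594, 597, 598, 592, 602, 507, 670, 912], 4, 20⟩) (.lf ⟨[0, 1, 1, 1, 2, 1, 1,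
  1], [1620, 1617, 1616, 1630, 1588, 1664, 1619, 1304], 4, 9⟩))) (.nd (.nd (.lf ⟨[-1, -3, -2, -4, -3, -2, -2,
  -1], [339, 342, 336, 339, 339, 294, 451, 339], 6, 18⟩) (.lf ⟨[1, 2, 1, 3, 2, 2, 1, 0], [1362, 1361, 1370,
  1355, 1381, 1318, 1363, 1678], 3, 13⟩)) (.nd (.lf ⟨[-1, 0, -1, -2, -2, -1, -1, 0], [852, 849, 848, 856,
  868, 806, 981, 536], 6, 11⟩) (.lf ⟨[2, 2, 4, 5, 3, 3, 2, 1], [1875, 1876, 1872, 1870, 1906, 1830, 1875,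
  1875], 2, 14⟩)))) (.nd (.nd (.nd (.lf ⟨[-2, -3, -5, -7, -5, -4, -2, -1], [210, 209, 213, 215, 204, 241,
  155, 211], 7, 18⟩) (.lf ⟨[0, 1, 0, 1, 0, 0, 1, 0], [1235, 1234, 1238, 1229, 1244, 1270, 940, 1554], 4,
  13⟩)) (.nd (.lf ⟨[-1, -2, -3, -4, -4, -3, -1, 0], [722, 723, 724, 720, 727, 751, 645, 412], 6, 18⟩) (.lf
  ⟨[1, 2, 3, 4, 4, 3, 1, 1], [1748, 1747, 1746, 1752, 1741, 1721, 1968, 1436], 3, 8⟩))) (.nd (.nd (.lf ⟨[-1,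
  -1, -2, -2, -3, -2, -1, -1], [467, 467, 468, 454, 500, 467, 355, 782], 6, 15⟩) (.lf ⟨[1, 2, 2, 4, 3, 2, 2,
  0], [1491, 1491, 1492, 1484, 1491, 1507, 1249, 2041], 3, 11⟩)) (.nd (.lf ⟨[-1, -2, -1, -2, -2, -1, 0, 0],
  [980, 981, 975, 971, 996, 979, 849, 979], 6, 11⟩) (.lf ⟨[2, 4, 4, 7, 5, 4, 3, 1], [2003, 2002, 2006, 1999,
  2010, 2003, 1947, 2102], 2, 8⟩)))))) (.nd (.nd (.nd (.nd (.nd (.nd (.lf ⟨[-2, -3, -4, -7, -6, -4, -3, -2],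
  [51, 50, 49, 52, 58, 40, 51, 150], 7, 20⟩) (.lf ⟨[2, 3, 5, 6, 5, 4, 3, 2], [2100, 2099, 2094, 2103, 2099,
  2099, 2099, 2000], 2, 8⟩)) (.lf ⟨[0, -1, -1, 0, 0, 0, 0, 0], [1074, 1077, 1082, 1067, 1075, 1075, 1075,
  1075], 5, 7⟩)) (.nd (.lf ⟨[0, 0, -1, 0, -1, -1, -1, -1], [562, 563, 568, 554, 577, 563, 563, 878], 4, 19⟩)
  (.lf ⟨[1, 0, 1, 1, 0, 1, 1, 1], [1586, 1589, 1587, 1583, 1618, 1556, 1587, 1272], 3, 17⟩))) (.nd (.nd (.lf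
  ⟨[0, -2, -1, -3, -3, -3, -2, -1], [306, 309, 303, 307, 307, 352, 307, 307], 4, 27⟩) (.lf ⟨[1, 1, 2, 3, 3,
  1, 1, 0], [1331, 1332, 1331, 1331, 1298, 1423, 1203, 1646], 3, 14⟩)) (.nd (.lf ⟨[-1, -2, -3, -4, -3, -1,
  -1, 0], [818, 819, 820, 819, 831, 727, 947, 504], 6, 16⟩) (.lf ⟨[2, 3, 4, 5, 4, 2, 2, 1], [1843, 1842,
  1841, 1846, 1831, 1930, 1729, 1843], 2, 13⟩)))) (.nd (.nd (.nd (.lf ⟨[-2, -2, -3, -4, -4, -4, -3, -1],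
  [180, 179, 179, 177, 179, 190, 235, 80], 7, 13⟩) (.lf ⟨[1, 1, 2, 3, 3, 1, 0, 0], [1203, 1204, 1203, 1203,
  1168, 1241, 1331, 1203], 3, 15⟩)) (.nd (.lf ⟨[0, 1, 0, 0, 0, 0, 0, -1], [691, 688, 691, 698, 691, 691, 612,
  1471], 4, 15⟩) (.lf ⟨[2, 2, 3, 5, 3, 2, 1, 1], [1714, 1717, 1718, 1704, 1725, 1715, 1827, 1400], 2, 17⟩)))
  (.nd (.nd (.lf ⟨[-1, -2, -3, -5, -4, -2, -1, -1], [434, 433, 435, 438, 445, 407, 321, 748], 6, 19⟩) (.lf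
  ⟨[-1, 0, -1, -1, 0, 0, 0, 1], [1460, 1457, 1459, 1465, 1451, 1459, 1541, 680], 6, 7⟩)) (.nd (.lf ⟨[-1, -2,
  -3, -4, -3, -1, 0, 0], [946, 947, 949, 947, 961, 909, 819, 947], 6, 15⟩) (.lf ⟨[2, 2, 3, 5, 4, 3, 3, 1],
  [1970, 1973, 1974, 1969, 1971, 1982, 1753, 2070], 2, 14⟩))))) (.nd (.nd (.nd (.nd (.lf ⟨[-1, -1, -2, -3,
  -3, -3, -2, -2], [115, 114, 115, 115, 115, 120, 98, 660], 6, 16⟩) (.lf ⟨[0, 0, 0, 1, 0, 1, 0, 0], [1139,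
  1140, 1141, 1125, 1170, 1034, 1269, 1139], 4, 14⟩)) (.nd (.lf ⟨[0, 1, 1, 1, 1, 0, -1, -1], [628, 625, 623,
  629, 619, 627, 709, 953], 4, 13⟩) (.lf ⟨[1, 0, 1, 1, 1, 2, 1, 1], [1650, 1653, 1651, 1651, 1663, 1563,
  1765, 1336], 3, 16⟩))) (.nd (.nd (.lf ⟨[-1, -1, -1, -3, -2, -2, -2, -1], [372, 369, 364, 382, 353, 371,
  483, 371], 6, 15⟩) (.lf ⟨[2, 1, 3, 4, 3, 2, 1, 0], [1394, 1397, 1395, 1387, 1395, 1395, 1395, 1710], 2,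
  19⟩)) (.nd (.lf ⟨[0, 0, 1, 0, -1, -1, -1, 0], [884, 883, 878, 883, 897, 883, 1013, 568], 4, 17⟩) (.lf ⟨[2,
  3, 4, 5, 5, 3, 2, 1], [1907, 1906, 1905, 1916, 1876, 1937, 1907, 1907], 2, 12⟩)))) (.nd (.nd (.nd (.lf
  ⟨[-2, -3, -4, -7, -5, -3, -2, -1], [243, 242, 241, 252, 243, 213, 243, 243], 7, 16⟩) (.lf ⟨[0, 0, 1, 0, 0,
  1, 1, 0], [1268, 1267, 1262, 1271, 1281, 1230, 1135, 1582], 4, 13⟩)) (.nd (.lf ⟨[-2, -3, -4, -5, -3, -2,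
  -1, 0], [755, 756, 757, 755, 741, 755, 755, 440], 7, 11⟩) (.lf ⟨[0, 0, 1, 2, 2, 2, 2, 1], [1780, 1781,
  1779, 1774, 1779, 1779, 1667, 1779], 4, 7⟩))) (.nd (.nd (.lf ⟨[0, 0, 0, -1, -2, -2, -1, -1], [499, 498,
  497, 499, 511, 544, 387, 814], 4, 20⟩) (.lf ⟨[2, 2, 4, 5, 4, 3, 2, 0], [1523, 1524, 1520, 1523, 1523, 1523,
  1443, 2056], 2, 14⟩)) (.nd (.lf ⟨[1, 0, 0, 0, -1, -1, 0, 0], [1010, 1011, 1014, 1006, 1027, 1061, 881,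
  1011], 3, 23⟩) (.lf ⟨[1, 1, 1, 2, 2, 2, 2, 2], [2034, 2035, 2036, 2035, 2035, 2035, 2035, 1464], 3,
  15⟩)))))))) (.nd (.nd (.nd (.nd (.nd (.nd (.nd (.nd (.lf ⟨[-3, -4, -6, -9, -7, -5, -4, -2], [11, 10, 11,
  12, 11, 6, 28, 11], 8, 16⟩) (.lf ⟨[2, 3, 4, 6, 5, 3, 2, 2], [2059, 2059, 2059, 2059, 2058, 2060, 2076,
  1535], 2, 10⟩)) (.lf ⟨[0, 1, 0, 1, 0, -1, 0, 0], [1035, 1034, 1038, 1028, 1035, 1140, 900, 1035], 4, 14⟩))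
  (.nd (.lf ⟨[0, -2, -2, -3, -2, -1, -1, -1], [522, 525, 527, 523, 523, 478, 523, 838], 4, 24⟩) (.lf ⟨[0, -1,
  0, 0, 0, 0, 1, 1], [1547, 1550, 1547, 1543, 1547, 1578, 1468, 1226], 4, 14⟩))) (.nd (.nd (.lf ⟨[-1, -3, -4,
  -5, -4, -3, -2, -1], [266, 269, 270, 262, 267, 267, 267, 267], 6, 22⟩) (.lf ⟨[1, 0, 1, 2, 1, 1, 1, 0],
  [1290, 1293, 1294, 1282, 1308, 1291, 1161, 1606], 3, 17⟩)) (.nd (.lf ⟨[0, -2, -1, -3, -3, -2, -1, 0], [778,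
  781, 775, 779, 797, 779, 779, 464], 4, 24⟩) (.lf ⟨[1, 1, 1, 2, 3, 2, 2, 1], [1802, 1803, 1804, 1806, 1770,
  1848, 1691, 1803], 3, 12⟩)))) (.nd (.nd (.nd (.lf ⟨[-2, -3, -4, -7, -6, -5, -3, -1], [139, 138, 137, 140,
  139, 150, 139, 40], 7, 20⟩) (.lf ⟨[1, 2, 1, 2, 1, 1, 0, 0], [1162, 1161, 1167, 1163, 1180, 1113, 1293,
  1163], 3, 17⟩)) (.nd (.lf ⟨[-1, -2, -3, -4, -3, -3, -2, 0], [650, 651, 652, 651, 645, 667, 727, 112], 6,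
  18⟩) (.lf ⟨[0, 1, 1, 3, 2, 2, 1, 1], [1676, 1677, 1679, 1664, 1693, 1630, 1787, 1360], 4, 7⟩))) (.nd (.nd
  (.lf ⟨[0, 0, -1, -1, -1, -2, -2, -1], [394, 393, 397, 395, 385, 423, 509, 395], 4, 21⟩) (.lf ⟨[2, 3, 4, 6,
  4, 2, 1, 0], [1419, 1419, 1419, 1418, 1419, 1445, 1419, 1730], 2, 14⟩)) (.nd (.lf ⟨[0, -1, -1, -2, -1, 0,
  -1, 0], [906, 907, 907, 912, 907, 817, 1202, 592], 4, 20⟩) (.lf ⟨[2, 3, 4, 6, 4, 4, 2, 1], [1931, 1931,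
  1931, 1930, 1952, 1846, 1987, 1931], 2, 11⟩))))) (.nd (.nd (.nd (.nd (.nd (.lf ⟨[-2, -2, -4, -5, -4, -4,
  -3, -2], [75, 74, 78, 75, 68, 86, 75, 174], 7, 16⟩) (.lf ⟨[2, 4, 5, 7, 6, 5, 3, 2], [2124, 2121, 2120,
  2125, 2123, 2112, 2140, 2024], 2, 4⟩)) (.lf ⟨[1, 0, 0, 0, 1, 0, 0, 0], [1098, 1099, 1102, 1104, 1061, 1149,
  1099, 1099], 3, 21⟩)) (.nd (.lf ⟨[1, 0, 1, 1, 0, -1, -1, -1], [586, 589, 587, 583, 587, 618, 587, 902], 3,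
  22⟩) (.lf ⟨[2, 1, 2, 2, 1, 1, 1, 1], [1610, 1611, 1611, 1611, 1628, 1611, 1611, 1296], 2, 24⟩))) (.nd (.nd
  (.lf ⟨[-1, -3, -3, -5, -3, -2, -2, -1], [330, 333, 331, 336, 319, 286, 443, 331], 6, 20⟩) (.lf ⟨[1, 2, 1,
  2, 2, 2, 1, 0], [1354, 1353, 1359, 1363, 1355, 1310, 1355, 1670], 3, 14⟩)) (.nd (.lf ⟨[-1, -1, -1, -3, -2,
  -1, -1, 0], [844, 841, 836, 854, 843, 798, 973, 528], 6, 12⟩) (.lf ⟨[2, 1, 3, 4, 3, 3, 2, 1], [1866, 1869,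
  1867, 1859, 1884, 1822, 1867, 1867], 2, 16⟩)))) (.nd (.nd (.nd (.lf ⟨[-3, -3, -5, -7, -6, -4, -2, -1],
  [204, 201, 203, 203, 210, 203, 147, 203], 8, 7⟩) (.lf ⟨[-1, 0, 0, 0, 0, 0, 1, 0], [1228, 1227, 1223, 1227,
  1227, 1264, 931, 1548], 6, 5⟩)) (.nd (.lf ⟨[-2, -3, -4, -5, -4, -3, -1, 0], [715, 716, 717, 714, 715, 741,
  635, 402], 7, 13⟩) (.lf ⟨[1, 1, 1, 1, 1, 1, 2, 1], [1738, 1737, 1739, 1744, 1739, 1767, 1506, 1739], 3,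
  15⟩))) (.nd (.nd (.lf ⟨[-2, -2, -2, -3, -3, -2, -1, -1], [460, 461, 455, 452, 477, 459, 347, 774], 7, 8⟩)
  (.lf ⟨[1, 1, 2, 3, 3, 2, 2, 0], [1483, 1484, 1483, 1483, 1474, 1499, 1241, 2039], 3, 13⟩)) (.nd (.lf ⟨[-1,
  -2, -1, -3, -2, -1, 0, 0], [972, 973, 964, 979, 971, 971, 841, 971], 6, 12⟩) (.lf ⟨[2, 3, 3, 6, 5, 4, 3,
  1], [1994, 1995, 2000, 1991, 1995, 1995, 1939, 2094], 2, 10⟩)))))) (.nd (.nd (.nd (.nd (.nd (.nd (.lf ⟨[-3,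
  -4, -6, -8, -6, -4, -3, -2], [43, 43, 44, 43, 43, 32, 43, 142], 8, 12⟩) (.lf ⟨[2, 2, 4, 5, 5, 4, 3, 2],
  [2091, 2092, 2088, 2095, 2084, 2091, 2091, 1992], 2, 10⟩)) (.lf ⟨[0, -1, -1, -2, 0, 0, 0, 0], [1066, 1067,
  1067, 1075, 1033, 1067, 1067, 1067], 5, 8⟩)) (.nd (.lf ⟨[0, -1, 0, -2, -1, -1, -1, -1], [555, 555, 549,
  564, 538, 555, 555, 870], 4, 20⟩) (.lf ⟨[-1, 0, 0, 0, 0, 1, 1, 1], [1580, 1579, 1576, 1579, 1593, 1548,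
  1579, 1264], 6, 3⟩))) (.nd (.nd (.lf ⟨[-1, -2, -3, -3, -3, -3, -2, -1], [298, 301, 306, 288, 299, 344, 299,
  299], 6, 19⟩) (.lf ⟨[1, 1, 3, 3, 2, 1, 1, 0], [1324, 1325, 1316, 1323, 1323, 1368, 1193, 1638], 3, 14⟩))
  (.nd (.lf ⟨[-1, 0, -1, -1, -2, -2, -1, 0], [812, 809, 811, 806, 823, 856, 811, 496], 6, 11⟩) (.lf ⟨[0, 1,
  1, 2, 2, 3, 2, 1], [1836, 1835, 1835, 1835, 1847, 1749, 1835, 1835], 4, 6⟩)))) (.nd (.nd (.nd (.lf ⟨[-1,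
  -2, -3, -5, -5, -4, -3, -1], [170, 169, 171, 171, 178, 171, 227, 72], 6, 23⟩) (.lf ⟨[1, 2, 3, 3, 2, 1, 0,
  0], [1196, 1193, 1188, 1198, 1195, 1195, 1325, 1195], 3, 14⟩)) (.nd (.lf ⟨[0, 0, 0, -1, 0, 0, 0, -1], [683,
  682, 681, 697, 674, 683, 606, 1462], 4, 16⟩) (.lf ⟨[2, 2, 2, 4, 3, 2, 1, 1], [1706, 1707, 1713, 1700, 1707,
  1707, 1819, 1392], 2, 18⟩))) (.nd (.nd (.lf ⟨[-1, -1, -2, -3, -3, -3, -1, -1], [427, 426, 427, 427, 427,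
  513, 197, 736], 6, 15⟩) (.lf ⟨[-1, 0, -1, -1, -1, 0, 0, 1], [1452, 1449, 1451, 1451, 1459, 1427, 1533,
  671], 6, 8⟩)) (.nd (.lf ⟨[0, 0, 0, 1, 0, 0, -1, 0], [939, 940, 941, 925, 948, 899, 1234, 615], 4, 15⟩) (.lf
  ⟨[1, 2, 2, 3, 3, 3, 3, 1], [1963, 1962, 1963, 1964, 1963, 1963, 1733, 2062], 3, 10⟩))))) (.nd (.nd (.nd
  (.nd (.nd (.lf ⟨[-1, -2, -3, -5, -4, -3, -2, -2], [106, 105, 107, 109, 107, 107, 90, 640], 6, 21⟩) (.lf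
  ⟨[3, 4, 6, 9, 8, 6, 4, 2], [2155, 2156, 2155, 2155, 2153, 2155, 2155, 2155], 1, 3⟩)) (.lf ⟨[0, -1, 0, 0, 0,
  1, 0, 0], [1131, 1134, 1131, 1124, 1147, 1025, 1263, 1131], 4, 15⟩)) (.nd (.lf ⟨[0, 1, 1, 1, 0, 0, -1, -1],
  [620, 617, 616, 619, 627, 588, 701, 943], 4, 14⟩) (.lf ⟨[1, 2, 3, 4, 2, 1, 1, 1], [1644, 1643, 1642, 1640,
  1655, 1688, 1643, 1328], 3, 11⟩))) (.nd (.nd (.lf ⟨[-2, -1, -3, -3, -2, -2, -2, -1], [364, 361, 367, 363,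
  345, 363, 475, 363], 7, 8⟩) (.lf ⟨[2, 1, 3, 3, 3, 2, 1, 0], [1386, 1389, 1383, 1395, 1369, 1387, 1387,
  1702], 2, 20⟩)) (.nd (.lf ⟨[-1, 0, 0, -1, -1, -1, -1, 0], [876, 873, 872, 880, 875, 875, 1005, 560], 6, 9⟩)
  (.lf ⟨[2, 4, 4, 6, 4, 3, 2, 1], [1899, 1896, 1899, 1899, 1913, 1899, 1899, 1899], 2, 12⟩)))) (.nd (.nd (.nd
  (.lf ⟨[-2, -2, -3, -4, -4, -4, -2, -1], [236, 235, 235, 233, 235, 325, 179, 235], 7, 12⟩) (.lf ⟨[0, -1, 0,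
  -1, 0, 1, 1, 0], [1259, 1260, 1256, 1263, 1259, 1219, 1124, 1574], 4, 15⟩)) (.nd (.lf ⟨[-2, -2, -3, -5, -4,
  -2, -1, 0], [748, 745, 742, 750, 759, 719, 747, 434], 7, 10⟩) (.lf ⟨[1, 1, 2, 2, 1, 2, 2, 1], [1771, 1771,
  1770, 1771, 1804, 1745, 1659, 1771], 3, 12⟩))) (.nd (.nd (.lf ⟨[-1, 0, -1, -2, -2, -2, -1, -1], [492, 489,
  488, 496, 491, 536, 379, 806], 6, 13⟩) (.lf ⟨[2, 2, 3, 4, 4, 3, 2, 0], [1514, 1515, 1515, 1520, 1509, 1515,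
  1437, 2051], 2, 16⟩)) (.nd (.lf ⟨[-1, -1, 0, -1, -1, -1, 0, 0], [1004, 1005, 1001, 1003, 1003, 1053, 873,
  1003], 6, 9⟩) (.lf ⟨[3, 4, 5, 8, 6, 5, 3, 1], [2026, 2027, 2028, 2025, 2030, 2016, 2027, 2126], 1,
  10⟩))))))) (.nd (.nd (.nd (.nd (.nd (.nd (.nd (.lf ⟨[-3, -5, -6, -9, -7, -5, -3, -2], [27, 28, 27, 27, 27,
  27, 10, 126], 8, 16⟩) (.lf ⟨[2, 3, 4, 6, 4, 3, 3, 2], [2075, 2075, 2075, 2074, 2076, 2086, 2058, 1976], 2,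
  10⟩)) (.lf ⟨[-1, -1, -2, -1, -1, 0, 0, 0], [1051, 1052, 1053, 1041, 1068, 1001, 1051, 1051], 6, 9⟩)) (.nd
  (.lf ⟨[-1, -1, -1, -1, -2, -1, -1, -1], [540, 541, 539, 528, 570, 494, 539, 854], 6, 12⟩) (.lf ⟨[1, 0, 1,
  1, 1, 0, 1, 1], [1562, 1565, 1563, 1563, 1556, 1651, 1488, 1246], 3, 17⟩))) (.nd (.nd (.lf ⟨[-2, -3, -4,
  -5, -3, -3, -2, -1], [283, 284, 285, 283, 252, 328, 283, 283], 7, 14⟩) (.lf ⟨[0, 0, 1, 2, 2, 1, 1, 0],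
  [1308, 1309, 1307, 1302, 1290, 1352, 1177, 1622], 4, 10⟩)) (.nd (.lf ⟨[0, -1, -2, -3, -2, -2, -1, 0], [794,
  793, 799, 802, 777, 840, 795, 480], 4, 23⟩) (.lf ⟨[2, 2, 2, 4, 3, 2, 2, 1], [1818, 1819, 1825, 1812, 1819,
  1864, 1707, 1819], 2, 17⟩)))) (.nd (.nd (.nd (.lf ⟨[-2, -3, -5, -7, -5, -4, -3, -1], [154, 153, 157, 159,
  148, 155, 211, 56], 7, 19⟩) (.lf ⟨[0, 2, 1, 2, 2, 1, 0, 0], [1180, 1177, 1179, 1187, 1162, 1179, 1309,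
  1179], 4, 10⟩)) (.nd (.lf ⟨[-1, -2, -3, -4, -3, -2, -2, 0], [666, 667, 668, 667, 667, 651, 909, 117], 6,
  17⟩) (.lf ⟨[1, 1, 1, 2, 3, 2, 1, 1], [1690, 1691, 1692, 1694, 1658, 1691, 1803, 1376], 3, 13⟩))) (.nd (.nd
  (.lf ⟨[-2, -2, -3, -4, -4, -3, -1, -1], [412, 411, 411, 406, 417, 437, 190, 722], 7, 11⟩) (.lf ⟨[1, 2, 2,
  4, 4, 3, 1, 0], [1435, 1435, 1436, 1435, 1430, 1405, 1513, 1746], 3, 10⟩)) (.nd (.lf ⟨[0, 0, -1, -1, 0, 0,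
  -1, 0], [922, 921, 925, 929, 914, 888, 1218, 604], 4, 17⟩) (.lf ⟨[2, 4, 4, 7, 5, 4, 2, 1], [1947, 1946,
  1950, 1943, 1954, 1917, 2003, 1947], 2, 9⟩))))) (.nd (.nd (.nd (.nd (.nd (.lf ⟨[-2, -2, -3, -4, -4, -3, -3,
  -2], [92, 91, 91, 89, 94, 80, 108, 190], 7, 13⟩) (.lf ⟨[3, 3, 5, 7, 6, 5, 4, 2], [2138, 2141, 2139, 2139,
  2139, 2139, 2122, 2139], 1, 10⟩)) (.lf ⟨[0, 1, 2, 2, 1, 0, 0, 0], [1116, 1115, 1109, 1115, 1115, 1165,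
  1115, 1115], 4, 12⟩)) (.nd (.lf ⟨[-1, 0, -1, -1, 0, 0, -1, -1], [604, 601, 603, 607, 596, 572, 680, 922],
  6, 9⟩) (.lf ⟨[0, 1, 2, 2, 2, 1, 1, 1], [1628, 1627, 1621, 1634, 1610, 1672, 1627, 1312], 4, 8⟩))) (.nd (.nd
  (.lf ⟨[-2, -2, -2, -3, -3, -2, -2, -1], [348, 349, 343, 340, 365, 302, 459, 347], 7, 9⟩) (.lf ⟨[2, 2, 3, 3,
  2, 2, 1, 0], [1370, 1369, 1367, 1374, 1389, 1326, 1371, 1686], 2, 20⟩)) (.nd (.lf ⟨[0, 0, 0, -1, -2, -1,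
  -1, 0], [859, 858, 857, 859, 890, 814, 989, 544], 4, 18⟩) (.lf ⟨[1, 1, 3, 4, 4, 3, 2, 1], [1884, 1885,
  1879, 1883, 1866, 1883, 1883, 1883], 3, 7⟩)))) (.nd (.nd (.nd (.lf ⟨[-2, -2, -4, -6, -5, -4, -2, -1], [219,
  216, 219, 223, 219, 249, 163, 219], 7, 16⟩) (.lf ⟨[0, 0, 0, 1, 1, 0, 1, 0], [1243, 1244, 1245, 1240, 1234,
  1333, 948, 1560], 4, 13⟩)) (.nd (.lf ⟨[0, 0, 1, 1, 1, 1, 0, -1], [732, 733, 728, 731, 731, 707, 731, 1503],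
  4, 12⟩) (.lf ⟨[2, 3, 3, 5, 4, 3, 1, 1], [1754, 1753, 1757, 1755, 1755, 1727, 1973, 1442], 2, 14⟩))) (.nd
  (.nd (.lf ⟨[-2, -1, -3, -3, -2, -2, -1, -1], [476, 473, 479, 475, 457, 520, 363, 790], 7, 7⟩) (.lf ⟨[1, 1,
  2, 3, 3, 3, 2, 0], [1499, 1500, 1499, 1499, 1499, 1483, 1423, 2044], 3, 12⟩)) (.nd (.lf ⟨[0, 0, -1, -1, -2,
  -1, 0, 0], [986, 985, 989, 982, 1018, 987, 857, 987], 4, 18⟩) (.lf ⟨[2, 3, 5, 7, 6, 4, 3, 1], [2012, 2013,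
  2009, 2011, 2004, 2022, 1955, 2110], 2, 7⟩)))))) (.nd (.nd (.nd (.nd (.nd (.nd (.lf ⟨[-3, -3, -5, -6, -5,
  -4, -3, -2], [60, 59, 62, 55, 59, 59, 59, 158], 8, 7⟩) (.lf ⟨[2, 3, 4, 6, 6, 4, 3, 2], [2107, 2107, 2107,
  2108, 2086, 2118, 2107, 2008], 2, 8⟩)) (.lf ⟨[1, -1, 1, 0, 0, 0, 0, 0], [1082, 1085, 1079, 1083, 1083,
  1083, 1083, 1083], 3, 21⟩)) (.nd (.lf ⟨[0, -1, -1, -1, 0, -1, -1, -1], [570, 573, 574, 571, 540, 602, 571,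
  886], 4, 20⟩) (.lf ⟨[0, 1, 0, 0, 1, 1, 1, 1], [1595, 1592, 1595, 1604, 1581, 1595, 1595, 1280], 4, 11⟩)))
  (.nd (.nd (.lf ⟨[-1, -1, -2, -3, -2, -3, -2, -1], [315, 314, 315, 322, 282, 401, 315, 315], 6, 17⟩) (.lf
  ⟨[1, 2, 2, 4, 3, 1, 1, 0], [1339, 1339, 1340, 1332, 1327, 1430, 1210, 1654], 3, 12⟩)) (.nd (.lf ⟨[-1, -2,
  -2, -3, -3, -1, -1, 0], [827, 828, 827, 820, 860, 735, 955, 512], 6, 14⟩) (.lf ⟨[1, 1, 1, 3, 3, 3, 2, 1],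
  [1850, 1853, 1858, 1848, 1851, 1806, 1851, 1851], 3, 10⟩)))) (.nd (.nd (.nd (.lf ⟨[-1, -3, -3, -5, -4, -3,
  -3, -1], [186, 189, 187, 187, 187, 176, 405, 88], 6, 22⟩) (.lf ⟨[0, 0, 0, -1, -1, 0, 1, 0], [1211, 1209,
  1208, 1214, 1220, 1211, 916, 1537], 4, 16⟩)) (.nd (.lf ⟨[0, 0, 1, 1, 0, 0, 0, -1], [700, 701, 697, 693,
  707, 699, 617, 1478], 4, 14⟩) (.lf ⟨[0, 0, 0, 0, 0, 1, 2, 1], [1723, 1723, 1723, 1723, 1731, 1723, 1497,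
  1723], 4, 13⟩))) (.nd (.nd (.lf ⟨[-1, -3, -3, -5, -3, -2, -1, -1], [442, 445, 443, 448, 433, 443, 331,
  758], 6, 19⟩) (.lf ⟨[1, 1, 2, 2, 2, 2, 2, 0], [1467, 1467, 1464, 1474, 1467, 1467, 1225, 2036], 3, 15⟩))
  (.nd (.lf ⟨[-1, -2, -2, -3, -3, -1, 0, 0], [955, 956, 955, 949, 990, 917, 827, 955], 6, 13⟩) (.lf ⟨[1, 2,
  3, 4, 4, 4, 3, 1], [1980, 1979, 1978, 1981, 1979, 1968, 1923, 2078], 3, 6⟩))))) (.nd (.nd (.nd (.nd (.lf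
  ⟨[-1, -1, -2, -2, -2, -2, -2, -2], [123, 123, 124, 122, 123, 123, 123, 692], 6, 13⟩) (.lf ⟨[0, -1, 0, 0, 1,
  1, 0, 0], [1147, 1150, 1147, 1147, 1131, 1097, 1277, 1147], 4, 14⟩)) (.nd (.lf ⟨[-2, -3, -4, -5, -4, -3,
  -2, 0], [635, 636, 637, 632, 635, 635, 715, 102], 7, 14⟩) (.lf ⟨[1, 1, 2, 2, 1, 2, 1, 1], [1659, 1659,
  1658, 1659, 1692, 1569, 1771, 1344], 3, 13⟩))) (.nd (.nd (.lf ⟨[-1, 0, -1, -2, -2, -2, -2, -1], [380, 377,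
  376, 384, 379, 379, 491, 379], 6, 14⟩) (.lf ⟨[2, 2, 4, 5, 3, 2, 1, 0], [1403, 1404, 1400, 1398, 1417, 1403,
  1403, 1718], 2, 17⟩)) (.nd (.lf ⟨[-1, 0, -1, 0, 0, -1, -1, 0], [892, 891, 894, 887, 877, 928, 1023, 576],
  6, 8⟩) (.lf ⟨[3, 3, 5, 6, 5, 3, 2, 1], [1914, 1915, 1912, 1919, 1901, 1945, 1915, 1915], 1, 17⟩)))) (.nd
  (.nd (.nd (.lf ⟨[-1, -3, -3, -6, -5, -3, -2, -1], [250, 251, 248, 255, 265, 221, 251, 251], 6, 23⟩) (.lf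
  ⟨[-1, 0, -1, 0, 1, 1, 1, 0], [1276, 1275, 1278, 1275, 1261, 1275, 1145, 1590], 6, 4⟩)) (.nd (.lf ⟨[-1, -3,
  -3, -4, -3, -2, -1, 0], [762, 765, 766, 758, 763, 763, 763, 448], 6, 17⟩) (.lf ⟨[0, 1, 1, 3, 2, 2, 2, 1],
  [1788, 1789, 1791, 1776, 1805, 1787, 1675, 1787], 4, 6⟩))) (.nd (.nd (.lf ⟨[0, -1, -1, -1, -1, -2, -1, -1],
  [506, 509, 510, 502, 495, 595, 393, 822], 4, 21⟩) (.lf ⟨[-1, -1, -1, -1, -1, 0, 1, 1], [1532, 1533, 1531,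
  1529, 1539, 1531, 1449, 1205], 6, 8⟩)) (.nd (.lf ⟨[0, -1, 0, -1, 0, -1, 0, 0], [1019, 1020, 1016, 1025,
  988, 1124, 889, 1019], 4, 17⟩) (.lf ⟨[2, 2, 3, 4, 3, 2, 2, 2], [2042, 2043, 2043, 2043, 2043, 2048, 2043,
  1493], 2, 17⟩))))))))) (.nd (.nd (.nd (.nd (.nd (.nd (.nd (.nd (.nd (.lf ⟨[-3, -4, -6, -8, -7, -6, -4, -2],
  [7, 7, 8, 6, 7, 12, 7, 7], 8, 16⟩) (.lf ⟨[2, 3, 3, 5, 4, 3, 2, 2], [2054, 2053, 2057, 2055, 2055, 2055,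
  2072, 1522], 2, 13⟩)) (.lf ⟨[1, 0, 1, 0, 0, -1, 0, 0], [1030, 1031, 1027, 1037, 1014, 1136, 898, 1031], 3,
  21⟩)) (.nd (.lf ⟨[-1, -2, -3, -3, -2, -1, -1, -1], [518, 521, 526, 516, 519, 474, 519, 834], 6, 15⟩) (.lf
  ⟨[0, -1, 0, -1, 0, 0, 1, 1], [1543, 1544, 1540, 1547, 1536, 1574, 1461, 1219], 4, 15⟩))) (.nd (.nd (.lf
  ⟨[-2, -2, -4, -6, -4, -3, -2, -1], [263, 260, 263, 272, 249, 263, 263, 263], 7, 14⟩) (.lf ⟨[1, 0, 2, 1, 1,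
  1, 1, 0], [1287, 1288, 1284, 1294, 1287, 1287, 1157, 1602], 3, 17⟩)) (.nd (.lf ⟨[0, -2, -2, -3, -3, -2, -1,
  0], [774, 777, 779, 768, 793, 775, 775, 460], 4, 25⟩) (.lf ⟨[1, 2, 2, 4, 2, 2, 2, 1], [1799, 1799, 1800,
  1786, 1832, 1799, 1687, 1799], 3, 10⟩)))) (.nd (.nd (.nd (.lf ⟨[-2, -4, -5, -7, -6, -5, -3, -1], [134, 137,
  138, 133, 135, 146, 135, 36], 7, 22⟩) (.lf ⟨[0, 1, 0, 2, 1, 1, 0, 0], [1159, 1159, 1165, 1150, 1176, 1109,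
  1289, 1159], 4, 12⟩)) (.nd (.lf ⟨[-1, -1, -2, -2, -1, -1, 0, -1], [647, 647, 648, 647, 641, 663, 414,
  1420], 6, 13⟩) (.lf ⟨[1, 0, 2, 2, 2, 2, 1, 1], [1671, 1674, 1668, 1671, 1671, 1626, 1783, 1356], 3, 13⟩)))
  (.nd (.nd (.lf ⟨[-2, -3, -4, -6, -5, -3, -1, -1], [391, 391, 391, 391, 399, 391, 182, 706], 7, 16⟩) (.lf
  ⟨[-1, -1, -1, -2, -2, -1, 0, 1], [1416, 1415, 1410, 1415, 1421, 1415, 1415, 642], 6, 12⟩)) (.nd (.lf ⟨[0,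
  1, 1, 1, 0, -1, -1, 0], [904, 901, 900, 903, 903, 943, 1038, 588], 4, 14⟩) (.lf ⟨[1, 3, 3, 5, 4, 4, 2, 1],
  [1928, 1925, 1927, 1927, 1934, 1840, 1983, 1927], 3, 5⟩))))) (.nd (.nd (.nd (.nd (.nd (.lf ⟨[-2, -2, -3,
  -5, -5, -4, -3, -2], [72, 69, 68, 71, 78, 71, 71, 170], 7, 16⟩) (.lf ⟨[2, 3, 4, 7, 6, 5, 3, 2], [2119,
  2120, 2121, 2118, 2119, 2108, 2136, 2020], 2, 6⟩)) (.lf ⟨[0, 0, -1, 0, 1, 0, 0, 0], [1094, 1095, 1101,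
  1095, 1058, 1146, 1095, 1095], 4, 15⟩)) (.nd (.lf ⟨[1, 0, 1, 0, 0, -1, -1, -1], [582, 583, 580, 587, 569,
  614, 583, 898], 3, 23⟩) (.lf ⟨[0, 2, 1, 2, 1, 1, 1, 1], [1608, 1605, 1607, 1607, 1624, 1607, 1607, 1292],
  4, 9⟩))) (.nd (.nd (.lf ⟨[-1, -2, -2, -4, -4, -2, -2, -1], [327, 327, 326, 327, 360, 237, 439, 327], 6,
  18⟩) (.lf ⟨[0, 1, 0, 2, 2, 2, 1, 0], [1351, 1351, 1357, 1346, 1351, 1306, 1351, 1666], 4, 9⟩)) (.nd (.lf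
  ⟨[-2, -1, -2, -3, -2, -1, -1, 0], [840, 837, 835, 846, 839, 794, 969, 524], 7, 4⟩) (.lf ⟨[0, 2, 2, 4, 3, 3,
  2, 1], [1864, 1863, 1863, 1856, 1880, 1818, 1863, 1863], 4, 1⟩)))) (.nd (.nd (.nd (.lf ⟨[-3, -4, -5, -8,
  -6, -4, -2, -1], [200, 199, 198, 201, 199, 199, 143, 199], 8, 9⟩) (.lf ⟨[-1, 0, -1, 0, 0, 0, 1, 0], [1224,
  1223, 1227, 1217, 1223, 1261, 928, 1545], 6, 6⟩)) (.nd (.lf ⟨[0, 1, 1, 2, 1, 0, 0, -1], [712, 711, 711,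
  709, 711, 737, 629, 1494], 4, 11⟩) (.lf ⟨[0, 1, 0, 1, 1, 1, 2, 1], [1735, 1734, 1738, 1735, 1735, 1763,
  1502, 1735], 4, 10⟩))) (.nd (.nd (.lf ⟨[-2, -2, -3, -3, -3, -2, -1, -1], [456, 457, 459, 444, 473, 455,
  343, 770], 7, 9⟩) (.lf ⟨[1, 0, 1, 1, 0, 0, 0, 1], [1478, 1481, 1479, 1473, 1488, 1479, 1556, 700], 3, 19⟩))
  (.nd (.lf ⟨[-2, -2, -2, -3, -2, -1, 0, 0], [968, 969, 963, 967, 967, 967, 837, 967], 7, 4⟩) (.lf ⟨[2, 3, 3,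
  5, 5, 4, 3, 1], [1990, 1989, 1993, 1995, 1984, 1991, 1935, 2090], 2, 11⟩)))))) (.nd (.nd (.nd (.nd (.nd
  (.nd (.lf ⟨[-2, -4, -4, -7, -6, -5, -3, -2], [39, 40, 36, 39, 39, 50, 22, 138], 7, 22⟩) (.lf ⟨[1, 2, 3, 5,
  5, 4, 3, 2], [2088, 2089, 2087, 2087, 2080, 2087, 2087, 1988], 3, 3⟩)) (.lf ⟨[-1, -1, -2, -2, 0, 0, 0, 0],
  [1063, 1063, 1066, 1068, 1029, 1063, 1063, 1063], 6, 9⟩)) (.nd (.lf ⟨[-1, -2, -1, -2, -1, -1, -1, -1],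
  [552, 553, 547, 551, 534, 551, 551, 866], 6, 12⟩) (.lf ⟨[0, 0, 0, -1, 0, 1, 1, 1], [1575, 1574, 1573, 1584,
  1575, 1544, 1575, 1260], 4, 13⟩))) (.nd (.nd (.lf ⟨[-2, -2, -2, -4, -3, -3, -2, -1], [296, 295, 289, 302,
  278, 340, 295, 295], 7, 11⟩) (.lf ⟨[0, 1, 2, 3, 2, 1, 1, 0], [1320, 1321, 1315, 1312, 1319, 1364, 1189,
  1634], 4, 8⟩)) (.nd (.lf ⟨[0, 0, -1, -2, -2, -2, -1, 0], [806, 805, 807, 812, 807, 852, 807, 492], 4, 21⟩)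
  (.lf ⟨[2, 3, 4, 5, 3, 2, 2, 1], [1831, 1830, 1829, 1831, 1843, 1876, 1719, 1831], 2, 14⟩)))) (.nd (.nd (.nd
  (.lf ⟨[-2, -2, -4, -5, -5, -4, -3, -1], [167, 166, 170, 163, 174, 167, 223, 68], 7, 16⟩) (.lf ⟨[0, 2, 2, 3,
  2, 1, 0, 0], [1192, 1189, 1187, 1191, 1191, 1191, 1321, 1191], 4, 8⟩)) (.nd (.lf ⟨[0, -1, -1, -1, 0, 0, 0,
  -1], [678, 681, 682, 679, 670, 679, 602, 1458], 4, 18⟩) (.lf ⟨[1, 2, 3, 3, 3, 2, 1, 1], [1704, 1701, 1696,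
  1714, 1685, 1703, 1815, 1388], 3, 10⟩))) (.nd (.nd (.lf ⟨[0, 0, -1, -1, -1, -1, -2, -1], [422, 421, 425,
  423, 423, 395, 656, 423], 4, 20⟩) (.lf ⟨[-1, -1, -1, -2, -1, 0, 0, 1], [1448, 1447, 1446, 1449, 1447, 1421,
  1529, 664], 6, 10⟩)) (.nd (.lf ⟨[0, 0, 1, 0, 0, 0, -1, 0], [936, 935, 929, 941, 935, 897, 1230, 613], 4,
  15⟩) (.lf ⟨[2, 4, 5, 8, 6, 4, 2, 1], [1960, 1959, 1959, 1957, 1959, 1959, 2015, 1959], 2, 6⟩))))) (.nd (.nd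
  (.nd (.nd (.nd (.lf ⟨[-2, -2, -4, -5, -4, -3, -2, -2], [103, 102, 106, 103, 103, 103, 86, 636], 7, 14⟩)
  (.lf ⟨[3, 4, 5, 8, 7, 6, 4, 2], [2150, 2151, 2152, 2151, 2151, 2146, 2151, 2151], 1, 6⟩)) (.lf ⟨[1, 1, 1,
  2, 2, 0, 0, 0], [1126, 1127, 1130, 1127, 1093, 1222, 1127, 1127], 3, 18⟩)) (.nd (.lf ⟨[0, 0, 0, 1, 0, 0,
  -1, -1], [615, 616, 617, 606, 622, 584, 697, 939], 4, 16⟩) (.lf ⟨[2, 1, 3, 3, 2, 1, 1, 1], [1638, 1641,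
  1635, 1639, 1639, 1684, 1639, 1324], 2, 21⟩))) (.nd (.nd (.lf ⟨[-1, -2, -3, -4, -2, -2, -2, -1], [358, 359,
  360, 362, 326, 359, 471, 359], 6, 18⟩) (.lf ⟨[2, 1, 2, 3, 3, 2, 1, 0], [1382, 1385, 1387, 1383, 1365, 1383,
  1383, 1698], 2, 21⟩)) (.nd (.lf ⟨[-1, -1, -2, -1, -1, -1, -1, 0], [871, 872, 873, 861, 871, 871, 1001,
  556], 6, 11⟩) (.lf ⟨[2, 3, 3, 6, 4, 3, 2, 1], [1894, 1895, 1900, 1886, 1909, 1895, 1895, 1895], 2, 13⟩))))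
  (.nd (.nd (.nd (.lf ⟨[-2, -3, -3, -5, -4, -4, -2, -1], [232, 233, 229, 231, 224, 318, 175, 231], 7, 14⟩)
  (.lf ⟨[-1, -1, -1, -1, 0, 1, 1, 0], [1256, 1257, 1255, 1255, 1255, 1215, 1120, 1570], 6, 7⟩)) (.nd (.lf
  ⟨[0, 1, 1, 2, 2, 1, 0, -1], [744, 743, 743, 743, 737, 743, 743, 1516], 4, 9⟩) (.lf ⟨[1, 1, 1, 1, 1, 2, 2,
  1], [1766, 1765, 1767, 1770, 1777, 1739, 1653, 1767], 3, 14⟩))) (.nd (.nd (.lf ⟨[0, -1, -2, -2, -2, -2, -1,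
  -1], [486, 487, 493, 480, 487, 532, 375, 802], 4, 23⟩) (.lf ⟨[1, 1, 1, 2, 1, 1, 0, 1], [1510, 1511, 1512,
  1506, 1517, 1495, 1744, 738], 3, 15⟩)) (.nd (.lf ⟨[0, 0, -1, -2, -1, -1, 0, 0], [998, 997, 999, 1008, 982,
  1049, 869, 999], 4, 18⟩) (.lf ⟨[3, 3, 5, 7, 6, 5, 3, 1], [2022, 2025, 2023, 2023, 2023, 2012, 2023, 2122],
  1, 12⟩))))))) (.nd (.nd (.nd (.nd (.nd (.nd (.nd (.lf ⟨[-2, -3, -4, -7, -6, -5, -4, -2], [23, 22, 21, 24,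
  23, 23, 40, 23], 7, 22⟩) (.lf ⟨[1, 3, 3, 5, 4, 3, 3, 2], [2072, 2069, 2071, 2071, 2071, 2082, 2054, 1972],
  3, 4⟩)) (.lf ⟨[0, -2, -1, -2, -1, 0, 0, 0], [1046, 1049, 1047, 1047, 1047, 997, 1047, 1047], 4, 18⟩)) (.nd
  (.lf ⟨[0, -2, -1, -2, -2, -1, -1, -1], [534, 537, 535, 527, 552, 490, 535, 850], 4, 22⟩) (.lf ⟨[0, 0, 0, 0,
  1, 0, 1, 1], [1559, 1559, 1559, 1560, 1538, 1645, 1482, 1240], 4, 13⟩))) (.nd (.nd (.lf ⟨[0, -2, -2, -4,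
  -4, -3, -2, -1], [278, 279, 279, 279, 296, 279, 279, 279], 4, 30⟩) (.lf ⟨[1, 0, 1, 1, 2, 1, 1, 0], [1302,
  1305, 1303, 1308, 1272, 1348, 1173, 1618], 3, 17⟩)) (.nd (.lf ⟨[-1, -1, -3, -3, -2, -2, -1, 0], [790, 789,
  798, 791, 773, 836, 791, 476], 6, 14⟩) (.lf ⟨[1, 2, 3, 3, 3, 2, 2, 1], [1816, 1813, 1808, 1826, 1797, 1860,
  1703, 1815], 3, 9⟩)))) (.nd (.nd (.nd (.lf ⟨[-2, -3, -4, -6, -6, -4, -3, -1], [151, 151, 151, 150, 172,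
  140, 207, 52], 7, 18⟩) (.lf ⟨[1, 1, 1, 1, 2, 1, 0, 0], [1174, 1173, 1175, 1186, 1144, 1175, 1305, 1175], 3,
  17⟩)) (.nd (.lf ⟨[-1, -1, -2, -2, -1, 0, 0, -1], [663, 663, 664, 663, 663, 647, 590, 1446], 6, 12⟩) (.lf
  ⟨[1, 2, 2, 4, 2, 2, 1, 1], [1687, 1687, 1688, 1674, 1720, 1642, 1799, 1372], 3, 11⟩))) (.nd (.nd (.lf ⟨[-1,
  -2, -3, -5, -4, -3, -1, -1], [406, 405, 407, 412, 407, 435, 189, 720], 6, 20⟩) (.lf ⟨[0, 0, 0, -1, -1, -1,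
  0, 1], [1431, 1429, 1428, 1434, 1431, 1455, 1431, 658], 4, 17⟩)) (.nd (.lf ⟨[0, 0, 0, 0, -1, 0, -1, 0],
  [919, 919, 919, 916, 945, 829, 1214, 600], 4, 16⟩) (.lf ⟨[2, 4, 4, 6, 5, 4, 2, 1], [1943, 1940, 1943, 1947,
  1943, 1913, 1999, 1943], 2, 10⟩))))) (.nd (.nd (.nd (.nd (.nd (.lf ⟨[-2, -3, -3, -5, -4, -3, -3, -2], [88,
  89, 85, 87, 87, 76, 104, 186], 7, 15⟩) (.lf ⟨[2, 3, 4, 6, 6, 5, 4, 2], [2135, 2135, 2135, 2136, 2134, 2135,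
  2118, 2135], 2, 6⟩)) (.lf ⟨[1, 0, 1, 2, 1, 0, 0, 0], [1110, 1113, 1114, 1102, 1111, 1161, 1111, 1111], 3,
  19⟩)) (.nd (.lf ⟨[0, 0, 0, -1, -1, 0, -1, -1], [599, 598, 597, 600, 606, 511, 674, 916], 4, 18⟩) (.lf ⟨[1,
  0, 1, 2, 2, 1, 1, 1], [1622, 1625, 1626, 1618, 1606, 1668, 1623, 1308], 3, 15⟩))) (.nd (.nd (.lf ⟨[-2, -2,
  -3, -3, -3, -2, -2, -1], [344, 345, 347, 332, 361, 298, 455, 343], 7, 10⟩) (.lf ⟨[2, 2, 2, 3, 2, 2, 1, 0],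
  [1366, 1365, 1371, 1367, 1385, 1322, 1367, 1682], 2, 21⟩)) (.nd (.lf ⟨[0, -1, -1, -1, -2, -1, -1, 0], [854,
  857, 858, 844, 886, 810, 985, 540], 4, 20⟩) (.lf ⟨[1, 1, 2, 4, 4, 3, 2, 1], [1879, 1882, 1883, 1877, 1862,
  1879, 1879, 1879], 3, 8⟩)))) (.nd (.nd (.nd (.lf ⟨[-2, -3, -5, -6, -5, -4, -2, -1], [214, 215, 220, 211,
  215, 245, 159, 215], 7, 17⟩) (.lf ⟨[1, 1, 1, 1, 0, 0, 1, 0], [1238, 1237, 1239, 1239, 1248, 1274, 944,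
  1558], 3, 18⟩)) (.nd (.lf ⟨[-1, -2, -3, -4, -3, -3, -1, 0], [726, 727, 729, 727, 723, 819, 651, 418], 6,
  17⟩) (.lf ⟨[1, 1, 2, 2, 2, 1, 2, 1], [1751, 1751, 1750, 1758, 1745, 1837, 1518, 1751], 3, 12⟩))) (.nd (.nd
  (.lf ⟨[-1, -2, -3, -4, -2, -2, -1, -1], [470, 471, 472, 474, 438, 516, 359, 786], 6, 17⟩) (.lf ⟨[1, 1, 1,
  2, 1, 0, 0, 1], [1494, 1495, 1496, 1490, 1495, 1511, 1568, 712], 3, 16⟩)) (.nd (.lf ⟨[0, -1, 0, -2, -2, -1,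
  0, 0], [983, 983, 977, 988, 1000, 983, 853, 983], 4, 19⟩) (.lf ⟨[3, 4, 5, 7, 5, 4, 3, 1], [2006, 2005,
  2007, 2007, 2014, 2007, 1951, 2106], 1, 13⟩)))))) (.nd (.nd (.nd (.nd (.nd (.nd (.lf ⟨[-3, -3, -5, -7, -5,
  -4, -3, -2], [56, 53, 55, 59, 48, 55, 55, 154], 8, 8⟩) (.lf ⟨[2, 3, 5, 7, 5, 4, 3, 2], [2104, 2105, 2101,
  2099, 2110, 2103, 2103, 2004], 2, 7⟩)) (.lf ⟨[1, -1, 0, 0, 0, 0, 0, 0], [1078, 1081, 1083, 1071, 1079,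
  1079, 1079, 1079], 3, 22⟩)) (.nd (.lf ⟨[0, 1, 0, 0, -1, -1, -1, -1], [567, 564, 567, 567, 581, 567, 567,
  882], 4, 18⟩) (.lf ⟨[0, 0, -1, 0, 1, 1, 1, 1], [1590, 1591, 1596, 1591, 1577, 1591, 1591, 1276], 4, 12⟩)))
  (.nd (.nd (.lf ⟨[-1, -1, -1, -2, -3, -3, -2, -1], [312, 311, 310, 308, 323, 356, 311, 311], 6, 16⟩) (.lf
  ⟨[0, 0, 1, 1, 1, 2, 1, 0], [1336, 1337, 1333, 1335, 1347, 1245, 1335, 1650], 4, 11⟩)) (.nd (.lf ⟨[-1, 0,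
  -1, -1, -1, -2, -1, 0], [824, 821, 823, 823, 811, 913, 823, 508], 6, 10⟩) (.lf ⟨[0, 1, 1, 2, 3, 3, 2, 1],
  [1848, 1847, 1847, 1850, 1835, 1802, 1847, 1847], 4, 5⟩)))) (.nd (.nd (.nd (.lf ⟨[-2, -3, -4, -6, -4, -3,
  -3, -1], [183, 183, 183, 184, 182, 172, 399, 84], 7, 16⟩) (.lf ⟨[-1, 0, -1, -1, -1, 0, 1, 0], [1208, 1205,
  1207, 1207, 1217, 1207, 913, 1533], 6, 8⟩)) (.nd (.lf ⟨[-1, -1, -1, -2, -2, -2, -2, 0], [696, 695, 692,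
  695, 695, 695, 937, 124], 6, 11⟩) (.lf ⟨[2, 3, 4, 5, 3, 2, 1, 1], [1719, 1718, 1717, 1719, 1729, 1719,
  1831, 1404], 2, 15⟩))) (.nd (.nd (.lf ⟨[-1, -2, -2, -4, -4, -2, -1, -1], [439, 439, 438, 439, 472, 413,
  327, 754], 6, 17⟩) (.lf ⟨[0, 1, 1, 2, 2, 2, 2, 0], [1464, 1463, 1463, 1463, 1463, 1463, 1221, 2034], 5,
  1⟩)) (.nd (.lf ⟨[0, 0, 1, 1, 1, 0, -1, 0], [952, 953, 948, 951, 941, 951, 1245, 625], 4, 13⟩) (.lf ⟨[2, 3,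
  4, 5, 4, 3, 3, 1], [1975, 1974, 1973, 1976, 1975, 1986, 1757, 2074], 2, 12⟩))))) (.nd (.nd (.nd (.nd (.lf
  ⟨[-1, -2, -2, -3, -3, -2, -2, -2], [119, 120, 119, 118, 121, 114, 119, 675], 6, 16⟩) (.lf ⟨[0, 1, 1, 1, 0,
  1, 0, 0], [1144, 1141, 1140, 1143, 1174, 1038, 1273, 1143], 4, 12⟩)) (.nd (.lf ⟨[1, 1, 2, 2, 1, 0, -1, -1],
  [631, 631, 630, 631, 631, 631, 713, 959], 3, 17⟩) (.lf ⟨[1, 2, 3, 4, 3, 1, 1, 1], [1656, 1655, 1654, 1655,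
  1643, 1741, 1655, 1340], 3, 10⟩))) (.nd (.nd (.lf ⟨[0, -1, -2, -2, -2, -2, -2, -1], [374, 375, 381, 368,
  375, 375, 487, 375], 4, 24⟩) (.lf ⟨[1, 2, 3, 5, 3, 2, 1, 0], [1400, 1401, 1399, 1388, 1411, 1399, 1399,
  1714], 3, 10⟩)) (.nd (.lf ⟨[-1, 0, -1, -1, 0, -1, -1, 0], [888, 885, 887, 891, 856, 922, 1017, 572], 6, 9⟩)
  (.lf ⟨[1, 3, 4, 6, 5, 3, 2, 1], [1912, 1911, 1908, 1911, 1897, 1941, 1911, 1911], 3, 3⟩)))) (.nd (.nd (.nd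
  (.lf ⟨[-3, -3, -4, -6, -5, -3, -2, -1], [248, 247, 244, 247, 261, 217, 247, 247], 8, 3⟩) (.lf ⟨[0, 0, 1, 1,
  0, 1, 1, 0], [1272, 1273, 1269, 1267, 1302, 1236, 1141, 1586], 4, 12⟩)) (.nd (.lf ⟨[-2, -2, -3, -5, -3, -2,
  -1, 0], [760, 757, 756, 770, 747, 759, 759, 444], 7, 9⟩) (.lf ⟨[1, 0, 2, 2, 2, 2, 2, 1], [1783, 1786, 1780,
  1783, 1783, 1783, 1671, 1783], 3, 12⟩))) (.nd (.nd (.lf ⟨[-2, -2, -3, -4, -3, -1, -1, -1], [504, 503, 503,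
  503, 515, 417, 503, 818], 7, 9⟩) (.lf ⟨[2, 3, 4, 6, 4, 3, 2, 0], [1527, 1527, 1527, 1524, 1535, 1527, 1445,
  2058], 2, 12⟩)) (.nd (.lf ⟨[-1, -1, -1, -1, 0, -1, 0, 0], [1016, 1017, 1015, 1015, 984, 1120, 885, 1015],
  6, 9⟩) (.lf ⟨[1, 1, 2, 3, 3, 2, 2, 2], [2039, 2040, 2039, 2039, 2037, 2044, 2039, 1483], 3, 12⟩))))))))
  (.nd (.nd (.nd (.nd (.nd (.nd (.nd (.nd (.lf ⟨[-3, -4, -6, -8, -6, -5, -4, -2], [15, 15, 16, 15, 12, 15,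
  32, 15], 8, 14⟩) (.lf ⟨[1, 2, 2, 4, 3, 3, 3, 2], [2063, 2063, 2064, 2062, 2066, 2063, 2046, 1964], 3, 8⟩))
  (.lf ⟨[1, 1, 1, 1, 0, -1, 0, 0], [1038, 1037, 1039, 1039, 1039, 1144, 904, 1039], 3, 19⟩)) (.nd (.lf ⟨[0,
  -2, -1, -3, -2, -1, -1, -1], [526, 529, 523, 535, 527, 482, 527, 842], 4, 23⟩) (.lf ⟨[0, 0, 1, 0, 0, 0, 1,
  1], [1552, 1551, 1546, 1555, 1551, 1582, 1472, 1230], 4, 13⟩))) (.nd (.nd (.lf ⟨[-1, -2, -2, -5, -4, -3,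
  -2, -1], [271, 270, 269, 281, 271, 271, 271, 271], 6, 20⟩) (.lf ⟨[0, 1, 2, 2, 1, 1, 1, 0], [1296, 1295,
  1289, 1295, 1312, 1295, 1165, 1610], 4, 10⟩)) (.nd (.lf ⟨[-1, -1, -1, -2, -3, -2, -1, 0], [784, 783, 782,
  780, 816, 783, 783, 468], 6, 13⟩) (.lf ⟨[0, 2, 1, 3, 3, 2, 2, 1], [1808, 1805, 1811, 1807, 1789, 1852,
  1695, 1807], 4, 4⟩)))) (.nd (.nd (.nd (.lf ⟨[-3, -4, -5, -8, -6, -4, -3, -1], [144, 143, 142, 145, 143,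
  132, 199, 44], 8, 10⟩) (.lf ⟨[1, 2, 2, 2, 1, 1, 0, 0], [1167, 1164, 1163, 1169, 1184, 1117, 1297, 1167], 3,
  16⟩)) (.nd (.lf ⟨[-1, 0, -1, -1, -1, -1, 0, -1], [656, 653, 655, 655, 655, 671, 422, 1427], 6, 10⟩) (.lf
  ⟨[0, 1, 2, 3, 2, 2, 1, 1], [1680, 1681, 1675, 1672, 1697, 1634, 1791, 1364], 4, 6⟩))) (.nd (.nd (.lf ⟨[-2,
  -3, -4, -6, -4, -3, -1, -1], [399, 399, 399, 402, 391, 429, 183, 714], 7, 15⟩) (.lf ⟨[1, 1, 2, 3, 3, 3, 1,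
  0], [1423, 1424, 1423, 1423, 1423, 1331, 1499, 1732], 3, 13⟩)) (.nd (.lf ⟨[-1, -1, -1, -1, -1, 0, -1, 0],
  [912, 913, 911, 906, 920, 821, 1205, 594], 6, 10⟩) (.lf ⟨[2, 3, 3, 5, 5, 4, 2, 1], [1934, 1933, 1937, 1939,
  1928, 1905, 1991, 1935], 2, 12⟩))))) (.nd (.nd (.nd (.nd (.nd (.lf ⟨[-1, -2, -3, -5, -4, -4, -3, -2], [78,
  77, 79, 81, 72, 90, 79, 178], 6, 23⟩) (.lf ⟨[3, 4, 6, 8, 6, 5, 3, 2], [2127, 2127, 2126, 2127, 2130, 2116,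
  2144, 2028], 1, 8⟩)) (.lf ⟨[-1, 0, 0, 1, 1, 0, 0, 0], [1104, 1105, 1103, 1098, 1086, 1153, 1103, 1103], 6,
  4⟩)) (.nd (.lf ⟨[-1, -1, -1, -2, -1, 0, -1, -1], [592, 591, 590, 594, 591, 501, 664, 906], 6, 12⟩) (.lf
  ⟨[0, 0, 0, 1, 2, 1, 1, 1], [1615, 1616, 1617, 1615, 1584, 1660, 1615, 1300], 4, 11⟩))) (.nd (.nd (.lf ⟨[-2,
  -3, -3, -4, -3, -2, -2, -1], [336, 337, 335, 330, 335, 290, 447, 335], 7, 11⟩) (.lf ⟨[1, 2, 2, 2, 2, 2, 1,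
  0], [1359, 1356, 1355, 1372, 1359, 1314, 1359, 1674], 3, 13⟩)) (.nd (.lf ⟨[0, -1, -2, -2, -2, -1, -1, 0],
  [846, 847, 853, 840, 864, 802, 977, 532], 4, 21⟩) (.lf ⟨[1, 2, 3, 5, 3, 3, 2, 1], [1872, 1873, 1871, 1860,
  1902, 1826, 1871, 1871], 3, 7⟩)))) (.nd (.nd (.nd (.lf ⟨[-2, -3, -4, -6, -6, -4, -2, -1], [207, 207, 207,
  206, 228, 207, 151, 207], 7, 17⟩) (.lf ⟨[1, 0, 1, 0, 0, 0, 1, 0], [1230, 1231, 1228, 1237, 1231, 1268, 936,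
  1552], 3, 20⟩)) (.nd (.lf ⟨[-2, -2, -3, -5, -4, -3, -1, 0], [720, 717, 716, 722, 719, 747, 639, 406], 7,
  11⟩) (.lf ⟨[0, 1, 1, 2, 1, 1, 2, 1], [1744, 1743, 1743, 1738, 1749, 1769, 1510, 1743], 4, 8⟩))) (.nd (.nd
  (.lf ⟨[-1, -2, -1, -3, -3, -2, -1, -1], [464, 465, 456, 463, 481, 463, 351, 778], 6, 16⟩) (.lf ⟨[0, 0, 1,
  1, 1, 0, 0, 1], [1488, 1489, 1485, 1487, 1478, 1503, 1562, 707], 4, 12⟩)) (.nd (.lf ⟨[-1, -2, -2, -2, -2,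
  -1, 0, 0], [975, 978, 979, 962, 992, 975, 845, 975], 6, 12⟩) (.lf ⟨[2, 4, 4, 6, 5, 4, 3, 1], [1999, 1996,
  1999, 2003, 1999, 1999, 1943, 2098], 2, 9⟩)))))) (.nd (.nd (.nd (.nd (.nd (.nd (.lf ⟨[-2, -4, -5, -7, -6,
  -4, -3, -2], [46, 49, 50, 45, 54, 36, 47, 146], 7, 22⟩) (.lf ⟨[2, 2, 4, 6, 5, 4, 3, 2], [2095, 2098, 2095,
  2091, 2095, 2095, 2095, 1996], 2, 9⟩)) (.lf ⟨[1, -1, 0, -1, 0, 0, 0, 0], [1070, 1073, 1071, 1079, 1054,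
  1071, 1071, 1071], 3, 23⟩)) (.nd (.lf ⟨[1, -1, 0, -1, -1, -1, -1, -1], [558, 561, 559, 559, 559, 559, 559,
  874], 3, 27⟩) (.lf ⟨[1, 0, 1, 0, 0, 1, 1, 1], [1582, 1583, 1580, 1587, 1597, 1552, 1583, 1268], 3, 18⟩)))
  (.nd (.nd (.lf ⟨[0, -2, -2, -3, -3, -3, -2, -1], [302, 305, 307, 296, 303, 348, 303, 303], 4, 28⟩) (.lf
  ⟨[1, 2, 2, 4, 2, 1, 1, 0], [1327, 1327, 1328, 1314, 1339, 1372, 1197, 1642], 3, 13⟩)) (.nd (.lf ⟨[-1, -1,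
  -2, -2, -1, -2, -1, 0], [815, 815, 816, 815, 782, 905, 815, 500], 6, 13⟩) (.lf ⟨[2, 2, 3, 5, 4, 2, 2, 1],
  [1838, 1841, 1842, 1834, 1827, 1926, 1725, 1839], 2, 15⟩)))) (.nd (.nd (.nd (.lf ⟨[-2, -3, -3, -5, -4, -4,
  -3, -1], [176, 177, 173, 175, 168, 186, 231, 76], 7, 15⟩) (.lf ⟨[2, 2, 3, 4, 2, 1, 0, 0], [1198, 1199,
  1199, 1196, 1213, 1199, 1329, 1199], 2, 21⟩)) (.nd (.lf ⟨[0, 0, -1, 0, 0, 0, 0, -1], [686, 687, 693, 681,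
  687, 687, 608, 1466], 4, 16⟩) (.lf ⟨[1, 3, 3, 4, 3, 2, 1, 1], [1712, 1709, 1708, 1716, 1711, 1711, 1823,
  1396], 3, 9⟩))) (.nd (.nd (.lf ⟨[-2, -2, -4, -5, -4, -2, -1, -1], [431, 430, 434, 431, 441, 403, 317, 742],
  7, 12⟩) (.lf ⟨[0, 0, 0, -1, -1, 0, 0, 1], [1455, 1454, 1452, 1456, 1462, 1431, 1537, 674], 4, 16⟩)) (.nd
  (.lf ⟨[0, 1, 1, 1, 0, 0, -1, 0], [944, 941, 940, 943, 953, 903, 1238, 619], 4, 13⟩) (.lf ⟨[1, 2, 2, 4, 4,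
  3, 3, 1], [1967, 1967, 1968, 1967, 1964, 1978, 1746, 2066], 3, 8⟩))))) (.nd (.nd (.nd (.nd (.nd (.lf ⟨[-2,
  -2, -3, -4, -3, -3, -2, -2], [112, 111, 111, 111, 108, 116, 94, 650], 7, 11⟩) (.lf ⟨[4, 5, 7, 10, 8, 6, 4,
  2], [2158, 2159, 2159, 2159, 2159, 2159, 2159, 2159], 0, 0⟩)) (.lf ⟨[0, 0, 1, 0, 0, 1, 0, 0], [1136, 1135,
  1129, 1141, 1151, 1030, 1267, 1135], 4, 14⟩)) (.nd (.lf ⟨[0, 1, 0, 1, 1, 0, -1, -1], [623, 622, 627, 623,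
  616, 623, 705, 950], 4, 14⟩) (.lf ⟨[1, 2, 2, 3, 3, 1, 1, 1], [1647, 1646, 1647, 1654, 1614, 1733, 1647,
  1332], 3, 12⟩))) (.nd (.nd (.lf ⟨[-2, -1, -2, -3, -2, -2, -2, -1], [368, 365, 363, 374, 349, 367, 479,
  367], 7, 7⟩) (.lf ⟨[0, 2, 2, 4, 3, 2, 1, 0], [1392, 1391, 1391, 1384, 1391, 1391, 1391, 1706], 4, 4⟩)) (.nd
  (.lf ⟨[0, -1, 0, 0, -1, -1, -1, 0], [879, 882, 879, 870, 893, 879, 1009, 564], 4, 18⟩) (.lf ⟨[2, 2, 3, 5,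
  5, 3, 2, 1], [1902, 1905, 1906, 1903, 1872, 1933, 1903, 1903], 2, 14⟩)))) (.nd (.nd (.nd (.lf ⟨[-2, -4, -5,
  -7, -5, -3, -2, -1], [238, 241, 242, 239, 239, 209, 239, 239], 7, 18⟩) (.lf ⟨[0, -1, 0, 0, 0, 1, 1, 0],
  [1263, 1266, 1263, 1259, 1277, 1226, 1131, 1578], 4, 14⟩)) (.nd (.lf ⟨[-1, -2, -3, -4, -4, -2, -1, 0],
  [750, 751, 754, 748, 786, 723, 751, 438], 6, 17⟩) (.lf ⟨[1, 0, 1, 1, 2, 2, 2, 1], [1774, 1777, 1775, 1780,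
  1765, 1775, 1663, 1775], 3, 14⟩))) (.nd (.nd (.lf ⟨[0, -1, -1, -1, -2, -2, -1, -1], [494, 497, 498, 484,
  507, 540, 383, 810], 4, 22⟩) (.lf ⟨[1, 2, 3, 5, 4, 3, 2, 0], [1520, 1521, 1519, 1514, 1519, 1519, 1439,
  2052], 3, 7⟩)) (.nd (.lf ⟨[-1, 0, -1, 0, -1, -1, 0, 0], [1008, 1007, 1010, 998, 1023, 1057, 877, 1007], 6,
  8⟩) (.lf ⟨[3, 4, 6, 8, 7, 5, 3, 1], [2031, 2031, 2030, 2032, 2028, 2031, 2031, 2130], 1, 8⟩))))))) (.nd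
  (.nd (.nd (.nd (.nd (.nd (.nd (.lf ⟨[-2, -4, -5, -8, -7, -5, -3, -2], [30, 31, 31, 31, 34, 31, 14, 130], 7,
  25⟩) (.lf ⟨[2, 2, 3, 4, 4, 4, 3, 2], [2078, 2079, 2079, 2081, 2079, 2068, 2079, 1980], 2, 13⟩)) (.lf ⟨[-1,
  0, 0, -1, -1, 0, 0, 0], [1056, 1053, 1052, 1060, 1072, 1005, 1055, 1055], 6, 7⟩)) (.nd (.lf ⟨[0, -1, 0, -1,
  -2, -1, -1, -1], [543, 544, 540, 538, 574, 498, 543, 858], 4, 20⟩) (.lf ⟨[0, 1, 1, 2, 1, 0, 1, 1], [1568,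
  1567, 1567, 1564, 1567, 1657, 1494, 1252], 4, 9⟩))) (.nd (.nd (.lf ⟨[-2, -2, -3, -5, -3, -3, -2, -1], [288,
  285, 284, 298, 256, 332, 287, 287], 7, 12⟩) (.lf ⟨[1, 0, 2, 2, 2, 1, 1, 0], [1311, 1314, 1308, 1311, 1294,
  1356, 1181, 1626], 3, 15⟩)) (.nd (.lf ⟨[0, -1, -1, -3, -2, -2, -1, 0], [798, 797, 795, 810, 781, 844, 799,
  484], 4, 22⟩) (.lf ⟨[1, 3, 3, 4, 3, 2, 2, 1], [1824, 1821, 1820, 1828, 1823, 1868, 1711, 1823], 3, 8⟩))))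
  (.nd (.nd (.nd (.lf ⟨[-2, -3, -5, -6, -5, -4, -3, -1], [158, 159, 164, 155, 159, 159, 215, 60], 7, 18⟩)
  (.lf ⟨[2, 1, 2, 2, 2, 1, 0, 0], [1182, 1183, 1183, 1190, 1166, 1183, 1313, 1183], 2, 25⟩)) (.nd (.lf ⟨[-1,
  0, -1, -1, -1, 0, 0, -1], [672, 669, 671, 671, 680, 655, 596, 1451], 6, 9⟩) (.lf ⟨[0, 2, 1, 3, 3, 2, 1, 1],
  [1696, 1693, 1699, 1695, 1677, 1695, 1807, 1380], 4, 5⟩))) (.nd (.nd (.lf ⟨[-1, -1, -1, -2, -1, -1, -2,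
  -1], [416, 415, 414, 420, 409, 389, 648, 415], 6, 13⟩) (.lf ⟨[1, 2, 3, 5, 4, 3, 1, 0], [1440, 1441, 1439,
  1436, 1439, 1411, 1519, 1752], 3, 8⟩)) (.nd (.lf ⟨[-1, -1, -2, -3, -2, -2, 0, 0], [927, 926, 927, 934, 918,
  1022, 685, 927], 6, 12⟩) (.lf ⟨[3, 4, 5, 7, 5, 4, 2, 1], [1950, 1949, 1951, 1951, 1958, 1921, 2007, 1951],
  1, 14⟩))))) (.nd (.nd (.nd (.nd (.nd (.lf ⟨[-1, -2, -3, -4, -3, -3, -3, -2], [94, 95, 96, 95, 92, 95, 112,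
  194], 6, 20⟩) (.lf ⟨[3, 4, 5, 8, 6, 5, 4, 2], [2142, 2143, 2144, 2141, 2146, 2143, 2126, 2143], 1, 8⟩))
  (.lf ⟨[1, 2, 2, 3, 1, 0, 0, 0], [1119, 1118, 1119, 1117, 1138, 1169, 1119, 1119], 3, 16⟩)) (.nd (.lf ⟨[-1,
  0, -1, 0, 0, 0, -1, -1], [608, 607, 610, 603, 607, 576, 686, 928], 6, 8⟩) (.lf ⟨[1, 1, 1, 3, 2, 1, 1, 1],
  [1630, 1633, 1638, 1620, 1631, 1676, 1631, 1316], 3, 14⟩))) (.nd (.nd (.lf ⟨[-1, -2, -1, -3, -3, -2, -2,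
  -1], [352, 353, 344, 351, 369, 306, 463, 351], 6, 17⟩) (.lf ⟨[0, 1, 1, 2, 3, 2, 1, 0], [1376, 1375, 1375,
  1378, 1342, 1375, 1375, 1690], 4, 8⟩)) (.nd (.lf ⟨[-2, -1, -2, -2, -1, -1, -1, 0], [864, 863, 863, 863,
  846, 863, 993, 548], 7, 2⟩) (.lf ⟨[2, 2, 4, 4, 4, 3, 2, 1], [1887, 1887, 1881, 1896, 1870, 1887, 1887,
  1887], 2, 14⟩)))) (.nd (.nd (.nd (.lf ⟨[-2, -2, -4, -5, -5, -4, -2, -1], [223, 222, 226, 219, 230, 253,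
  167, 223], 7, 15⟩) (.lf ⟨[0, 1, 1, 1, 1, 0, 1, 0], [1248, 1245, 1244, 1252, 1238, 1337, 953, 1564], 4,
  11⟩)) (.nd (.lf ⟨[-1, -2, -2, -3, -3, -3, -1, 0], [735, 736, 735, 729, 735, 827, 659, 426], 6, 15⟩) (.lf
  ⟨[1, 2, 2, 3, 2, 1, 2, 1], [1759, 1758, 1759, 1759, 1759, 1845, 1526, 1759], 3, 10⟩))) (.nd (.nd (.lf ⟨[-2,
  -1, -2, -3, -2, -2, -1, -1], [480, 477, 475, 486, 461, 524, 367, 794], 7, 6⟩) (.lf ⟨[0, 0, 1, 1, 1, 1, 0,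
  1], [1504, 1505, 1501, 1503, 1503, 1487, 1736, 731], 4, 11⟩)) (.nd (.lf ⟨[-1, -1, -2, -3, -1, -1, 0, 0],
  [991, 990, 991, 1001, 956, 1041, 861, 991], 6, 11⟩) (.lf ⟨[2, 4, 5, 8, 6, 4, 3, 1], [2016, 2015, 2015,
  2013, 2015, 2026, 1959, 2114], 2, 5⟩)))))) (.nd (.nd (.nd (.nd (.nd (.nd (.lf ⟨[-1, -3, -4, -6, -5, -4, -3,
  -2], [62, 63, 66, 63, 63, 63, 63, 162], 6, 27⟩) (.lf ⟨[3, 3, 5, 7, 6, 4, 3, 2], [2110, 2113, 2111, 2111,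
  2104, 2122, 2111, 2012], 1, 12⟩)) (.lf ⟨[1, 0, 0, 1, 0, 0, 0, 0], [1086, 1089, 1090, 1073, 1104, 1087,
  1087, 1087], 3, 21⟩)) (.nd (.lf ⟨[0, 0, 0, -1, 0, -1, -1, -1], [575, 574, 573, 584, 544, 606, 575, 890], 4,
  18⟩) (.lf ⟨[1, 0, 0, 1, 1, 1, 1, 1], [1598, 1601, 1602, 1594, 1599, 1599, 1599, 1284], 3, 17⟩))) (.nd (.nd
  (.lf ⟨[-1, -3, -3, -5, -4, -2, -2, -1], [318, 321, 319, 319, 331, 232, 433, 319], 6, 21⟩) (.lf ⟨[1, 1, 1,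
  2, 1, 2, 1, 0], [1342, 1343, 1344, 1338, 1376, 1253, 1343, 1658], 3, 15⟩)) (.nd (.lf ⟨[-1, -2, -3, -4, -2,
  -1, -1, 0], [830, 831, 832, 834, 819, 786, 961, 516], 6, 15⟩) (.lf ⟨[2, 1, 2, 3, 3, 3, 2, 1], [1854, 1857,
  1859, 1855, 1855, 1810, 1855, 1855], 2, 18⟩)))) (.nd (.nd (.nd (.lf ⟨[-1, -2, -3, -4, -4, -3, -3, -1],
  [190, 191, 192, 189, 194, 180, 412, 92], 6, 20⟩) (.lf ⟨[-1, -1, -1, -1, 0, 0, 1, 0], [1216, 1217, 1215,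
  1215, 1205, 1255, 920, 1539], 6, 8⟩)) (.nd (.lf ⟨[0, 0, 0, 0, 1, 0, 0, -1], [703, 703, 703, 704, 677, 725,
  621, 1482], 4, 15⟩) (.lf ⟨[2, 3, 3, 5, 4, 2, 1, 1], [1726, 1725, 1729, 1727, 1717, 1755, 1841, 1414], 2,
  15⟩))) (.nd (.nd (.lf ⟨[-2, -3, -3, -4, -3, -2, -1, -1], [448, 449, 447, 442, 447, 447, 335, 762], 7, 10⟩)
  (.lf ⟨[0, 1, 0, 0, 0, 0, 0, 1], [1471, 1468, 1471, 1477, 1471, 1471, 1550, 691], 4, 14⟩)) (.nd (.lf ⟨[1, 1,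
  2, 2, 1, 0, -1, 0], [959, 959, 958, 959, 959, 959, 1254, 631], 3, 16⟩) (.lf ⟨[1, 3, 3, 5, 4, 4, 3, 1],
  [1984, 1981, 1983, 1983, 1990, 1972, 1927, 2082], 3, 4⟩))))) (.nd (.nd (.nd (.nd (.lf ⟨[-3, -4, -6, -9, -7,
  -5, -3, -1], [127, 126, 127, 128, 127, 127, 127, 28], 8, 14⟩) (.lf ⟨[0, 0, 1, 0, 1, 1, 0, 0], [1152, 1151,
  1146, 1160, 1135, 1101, 1281, 1151], 4, 13⟩)) (.nd (.lf ⟨[-2, -2, -3, -5, -4, -3, -2, 0], [640, 637, 636,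
  644, 639, 639, 719, 106], 7, 12⟩) (.lf ⟨[1, 0, 1, 1, 2, 2, 1, 1], [1662, 1665, 1663, 1668, 1651, 1618,
  1775, 1348], 3, 15⟩))) (.nd (.nd (.lf ⟨[0, -1, -1, -1, -2, -2, -2, -1], [382, 385, 386, 372, 393, 383, 495,
  383], 4, 23⟩) (.lf ⟨[-1, -1, -2, -3, -2, -1, 0, 1], [1407, 1406, 1407, 1410, 1407, 1407, 1407, 634], 6,
  14⟩)) (.nd (.lf ⟨[1, 0, 0, 0, 0, -1, -1, 0], [894, 895, 898, 895, 881, 932, 1027, 580], 3, 23⟩) (.lf ⟨[3,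
  3, 5, 7, 5, 3, 2, 1], [1918, 1921, 1919, 1915, 1919, 1949, 1919, 1919], 1, 16⟩)))) (.nd (.nd (.nd (.lf
  ⟨[-1, -3, -3, -5, -5, -3, -2, -1], [254, 257, 255, 251, 286, 225, 255, 255], 6, 22⟩) (.lf ⟨[1, 0, 0, 0, 1,
  1, 1, 0], [1278, 1279, 1282, 1284, 1265, 1279, 1149, 1594], 3, 19⟩)) (.nd (.lf ⟨[-2, -2, -2, -4, -3, -2,
  -1, 0], [768, 767, 761, 774, 767, 767, 767, 452], 7, 8⟩) (.lf ⟨[0, 1, 2, 3, 2, 2, 2, 1], [1792, 1793, 1787,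
  1784, 1809, 1791, 1679, 1791], 4, 5⟩))) (.nd (.nd (.lf ⟨[0, 0, 0, -1, -1, -2, -1, -1], [511, 510, 509, 514,
  499, 599, 397, 826], 4, 19⟩) (.lf ⟨[2, 3, 4, 6, 5, 3, 2, 0], [1535, 1535, 1535, 1535, 1527, 1566, 1453,
  2059], 2, 11⟩)) (.nd (.lf ⟨[-1, 0, -1, 0, 0, -1, 0, 0], [1024, 1023, 1026, 1017, 1007, 1128, 891, 1023], 6,
  7⟩) (.lf ⟨[1, 2, 3, 4, 3, 3, 2, 2], [2048, 2047, 2046, 2047, 2050, 2042, 2064, 1508], 3, 8⟩)))))))))))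

/-- the rows of the Cartan matrix -/
def rows : List (List ℤ) := [[2, 0, -1, 0, 0, 0, 0, 0], [0, 2, 0, -1, 0, 0, 0, 0], [-1, 0, 2, -1, 0, 0, 0,
  0], [0, -1, -1, 2, -1, 0, 0, 0], [0, 0, 0, -1, 2, -1, 0, 0], [0, 0, 0, 0, -1, 2, -1, 0], [0, 0, 0, 0, 0,
  -1, 2, -1], [0, 0, 0, 0, 0, 0, -1, 2]]

theorem allB_of {f : ℕ → Bool} {k : ℕ} (h : ∀ b, b < k → f b = true) : allB f k = true := by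
  induction k with
  | zero => rfl
  | succ k ih =>
    have h1 : f k = true := h k (Nat.lt_succ_self k)
    have h2 : allB f k = true := ih fun b hb => h b (Nat.lt_succ_of_lt hb)
    simp only [allB, h1, h2, Bool.and_self]

theorem allB_split {f : ℕ → Bool} {a b : ℕ} (h1 : allB f a = true)
    (h2 : allB (fun i => f (a + i)) b = true) : allB f (a + b) = true := by
  refine allB_of fun i hi => ?_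
  rcases Nat.lt_or_ge i a with h | h
  · exact allB_iff h1 h
  · obtain ⟨j, rfl⟩ := Nat.exists_eq_add_of_le h
    exact allB_iff h2 (Nat.lt_of_add_lt_add_left hi)

theorem hc0 : allB (chkB T rows 8 2160 10 0 [2159, 2158, 2150, 2096, 1880, 2034, 1600, 1043, 268, 0] [1, 3, 9, 27, 81, 243, 729, 2187]) 540 = true := by decide +kernel

theorem hc1 : allB (fun i => chkB T rows 8 2160 10 0 [2159, 2158, 2150, 2096, 1880, 2034, 1600, 1043, 268, 0] [1, 3, 9, 27, 81, 243, 729, 2187] (540 + i)) 540 = true := by decide +kernel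

theorem hc2 : allB (fun i => chkB T rows 8 2160 10 0 [2159, 2158, 2150, 2096, 1880, 2034, 1600, 1043, 268, 0] [1, 3, 9, 27, 81, 243, 729, 2187] (1080 + i)) 540 = true := by decide +kernel

theorem hc3 : allB (fun i => chkB T rows 8 2160 10 0 [2159, 2158, 2150, 2096, 1880, 2034, 1600, 1043, 268, 0] [1, 3, 9, 27, 81, 243, 729, 2187] (1620 + i)) 540 = true := by decide +kernel

theorem hc : allB (chkB T rows 8 2160 10 0 [2159, 2158, 2150, 2096, 1880, 2034, 1600, 1043, 268, 0] [1, 3, 9, 27, 81, 243, 729, 2187]) 2160 = true :=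
  allB_split (a := 1620) (b := 540) (allB_split (a := 1080) (b := 540)
    (allB_split (a := 540) (b := 540) hc0 hc1) hc2) hc3

theorem tab : TabC 2160 10 cE8 0 T rows [2159, 2158, 2150, 2096, 1880, 2034, 1600, 1043, 268, 0] [1, 3, 9, 27, 81, 243, 729, 2187] 2159
    ![[], [0], [0, 2, 3, 1, 4, 3, 2, 0], [0, 2, 3, 1, 4, 3, 2, 5, 4, 3, 1, 6, 5, 4, 3, 2, 0], [0, 2, 3, 1, 4, 3, 2, 0, 5, 4, 3, 2, 6, 5, 4, 3, 1, 7, 6, 5, 4, 3, 2, 0], [0, 2, 3, 1, 4, 3, 2, 0, 5, 4, 3, 1, 2, 3, 4, 5, 6, 5, 4, 3, 1, 2, 0, 3, 2, 4, 3, 1, 5, 4, 3, 2, 0], [0, 2, 3, 1, 4, 3, 2, 0, 5, 4, 3, 1, 2, 3, 4, 6, 5, 4, 3, 1, 2, 0, 3, 2, 4, 3, 1, 7, 6, 5, 4, 3, 2, 0], [0, 2, 3, 1, 4, 3, 2, 0, 5, 4, 3, 1, 2, 3, 4, 5, 6, 5, 4, 3, 1, 2, 3, 4, 5, 7, 6, 5, 4, 3, 1, 2, 0, 3, 2, 4, 3, 1, 5, 4, 3, 2, 0],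 [0, 2, 3, 1, 4, 3, 2, 0, 5, 4, 3, 1, 2, 3, 4, 6, 5, 4, 3, 1, 2, 0, 3, 2, 4, 3, 1, 7, 6, 5, 4, 3, 1, 2, 0, 3, 2, 4, 3, 1, 5, 4, 3, 2, 6, 5, 4, 3, 1, 7, 6, 5, 4, 3, 2, 0], [0, 2, 3, 1, 4, 3, 2, 0, 5, 4, 3, 1, 2, 3, 4, 5, 6, 5, 4, 3, 1, 2, 0, 3, 2, 4, 3, 1, 5, 4, 3, 2, 0, 7, 6, 5, 4, 3, 1, 2, 0, 3, 2, 4, 3, 1, 5, 4, 3, 2, 0, 6, 5, 4, 3, 1, 2, 3, 4, 5, 7, 6, 5, 4, 3, 1, 2, 0, 3, 2, 4, 3, 1, 5, 4, 3, 2, 0]] where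
  hr1 := by decide +kernel
  hr2 := by decide +kernel
  hr3 := by decide +kernel
  hh := by decide +kernel
  hsy := by decide +kernel
  hc := hc
  hb0 := by decide +kernel
  hd1 := by decide +kernel
  hd2 := by decide +kernel
  hd3 := by decide +kernel
  hbs := by decide +kernel
  hwd := by decide +kernel

theorem ex1 : ∀ k : Fin 10, (T.get (nn [2159, 2158, 2150, 2096, 1880, 2034, 1600, 1043, 268, 0] k)).e = 0 := by decide +kernel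

/-- exponent, sign, level of the image -/
def dg : Fin 10 → List (ℕ × ℕ × Fin 10) := ![[(0, 1, 1)], [(21, 1, 3), (20, 1, 3), (19, 1, 3), (18, 1, 2),
  (18, 1, 3), (17, 1, 2), (16, 1, 2), (15, 1, 2), (17, 1, 3), (16, 1, 2), (15, 1, 2), (14, 1, 2), (14, 1, 2),
  (13, 1, 2), (12, 1, 2), (11, 0, 1), (16, 1, 3), (15, 1, 2), (14, 1, 2), (13, 1, 2), (13, 1, 2), (12, 1, 2),
  (11, 1, 2), (10, 0, 1), (12, 1, 2), (11, 1, 2), (10, 1, 2), (9, 0, 1), (9, 1, 2), (8, 0, 1), (7, 0, 1), (6,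
  0, 1), (15, 1, 3), (14, 1, 2), (13, 1, 2), (12, 1, 2), (12, 1, 2), (11, 1, 2), (10, 1, 2), (9, 0, 1), (11,
  1, 2), (10, 1, 2), (9, 1, 2), (8, 0, 1), (8, 1, 2), (7, 0, 1), (6, 0, 1), (5, 0, 1), (10, 1, 2), (9, 1, 2),
  (8, 1, 2), (7, 0, 1), (7, 1, 2), (6, 0, 1), (5, 0, 1), (4, 0, 1), (6, 1, 2), (5, 0, 1), (4, 0, 1), (3, 0,
  1), (3, 0, 1), (2, 0, 1), (1, 0, 1), (0, 2, 0)], [(27, 1, 4), (26, 1, 4), (25, 1, 4), (24, 1, 4), (23, 1,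
  4), (23, 1, 3), (22, 1, 3), (21, 1, 3), (20, 1, 3), (19, 1, 3), (25, 1, 4), (24, 1, 4), (23, 1, 4), (22, 1,
  4), (22, 1, 3), (21, 1, 3), (20, 1, 3), (19, 1, 3), (23, 1, 4), (22, 1, 4), (21, 1, 4), (21, 1, 3), (20, 1,
  3), (19, 1, 3), (21, 1, 4), (20, 1, 4), (20, 1, 3), (19, 1, 3), (19, 1, 4), (19, 1, 3), (18, 1, 3), (18, 0,
  2), (18, 1, 3), (17, 1, 3), (17, 0, 2), (16, 0, 2), (18, 1, 3), (17, 1, 3), (16, 1, 3), (16, 0, 2), (15, 0,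
  2), (14, 0, 2), (18, 1, 3), (17, 1, 3), (16, 1, 3), (15, 1, 3), (15, 0, 2), (14, 0, 2), (13, 0, 2), (12, 0,
  2), (18, 1, 3), (17, 1, 3), (16, 1, 3), (15, 1, 3), (14, 1, 3), (14, 0, 2), (13, 0, 2), (12, 0, 2), (11, 0,
  2), (10, 0, 2), (24, 1, 4), (23, 1, 4), (22, 1, 4), (21, 1, 4), (21, 1, 3), (20, 1, 3), (19, 1, 3), (18, 1,
  3), (22, 1, 4), (21, 1, 4), (20, 1, 4), (20, 1, 3), (19, 1, 3), (18, 1, 3), (20, 1, 4), (19, 1, 4), (19, 1,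
  3), (18, 1, 3), (18, 1, 4), (18, 1, 3), (17, 1, 3), (17, 0, 2), (17, 1, 3), (16, 1, 3), (16, 0, 2), (15, 0,
  2), (17, 1, 3), (16, 1, 3), (15, 1, 3), (15, 0, 2), (14, 0, 2), (13, 0, 2), (17, 1, 3), (16, 1, 3), (15, 1,
  3), (14, 1, 3), (14, 0, 2), (13, 0, 2), (12, 0, 2), (11, 0, 2), (21, 1, 4), (20, 1, 4), (19, 1, 4), (19, 1,
  3), (18, 1, 3), (17, 1, 3), (19, 1, 4), (18, 1, 4), (18, 1, 3), (17, 1, 3), (17, 1, 4), (17, 1, 3), (16, 1,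
  3), (16, 0, 2), (16, 1, 3), (15, 1, 3), (15, 0, 2), (14, 0, 2), (16, 1, 3), (15, 1, 3), (14, 1, 3), (14, 0,
  2), (13, 0, 2), (12, 0, 2), (18, 1, 4), (17, 1, 4), (17, 1, 3), (16, 1, 3), (16, 1, 4), (16, 1, 3), (15, 1,
  3), (15, 0, 2), (15, 1, 3), (14, 1, 3), (14, 0, 2), (13, 0, 2), (15, 1, 4), (15, 1, 3), (14, 1, 3), (14, 0,
  2), (13, 1, 3), (13, 0, 2), (12, 0, 2), (12, 2, 1), (14, 1, 3), (13, 1, 3), (13, 0, 2), (12, 0, 2), (12, 1,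
  3), (12, 0, 2), (11, 0, 2), (11, 2, 1), (11, 0, 2), (10, 0, 2), (10, 2, 1), (9, 2, 1), (15, 1, 3), (14, 1,
  3), (13, 1, 3), (13, 0, 2), (12, 0, 2), (11, 0, 2), (13, 1, 3), (12, 1, 3), (12, 0, 2), (11, 0, 2), (11, 1,
  3), (11, 0, 2), (10, 0, 2), (10, 2, 1), (10, 0, 2), (9, 0, 2), (9, 2, 1), (8, 2, 1), (10, 0, 2), (9, 0, 2),
  (8, 0, 2), (8, 2, 1), (7, 2, 1), (6, 2, 1), (16, 1, 3), (15, 1, 3), (14, 1, 3), (13, 1, 3), (13, 0, 2),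
  (12, 0, 2), (11, 0, 2), (10, 0, 2), (14, 1, 3), (13, 1, 3), (12, 1, 3), (12, 0, 2), (11, 0, 2), (10, 0, 2),
  (12, 1, 3), (11, 1, 3), (11, 0, 2), (10, 0, 2), (10, 1, 3), (10, 0, 2), (9, 0, 2), (9, 2, 1), (9, 0, 2),
  (8, 0, 2), (8, 2, 1), (7, 2, 1), (9, 0, 2), (8, 0, 2), (7, 0, 2), (7, 2, 1), (6, 2, 1), (5, 2, 1), (9, 0,
  2), (8, 0, 2), (7, 0, 2), (6, 0, 2), (6, 2, 1), (5, 2, 1), (4, 2, 1), (3, 2, 1), (17, 1, 3), (16, 1, 3),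
  (15, 1, 3), (14, 1, 3), (13, 1, 3), (13, 0, 2), (12, 0, 2), (11, 0, 2), (10, 0, 2), (9, 0, 2), (15, 1, 3),
  (14, 1, 3), (13, 1, 3), (12, 1, 3), (12, 0, 2), (11, 0, 2), (10, 0, 2), (9, 0, 2), (13, 1, 3), (12, 1, 3),
  (11, 1, 3), (11, 0, 2), (10, 0, 2), (9, 0, 2), (11, 1, 3), (10, 1, 3), (10, 0, 2), (9, 0, 2), (9, 1, 3),
  (9, 0, 2), (8, 0, 2), (8, 2, 1), (8, 0, 2), (7, 0, 2), (7, 2, 1), (6, 2, 1), (8, 0, 2), (7, 0, 2), (6, 0,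
  2), (6, 2, 1), (5, 2, 1), (4, 2, 1), (8, 0, 2), (7, 0, 2), (6, 0, 2), (5, 0, 2), (5, 2, 1), (4, 2, 1), (3,
  2, 1), (2, 2, 1), (8, 0, 2), (7, 0, 2), (6, 0, 2), (5, 0, 2), (4, 0, 2), (4, 2, 1), (3, 2, 1), (2, 2, 1),
  (1, 2, 1), (0, 2, 1)], [(27, 1, 6), (26, 1, 6), (25, 1, 6), (24, 1, 4), (24, 1, 6), (23, 1, 4), (22, 1, 4),
  (21, 1, 4), (23, 1, 6), (22, 1, 4), (21, 1, 4), (20, 1, 4), (20, 1, 4), (19, 1, 4), (18, 1, 4), (17, 0, 3),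
  (22, 1, 6), (21, 1, 4), (20, 1, 4), (19, 1, 4), (19, 1, 4), (18, 1, 4), (17, 1, 4), (16, 0, 3), (18, 1, 4),
  (17, 1, 4), (16, 1, 4), (15, 0, 3), (15, 1, 4), (14, 0, 3), (13, 0, 3), (12, 0, 3), (26, 1, 6), (25, 1, 6),
  (24, 1, 6), (23, 1, 4), (23, 1, 6), (22, 1, 4), (21, 1, 4), (20, 1, 4), (22, 1, 6), (21, 1, 4), (20, 1, 4),
  (19, 1, 4), (19, 1, 4), (18, 1, 4), (17, 1, 4), (16, 0, 3), (25, 1, 6), (24, 1, 6), (23, 1, 6), (22, 1, 4),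
  (22, 1, 6), (21, 1, 4), (20, 1, 4), (19, 1, 4), (24, 1, 6), (23, 1, 6), (22, 1, 6), (21, 1, 4), (23, 1, 6),
  (22, 1, 6), (22, 1, 6), (21, 1, 6), (21, 1, 5), (20, 1, 5), (21, 1, 6), (20, 1, 6), (20, 0, 3), (19, 0, 3),
  (19, 1, 5), (18, 0, 3), (21, 1, 6), (20, 1, 4), (20, 1, 6), (19, 1, 6), (19, 0, 3), (18, 0, 3), (19, 1, 4),
  (18, 1, 4), (18, 0, 3), (17, 0, 3), (17, 0, 3), (16, 0, 3), (18, 1, 5), (17, 0, 3), (21, 1, 6), (20, 1, 4),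
  (16, 0, 3), (15, 0, 3), (19, 1, 4), (18, 1, 4), (20, 1, 6), (19, 1, 4), (19, 1, 6), (18, 1, 6), (18, 0, 3),
  (17, 0, 3), (18, 1, 4), (17, 1, 4), (17, 0, 3), (16, 0, 3), (16, 0, 3), (15, 0, 3), (18, 1, 4), (17, 1, 4),
  (17, 1, 4), (16, 1, 4), (16, 0, 3), (15, 0, 3), (16, 1, 4), (15, 1, 4), (15, 2, 2), (14, 2, 2), (14, 0, 3),
  (13, 2, 2), (15, 0, 3), (14, 0, 3), (13, 0, 3), (12, 2, 2), (17, 1, 5), (16, 0, 3), (21, 1, 6), (20, 1, 4),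
  (15, 0, 3), (14, 0, 3), (19, 1, 4), (18, 1, 4), (14, 0, 3), (13, 0, 3), (18, 1, 4), (17, 1, 4), (12, 0, 3),
  (11, 2, 2), (16, 1, 4), (15, 0, 3), (20, 1, 6), (19, 1, 4), (18, 1, 4), (17, 1, 4), (19, 1, 6), (18, 1, 4),
  (18, 1, 6), (17, 1, 6), (17, 0, 3), (16, 0, 3), (17, 1, 4), (16, 1, 4), (16, 0, 3), (15, 0, 3), (15, 0, 3),
  (14, 0, 3), (17, 1, 4), (16, 1, 4), (16, 1, 4), (15, 1, 4), (15, 0, 3), (14, 0, 3), (15, 1, 4), (14, 1, 4),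
  (14, 2, 2), (13, 2, 2), (13, 0, 3), (12, 2, 2), (14, 0, 3), (13, 0, 3), (17, 1, 4), (16, 1, 4), (12, 0, 3),
  (11, 2, 2), (15, 1, 4), (14, 0, 3), (16, 1, 4), (15, 1, 4), (15, 1, 4), (14, 1, 4), (14, 0, 3), (13, 0, 3),
  (14, 1, 4), (13, 1, 4), (13, 2, 2), (12, 2, 2), (12, 0, 3), (11, 2, 2), (14, 1, 4), (13, 0, 3), (13, 1, 4),
  (12, 1, 4), (12, 2, 2), (11, 2, 2), (12, 0, 3), (11, 0, 3), (11, 2, 2), (10, 2, 2), (10, 2, 2), (9, 2, 2),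
  (11, 0, 3), (10, 2, 2), (9, 2, 2), (8, 2, 2), (13, 0, 3), (12, 0, 3), (11, 0, 3), (10, 2, 2), (10, 0, 3),
  (9, 2, 2), (8, 2, 2), (7, 2, 2), (16, 1, 5), (15, 0, 3), (21, 1, 6), (20, 1, 4), (14, 0, 3), (13, 0, 3),
  (19, 1, 4), (18, 1, 4), (13, 0, 3), (12, 0, 3), (18, 1, 4), (17, 1, 4), (11, 0, 3), (10, 2, 2), (16, 1, 4),
  (15, 0, 3), (12, 0, 3), (11, 0, 3), (17, 1, 4), (16, 1, 4), (10, 0, 3), (9, 2, 2), (15, 1, 4), (14, 0, 3),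
  (9, 0, 3), (8, 2, 2), (14, 1, 4), (13, 0, 3), (7, 2, 2), (6, 2, 2), (12, 0, 3), (11, 0, 3), (20, 1, 6),
  (19, 1, 4), (18, 1, 4), (17, 1, 4), (17, 1, 4), (16, 1, 4), (15, 1, 4), (14, 0, 3), (19, 1, 6), (18, 1, 4),
  (17, 1, 4), (16, 1, 4), (18, 1, 6), (17, 1, 4), (17, 1, 6), (16, 1, 6), (16, 0, 3), (15, 0, 3), (16, 1, 4),
  (15, 1, 4), (15, 0, 3), (14, 0, 3), (14, 0, 3), (13, 0, 3), (16, 1, 4), (15, 1, 4), (15, 1, 4), (14, 1, 4),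
  (14, 0, 3), (13, 0, 3), (14, 1, 4), (13, 1, 4), (13, 2, 2), (12, 2, 2), (12, 0, 3), (11, 2, 2), (13, 0, 3),
  (12, 0, 3), (16, 1, 4), (15, 1, 4), (11, 0, 3), (10, 2, 2), (14, 1, 4), (13, 0, 3), (15, 1, 4), (14, 1, 4),
  (14, 1, 4), (13, 1, 4), (13, 0, 3), (12, 0, 3), (13, 1, 4), (12, 1, 4), (12, 2, 2), (11, 2, 2), (11, 0, 3),
  (10, 2, 2), (13, 1, 4), (12, 0, 3), (12, 1, 4), (11, 1, 4), (11, 2, 2), (10, 2, 2), (11, 0, 3), (10, 0, 3),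
  (10, 2, 2), (9, 2, 2), (9, 2, 2), (8, 2, 2), (10, 0, 3), (9, 2, 2), (8, 2, 2), (7, 2, 2), (12, 0, 3), (11,
  0, 3), (16, 1, 4), (15, 1, 4), (10, 0, 3), (9, 2, 2), (14, 1, 4), (13, 0, 3), (9, 0, 3), (8, 2, 2), (13, 1,
  4), (12, 0, 3), (7, 2, 2), (6, 2, 2), (11, 0, 3), (10, 0, 3), (15, 1, 4), (14, 1, 4), (13, 1, 4), (12, 0,
  3), (14, 1, 4), (13, 1, 4), (13, 1, 4), (12, 1, 4), (12, 0, 3), (11, 0, 3), (12, 1, 4), (11, 1, 4), (11, 2,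
  2), (10, 2, 2), (10, 0, 3), (9, 2, 2), (12, 1, 4), (11, 0, 3), (11, 1, 4), (10, 1, 4), (10, 2, 2), (9, 2,
  2), (10, 0, 3), (9, 0, 3), (9, 2, 2), (8, 2, 2), (8, 2, 2), (7, 2, 2), (9, 0, 3), (8, 2, 2), (12, 1, 4),
  (11, 0, 3), (7, 2, 2), (6, 2, 2), (10, 0, 3), (9, 0, 3), (11, 1, 4), (10, 0, 3), (10, 1, 4), (9, 1, 4), (9,
  2, 2), (8, 2, 2), (9, 0, 3), (8, 0, 3), (8, 2, 2), (7, 2, 2), (7, 2, 2), (6, 2, 2), (9, 0, 3), (8, 0, 3),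
  (8, 0, 3), (7, 0, 3), (7, 2, 2), (6, 2, 2), (7, 0, 3), (6, 0, 3), (6, 2, 1), (5, 2, 1), (5, 2, 2), (4, 2,
  1), (6, 2, 2), (5, 2, 2), (4, 2, 2), (3, 2, 1), (8, 0, 3), (7, 2, 2), (6, 2, 2), (5, 2, 2), (5, 2, 2), (4,
  2, 2), (3, 2, 2), (2, 2, 1), (11, 0, 3), (10, 0, 3), (9, 0, 3), (8, 2, 2), (8, 0, 3), (7, 2, 2), (6, 2, 2),
  (5, 2, 2), (7, 0, 3), (6, 2, 2), (5, 2, 2), (4, 2, 2), (4, 2, 2), (3, 2, 2), (2, 2, 2), (1, 2, 1), (15, 1,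
  5), (14, 0, 3), (13, 0, 3), (12, 0, 3), (12, 0, 3), (11, 0, 3), (10, 0, 3), (9, 2, 2), (11, 0, 3), (10, 0,
  3), (9, 0, 3), (8, 2, 2), (8, 0, 3), (7, 2, 2), (6, 2, 2), (5, 2, 2), (10, 0, 3), (9, 0, 3), (8, 0, 3), (7,
  2, 2), (7, 0, 3), (6, 2, 2), (5, 2, 2), (4, 2, 2), (6, 0, 3), (5, 2, 2), (4, 2, 2), (3, 2, 2), (3, 2, 2),
  (2, 2, 2), (1, 2, 2), (0, 2, 1)], [(30, 1, 7), (29, 1, 7), (28, 1, 7), (27, 1, 7), (27, 1, 6), (26, 1, 6),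
  (25, 1, 6), (24, 1, 6), (28, 1, 7), (27, 1, 7), (26, 1, 7), (26, 1, 6), (25, 1, 6), (24, 1, 6), (26, 1, 7),
  (25, 1, 7), (25, 1, 6), (24, 1, 6), (24, 1, 7), (24, 1, 6), (23, 1, 6), (23, 0, 4), (23, 1, 6), (22, 1, 6),
  (22, 0, 4), (21, 0, 4), (23, 1, 6), (22, 1, 6), (21, 1, 6), (21, 0, 4), (20, 0, 4), (19, 0, 4), (23, 1, 6),
  (22, 1, 6), (21, 1, 6), (20, 1, 6), (20, 0, 4), (19, 0, 4), (18, 0, 4), (17, 0, 4), (27, 1, 7), (26, 1, 7),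
  (25, 1, 7), (25, 1, 6), (24, 1, 6), (23, 1, 6), (25, 1, 7), (24, 1, 7), (24, 1, 6), (23, 1, 6), (23, 1, 7),
  (23, 1, 6), (22, 1, 6), (22, 0, 4), (22, 1, 6), (21, 1, 6), (21, 0, 4), (20, 0, 4), (22, 1, 6), (21, 1, 6),
  (20, 1, 6), (20, 0, 4), (19, 0, 4), (18, 0, 4), (24, 1, 7), (23, 1, 7), (23, 1, 6), (22, 1, 6), (22, 1, 7),
  (22, 1, 6), (21, 1, 6), (21, 0, 4), (21, 1, 6), (20, 1, 6), (20, 0, 4), (19, 0, 4), (21, 1, 7), (21, 1, 6),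
  (20, 1, 6), (20, 0, 4), (19, 1, 6), (19, 0, 4), (18, 0, 4), (18, 2, 3), (20, 1, 6), (19, 1, 6), (19, 0, 4),
  (18, 0, 4), (18, 1, 6), (18, 0, 4), (17, 0, 4), (17, 2, 3), (17, 0, 4), (16, 0, 4), (16, 2, 3), (15, 2, 3),
  (21, 1, 6), (20, 1, 6), (19, 1, 6), (19, 0, 4), (18, 0, 4), (17, 0, 4), (19, 1, 6), (18, 1, 6), (18, 0, 4),
  (17, 0, 4), (17, 1, 6), (17, 0, 4), (16, 0, 4), (16, 2, 3), (16, 0, 4), (15, 0, 4), (15, 2, 3), (14, 2, 3),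
  (16, 0, 4), (15, 0, 4), (14, 0, 4), (14, 2, 3), (13, 2, 3), (12, 2, 3), (22, 1, 6), (21, 1, 6), (20, 1, 6),
  (19, 1, 6), (19, 0, 4), (18, 0, 4), (17, 0, 4), (16, 0, 4), (20, 1, 6), (19, 1, 6), (18, 1, 6), (18, 0, 4),
  (17, 0, 4), (16, 0, 4), (18, 1, 6), (17, 1, 6), (17, 0, 4), (16, 0, 4), (16, 1, 6), (16, 0, 4), (15, 0, 4),
  (15, 2, 3), (15, 0, 4), (14, 0, 4), (14, 2, 3), (13, 2, 3), (15, 0, 4), (14, 0, 4), (13, 0, 4), (13, 2, 3),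
  (12, 2, 3), (11, 2, 3), (15, 0, 4), (14, 0, 4), (13, 0, 4), (12, 0, 4), (12, 2, 3), (11, 2, 3), (10, 2, 3),
  (9, 2, 3), (26, 1, 7), (25, 1, 7), (24, 1, 7), (24, 1, 6), (23, 1, 6), (22, 1, 6), (24, 1, 7), (23, 1, 7),
  (23, 1, 6), (22, 1, 6), (22, 1, 7), (22, 1, 6), (21, 1, 6), (21, 0, 4), (21, 1, 6), (20, 1, 6), (20, 0, 4),
  (19, 0, 4), (21, 1, 6), (20, 1, 6), (19, 1, 6), (19, 0, 4), (18, 0, 4), (17, 0, 4), (23, 1, 7), (22, 1, 7),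
  (22, 1, 6), (21, 1, 6), (21, 1, 7), (21, 1, 6), (20, 1, 6), (20, 0, 4), (20, 1, 6), (19, 1, 6), (19, 0, 4),
  (18, 0, 4), (20, 1, 7), (20, 1, 6), (19, 1, 6), (19, 0, 4), (18, 1, 6), (18, 0, 4), (17, 0, 4), (17, 2, 3),
  (19, 1, 6), (18, 1, 6), (18, 0, 4), (17, 0, 4), (17, 1, 6), (17, 0, 4), (16, 0, 4), (16, 2, 3), (16, 0, 4),
  (15, 0, 4), (15, 2, 3), (14, 2, 3), (20, 1, 6), (19, 1, 6), (18, 1, 6), (18, 0, 4), (17, 0, 4), (16, 0, 4),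
  (18, 1, 6), (17, 1, 6), (17, 0, 4), (16, 0, 4), (16, 1, 6), (16, 0, 4), (15, 0, 4), (15, 2, 3), (15, 0, 4),
  (14, 0, 4), (14, 2, 3), (13, 2, 3), (15, 0, 4), (14, 0, 4), (13, 0, 4), (13, 2, 3), (12, 2, 3), (11, 2, 3),
  (22, 1, 7), (21, 1, 7), (21, 1, 6), (20, 1, 6), (20, 1, 7), (20, 1, 6), (19, 1, 6), (19, 0, 4), (19, 1, 6),
  (18, 1, 6), (18, 0, 4), (17, 0, 4), (19, 1, 7), (19, 1, 6), (18, 1, 6), (18, 0, 4), (17, 1, 6), (17, 0, 4),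
  (16, 0, 4), (16, 2, 3), (18, 1, 6), (17, 1, 6), (17, 0, 4), (16, 0, 4), (16, 1, 6), (16, 0, 4), (15, 0, 4),
  (15, 2, 3), (15, 0, 4), (14, 0, 4), (14, 2, 3), (13, 2, 3), (18, 1, 7), (18, 1, 6), (17, 1, 6), (17, 0, 4),
  (16, 1, 6), (16, 0, 4), (15, 0, 4), (15, 2, 3), (15, 1, 6), (15, 0, 4), (14, 0, 4), (14, 2, 3), (13, 0, 4),
  (13, 2, 3), (12, 2, 3), (12, 2, 2), (17, 1, 6), (16, 1, 6), (16, 0, 4), (15, 0, 4), (15, 1, 6), (15, 0, 4),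
  (14, 0, 4), (14, 2, 3), (14, 0, 4), (13, 0, 4), (13, 2, 3), (12, 2, 3), (14, 1, 6), (14, 0, 4), (13, 0, 4),
  (13, 2, 3), (12, 0, 4), (12, 2, 3), (11, 2, 3), (11, 2, 2), (13, 0, 4), (12, 0, 4), (12, 2, 3), (11, 2, 3),
  (11, 0, 4), (11, 2, 3), (10, 2, 3), (10, 2, 2), (10, 2, 3), (9, 2, 3), (9, 2, 2), (8, 2, 2), (19, 1, 6),
  (18, 1, 6), (17, 1, 6), (17, 0, 4), (16, 0, 4), (15, 0, 4), (17, 1, 6), (16, 1, 6), (16, 0, 4), (15, 0, 4),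
  (15, 1, 6), (15, 0, 4), (14, 0, 4), (14, 2, 3), (14, 0, 4), (13, 0, 4), (13, 2, 3), (12, 2, 3), (14, 0, 4),
  (13, 0, 4), (12, 0, 4), (12, 2, 3), (11, 2, 3), (10, 2, 3), (16, 1, 6), (15, 1, 6), (15, 0, 4), (14, 0, 4),
  (14, 1, 6), (14, 0, 4), (13, 0, 4), (13, 2, 3), (13, 0, 4), (12, 0, 4), (12, 2, 3), (11, 2, 3), (13, 1, 6),
  (13, 0, 4), (12, 0, 4), (12, 2, 3), (11, 0, 4), (11, 2, 3), (10, 2, 3), (10, 2, 2), (12, 0, 4), (11, 0, 4),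
  (11, 2, 3), (10, 2, 3), (10, 0, 4), (10, 2, 3), (9, 2, 3), (9, 2, 2), (9, 2, 3), (8, 2, 3), (8, 2, 2), (7,
  2, 2), (13, 0, 4), (12, 0, 4), (11, 0, 4), (11, 2, 3), (10, 2, 3), (9, 2, 3), (11, 0, 4), (10, 0, 4), (10,
  2, 3), (9, 2, 3), (9, 0, 4), (9, 2, 3), (8, 2, 3), (8, 2, 2), (8, 2, 3), (7, 2, 3), (7, 2, 2), (6, 2, 2),
  (8, 2, 3), (7, 2, 3), (6, 2, 3), (6, 2, 2), (5, 2, 2), (4, 2, 2), (21, 1, 6), (20, 1, 6), (19, 1, 6), (18,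
  1, 6), (18, 0, 4), (17, 0, 4), (16, 0, 4), (15, 0, 4), (19, 1, 6), (18, 1, 6), (17, 1, 6), (17, 0, 4), (16,
  0, 4), (15, 0, 4), (17, 1, 6), (16, 1, 6), (16, 0, 4), (15, 0, 4), (15, 1, 6), (15, 0, 4), (14, 0, 4), (14,
  2, 3), (14, 0, 4), (13, 0, 4), (13, 2, 3), (12, 2, 3), (14, 0, 4), (13, 0, 4), (12, 0, 4), (12, 2, 3), (11,
  2, 3), (10, 2, 3), (14, 0, 4), (13, 0, 4), (12, 0, 4), (11, 0, 4), (11, 2, 3), (10, 2, 3), (9, 2, 3), (8,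
  2, 3), (18, 1, 6), (17, 1, 6), (16, 1, 6), (16, 0, 4), (15, 0, 4), (14, 0, 4), (16, 1, 6), (15, 1, 6), (15,
  0, 4), (14, 0, 4), (14, 1, 6), (14, 0, 4), (13, 0, 4), (13, 2, 3), (13, 0, 4), (12, 0, 4), (12, 2, 3), (11,
  2, 3), (13, 0, 4), (12, 0, 4), (11, 0, 4), (11, 2, 3), (10, 2, 3), (9, 2, 3), (15, 1, 6), (14, 1, 6), (14,
  0, 4), (13, 0, 4), (13, 1, 6), (13, 0, 4), (12, 0, 4), (12, 2, 3), (12, 0, 4), (11, 0, 4), (11, 2, 3), (10,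
  2, 3), (12, 1, 6), (12, 0, 4), (11, 0, 4), (11, 2, 3), (10, 0, 4), (10, 2, 3), (9, 2, 3), (9, 2, 2), (11,
  0, 4), (10, 0, 4), (10, 2, 3), (9, 2, 3), (9, 0, 4), (9, 2, 3), (8, 2, 3), (8, 2, 2), (8, 2, 3), (7, 2, 3),
  (7, 2, 2), (6, 2, 2), (12, 0, 4), (11, 0, 4), (10, 0, 4), (10, 2, 3), (9, 2, 3), (8, 2, 3), (10, 0, 4), (9,
  0, 4), (9, 2, 3), (8, 2, 3), (8, 0, 4), (8, 2, 3), (7, 2, 3), (7, 2, 2), (7, 2, 3), (6, 2, 3), (6, 2, 2),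
  (5, 2, 2), (7, 2, 3), (6, 2, 3), (5, 2, 3), (5, 2, 2), (4, 2, 2), (3, 2, 2), (13, 0, 4), (12, 0, 4), (11,
  0, 4), (10, 0, 4), (10, 2, 3), (9, 2, 3), (8, 2, 3), (7, 2, 3), (11, 0, 4), (10, 0, 4), (9, 0, 4), (9, 2,
  3), (8, 2, 3), (7, 2, 3), (9, 0, 4), (8, 0, 4), (8, 2, 3), (7, 2, 3), (7, 0, 4), (7, 2, 3), (6, 2, 3), (6,
  2, 2), (6, 2, 3), (5, 2, 3), (5, 2, 2), (4, 2, 2), (6, 2, 3), (5, 2, 3), (4, 2, 3), (4, 2, 2), (3, 2, 2),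
  (2, 2, 2), (6, 2, 3), (5, 2, 3), (4, 2, 3), (3, 2, 3), (3, 2, 2), (2, 2, 2), (1, 2, 2), (0, 2, 2)], [(12,
  1, 6), (11, 1, 6), (10, 1, 6), (9, 1, 6), (8, 1, 6), (7, 1, 6), (6, 1, 6), (6, 2, 3), (5, 2, 3), (4, 2, 3),
  (3, 2, 3), (2, 2, 3), (1, 2, 3), (0, 2, 3)], [(27, 1, 8), (26, 1, 7), (25, 1, 7), (24, 1, 7), (24, 1, 7),
  (23, 1, 7), (22, 1, 7), (21, 0, 6), (23, 1, 7), (22, 1, 7), (21, 1, 7), (20, 0, 6), (20, 1, 7), (19, 0, 6),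
  (18, 0, 6), (17, 0, 6), (22, 1, 7), (21, 1, 7), (20, 1, 7), (19, 0, 6), (19, 1, 7), (18, 0, 6), (17, 0, 6),
  (16, 0, 6), (18, 1, 7), (17, 0, 6), (16, 0, 6), (15, 0, 6), (15, 0, 6), (14, 0, 6), (13, 0, 6), (12, 2, 5),
  (26, 1, 8), (25, 1, 7), (24, 1, 7), (23, 1, 7), (23, 1, 7), (22, 1, 7), (21, 1, 7), (20, 0, 6), (22, 1, 7),
  (21, 1, 7), (20, 1, 7), (19, 0, 6), (19, 1, 7), (18, 0, 6), (17, 0, 6), (16, 0, 6), (25, 1, 8), (24, 1, 7),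
  (23, 1, 7), (22, 1, 7), (22, 1, 7), (21, 1, 7), (20, 1, 7), (19, 0, 6), (24, 1, 8), (23, 1, 7), (22, 1, 7),
  (21, 1, 7), (23, 1, 8), (22, 1, 7), (22, 1, 8), (21, 1, 8), (21, 0, 6), (20, 0, 6), (21, 1, 7), (20, 1, 7),
  (20, 0, 6), (19, 0, 6), (19, 0, 6), (18, 0, 6), (21, 1, 7), (20, 1, 7), (20, 1, 7), (19, 1, 7), (19, 0, 6),
  (18, 0, 6), (19, 1, 7), (18, 1, 7), (18, 2, 4), (17, 2, 4), (17, 0, 6), (16, 2, 4), (18, 0, 6), (17, 0, 6),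
  (21, 1, 7), (20, 1, 7), (16, 0, 6), (15, 2, 4), (19, 1, 7), (18, 0, 6), (20, 1, 7), (19, 1, 7), (19, 1, 7),
  (18, 1, 7), (18, 0, 6), (17, 0, 6), (18, 1, 7), (17, 1, 7), (17, 2, 4), (16, 2, 4), (16, 0, 6), (15, 2, 4),
  (18, 1, 7), (17, 0, 6), (17, 1, 7), (16, 1, 7), (16, 2, 4), (15, 2, 4), (16, 0, 6), (15, 0, 6), (15, 2, 4),
  (14, 2, 4), (14, 2, 4), (13, 2, 4), (15, 0, 6), (14, 2, 4), (13, 2, 4), (12, 2, 4), (17, 0, 6), (16, 0, 6),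
  (21, 1, 7), (20, 1, 7), (15, 0, 6), (14, 2, 4), (19, 1, 7), (18, 0, 6), (14, 0, 6), (13, 2, 4), (18, 1, 7),
  (17, 0, 6), (12, 2, 4), (11, 2, 4), (16, 0, 6), (15, 0, 6), (20, 1, 7), (19, 1, 7), (18, 1, 7), (17, 0, 6),
  (19, 1, 7), (18, 1, 7), (18, 1, 7), (17, 1, 7), (17, 0, 6), (16, 0, 6), (17, 1, 7), (16, 1, 7), (16, 2, 4),
  (15, 2, 4), (15, 0, 6), (14, 2, 4), (17, 1, 7), (16, 0, 6), (16, 1, 7), (15, 1, 7), (15, 2, 4), (14, 2, 4),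
  (15, 0, 6), (14, 0, 6), (14, 2, 4), (13, 2, 4), (13, 2, 4), (12, 2, 4), (14, 0, 6), (13, 2, 4), (17, 1, 7),
  (16, 0, 6), (12, 2, 4), (11, 2, 4), (15, 0, 6), (14, 0, 6), (16, 1, 7), (15, 0, 6), (15, 1, 7), (14, 1, 7),
  (14, 2, 4), (13, 2, 4), (14, 0, 6), (13, 0, 6), (13, 2, 4), (12, 2, 4), (12, 2, 4), (11, 2, 4), (14, 0, 6),
  (13, 0, 6), (13, 0, 6), (12, 0, 6), (12, 2, 4), (11, 2, 4), (12, 0, 6), (11, 0, 6), (11, 2, 3), (10, 2, 3),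
  (10, 2, 4), (9, 2, 3), (11, 2, 4), (10, 2, 4), (9, 2, 4), (8, 2, 3), (13, 0, 6), (12, 2, 4), (11, 2, 4),
  (10, 2, 4), (10, 2, 4), (9, 2, 4), (8, 2, 4), (7, 2, 3), (16, 0, 6), (15, 0, 6), (21, 1, 7), (20, 1, 7),
  (14, 0, 6), (13, 2, 4), (19, 1, 7), (18, 0, 6), (13, 0, 6), (12, 2, 4), (18, 1, 7), (17, 0, 6), (11, 2, 4),
  (10, 2, 4), (16, 0, 6), (15, 0, 6), (12, 0, 6), (11, 2, 4), (17, 1, 7), (16, 0, 6), (10, 2, 4), (9, 2, 4),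
  (15, 0, 6), (14, 0, 6), (9, 2, 4), (8, 2, 4), (14, 0, 6), (13, 0, 6), (7, 2, 4), (6, 2, 3), (12, 0, 6),
  (11, 2, 5), (20, 1, 7), (19, 1, 7), (18, 1, 7), (17, 0, 6), (17, 1, 7), (16, 0, 6), (15, 0, 6), (14, 0, 6),
  (19, 1, 7), (18, 1, 7), (17, 1, 7), (16, 0, 6), (18, 1, 7), (17, 1, 7), (17, 1, 7), (16, 1, 7), (16, 0, 6),
  (15, 0, 6), (16, 1, 7), (15, 1, 7), (15, 2, 4), (14, 2, 4), (14, 0, 6), (13, 2, 4), (16, 1, 7), (15, 0, 6),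
  (15, 1, 7), (14, 1, 7), (14, 2, 4), (13, 2, 4), (14, 0, 6), (13, 0, 6), (13, 2, 4), (12, 2, 4), (12, 2, 4),
  (11, 2, 4), (13, 0, 6), (12, 2, 4), (16, 1, 7), (15, 0, 6), (11, 2, 4), (10, 2, 4), (14, 0, 6), (13, 0, 6),
  (15, 1, 7), (14, 0, 6), (14, 1, 7), (13, 1, 7), (13, 2, 4), (12, 2, 4), (13, 0, 6), (12, 0, 6), (12, 2, 4),
  (11, 2, 4), (11, 2, 4), (10, 2, 4), (13, 0, 6), (12, 0, 6), (12, 0, 6), (11, 0, 6), (11, 2, 4), (10, 2, 4),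
  (11, 0, 6), (10, 0, 6), (10, 2, 3), (9, 2, 3), (9, 2, 4), (8, 2, 3), (10, 2, 4), (9, 2, 4), (8, 2, 4), (7,
  2, 3), (12, 0, 6), (11, 2, 4), (16, 1, 7), (15, 0, 6), (10, 2, 4), (9, 2, 4), (14, 0, 6), (13, 0, 6), (9,
  2, 4), (8, 2, 4), (13, 0, 6), (12, 0, 6), (7, 2, 4), (6, 2, 3), (11, 0, 6), (10, 2, 5), (15, 1, 7), (14, 0,
  6), (13, 0, 6), (12, 0, 6), (14, 1, 7), (13, 0, 6), (13, 1, 7), (12, 1, 7), (12, 2, 4), (11, 2, 4), (12, 0,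
  6), (11, 0, 6), (11, 2, 4), (10, 2, 4), (10, 2, 4), (9, 2, 4), (12, 0, 6), (11, 0, 6), (11, 0, 6), (10, 0,
  6), (10, 2, 4), (9, 2, 4), (10, 0, 6), (9, 0, 6), (9, 2, 3), (8, 2, 3), (8, 2, 4), (7, 2, 3), (9, 2, 4),
  (8, 2, 4), (12, 0, 6), (11, 0, 6), (7, 2, 4), (6, 2, 3), (10, 0, 6), (9, 2, 5), (11, 0, 6), (10, 0, 6),
  (10, 0, 6), (9, 0, 6), (9, 2, 4), (8, 2, 4), (9, 0, 6), (8, 0, 6), (8, 2, 3), (7, 2, 3), (7, 2, 4), (6, 2,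
  3), (9, 0, 6), (8, 2, 5), (8, 0, 6), (7, 0, 6), (7, 2, 3), (6, 2, 3), (7, 2, 5), (6, 2, 5), (6, 2, 3), (5,
  2, 3), (5, 2, 3), (4, 2, 3), (6, 2, 4), (5, 2, 3), (4, 2, 3), (3, 2, 3), (8, 2, 4), (7, 2, 4), (6, 2, 4),
  (5, 2, 3), (5, 2, 4), (4, 2, 3), (3, 2, 3), (2, 2, 3), (11, 0, 6), (10, 2, 4), (9, 2, 4), (8, 2, 4), (8, 2,
  4), (7, 2, 4), (6, 2, 4), (5, 2, 3), (7, 2, 4), (6, 2, 4), (5, 2, 4), (4, 2, 3), (4, 2, 4), (3, 2, 3), (2,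
  2, 3), (1, 2, 3), (15, 0, 6), (14, 0, 6), (13, 0, 6), (12, 2, 4), (12, 0, 6), (11, 2, 4), (10, 2, 4), (9,
  2, 4), (11, 0, 6), (10, 2, 4), (9, 2, 4), (8, 2, 4), (8, 2, 4), (7, 2, 4), (6, 2, 4), (5, 2, 3), (10, 0,
  6), (9, 2, 4), (8, 2, 4), (7, 2, 4), (7, 2, 4), (6, 2, 4), (5, 2, 4), (4, 2, 3), (6, 2, 4), (5, 2, 4), (4,
  2, 4), (3, 2, 3), (3, 2, 4), (2, 2, 3), (1, 2, 3), (0, 2, 3)], [(27, 1, 8), (26, 1, 8), (25, 1, 8), (24, 1,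
  8), (23, 1, 8), (23, 0, 7), (22, 0, 7), (21, 0, 7), (20, 0, 7), (19, 0, 7), (25, 1, 8), (24, 1, 8), (23, 1,
  8), (22, 1, 8), (22, 0, 7), (21, 0, 7), (20, 0, 7), (19, 0, 7), (23, 1, 8), (22, 1, 8), (21, 1, 8), (21, 0,
  7), (20, 0, 7), (19, 0, 7), (21, 1, 8), (20, 1, 8), (20, 0, 7), (19, 0, 7), (19, 1, 8), (19, 0, 7), (18, 0,
  7), (18, 2, 6), (18, 0, 7), (17, 0, 7), (17, 2, 6), (16, 2, 6), (18, 0, 7), (17, 0, 7), (16, 0, 7), (16, 2,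
  6), (15, 2, 6), (14, 2, 6), (18, 0, 7), (17, 0, 7), (16, 0, 7), (15, 0, 7), (15, 2, 6), (14, 2, 6), (13, 2,
  6), (12, 2, 6), (18, 0, 7), (17, 0, 7), (16, 0, 7), (15, 0, 7), (14, 0, 7), (14, 2, 6), (13, 2, 6), (12, 2,
  6), (11, 2, 6), (10, 2, 6), (24, 1, 8), (23, 1, 8), (22, 1, 8), (21, 1, 8), (21, 0, 7), (20, 0, 7), (19, 0,
  7), (18, 0, 7), (22, 1, 8), (21, 1, 8), (20, 1, 8), (20, 0, 7), (19, 0, 7), (18, 0, 7), (20, 1, 8), (19, 1,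
  8), (19, 0, 7), (18, 0, 7), (18, 1, 8), (18, 0, 7), (17, 0, 7), (17, 2, 6), (17, 0, 7), (16, 0, 7), (16, 2,
  6), (15, 2, 6), (17, 0, 7), (16, 0, 7), (15, 0, 7), (15, 2, 6), (14, 2, 6), (13, 2, 6), (17, 0, 7), (16, 0,
  7), (15, 0, 7), (14, 0, 7), (14, 2, 6), (13, 2, 6), (12, 2, 6), (11, 2, 6), (21, 1, 8), (20, 1, 8), (19, 1,
  8), (19, 0, 7), (18, 0, 7), (17, 0, 7), (19, 1, 8), (18, 1, 8), (18, 0, 7), (17, 0, 7), (17, 1, 8), (17, 0,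
  7), (16, 0, 7), (16, 2, 6), (16, 0, 7), (15, 0, 7), (15, 2, 6), (14, 2, 6), (16, 0, 7), (15, 0, 7), (14, 0,
  7), (14, 2, 6), (13, 2, 6), (12, 2, 6), (18, 1, 8), (17, 1, 8), (17, 0, 7), (16, 0, 7), (16, 1, 8), (16, 0,
  7), (15, 0, 7), (15, 2, 6), (15, 0, 7), (14, 0, 7), (14, 2, 6), (13, 2, 6), (15, 1, 8), (15, 0, 7), (14, 0,
  7), (14, 2, 6), (13, 0, 7), (13, 2, 6), (12, 2, 6), (12, 2, 4), (14, 0, 7), (13, 0, 7), (13, 2, 6), (12, 2,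
  6), (12, 0, 7), (12, 2, 6), (11, 2, 6), (11, 2, 4), (11, 2, 6), (10, 2, 6), (10, 2, 4), (9, 2, 4), (15, 0,
  7), (14, 0, 7), (13, 0, 7), (13, 2, 6), (12, 2, 6), (11, 2, 6), (13, 0, 7), (12, 0, 7), (12, 2, 6), (11, 2,
  6), (11, 0, 7), (11, 2, 6), (10, 2, 6), (10, 2, 4), (10, 2, 6), (9, 2, 6), (9, 2, 4), (8, 2, 4), (10, 2,
  6), (9, 2, 6), (8, 2, 6), (8, 2, 4), (7, 2, 4), (6, 2, 4), (16, 0, 7), (15, 0, 7), (14, 0, 7), (13, 0, 7),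
  (13, 2, 6), (12, 2, 6), (11, 2, 6), (10, 2, 6), (14, 0, 7), (13, 0, 7), (12, 0, 7), (12, 2, 6), (11, 2, 6),
  (10, 2, 6), (12, 0, 7), (11, 0, 7), (11, 2, 6), (10, 2, 6), (10, 0, 7), (10, 2, 6), (9, 2, 6), (9, 2, 4),
  (9, 2, 6), (8, 2, 6), (8, 2, 4), (7, 2, 4), (9, 2, 6), (8, 2, 6), (7, 2, 6), (7, 2, 4), (6, 2, 4), (5, 2,
  4), (9, 2, 6), (8, 2, 6), (7, 2, 6), (6, 2, 6), (6, 2, 4), (5, 2, 4), (4, 2, 4), (3, 2, 4), (17, 0, 7),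
  (16, 0, 7), (15, 0, 7), (14, 0, 7), (13, 0, 7), (13, 2, 6), (12, 2, 6), (11, 2, 6), (10, 2, 6), (9, 2, 6),
  (15, 0, 7), (14, 0, 7), (13, 0, 7), (12, 0, 7), (12, 2, 6), (11, 2, 6), (10, 2, 6), (9, 2, 6), (13, 0, 7),
  (12, 0, 7), (11, 0, 7), (11, 2, 6), (10, 2, 6), (9, 2, 6), (11, 0, 7), (10, 0, 7), (10, 2, 6), (9, 2, 6),
  (9, 0, 7), (9, 2, 6), (8, 2, 6), (8, 2, 4), (8, 2, 6), (7, 2, 6), (7, 2, 4), (6, 2, 4), (8, 2, 6), (7, 2,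
  6), (6, 2, 6), (6, 2, 4), (5, 2, 4), (4, 2, 4), (8, 2, 6), (7, 2, 6), (6, 2, 6), (5, 2, 6), (5, 2, 4), (4,
  2, 4), (3, 2, 4), (2, 2, 4), (8, 2, 6), (7, 2, 6), (6, 2, 6), (5, 2, 6), (4, 2, 6), (4, 2, 4), (3, 2, 4),
  (2, 2, 4), (1, 2, 4), (0, 2, 4)], [(21, 1, 9), (20, 0, 8), (19, 0, 8), (18, 0, 8), (18, 0, 8), (17, 0, 8),
  (16, 0, 8), (15, 2, 7), (17, 0, 8), (16, 0, 8), (15, 0, 8), (14, 2, 7), (14, 0, 8), (13, 2, 7), (12, 2, 7),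
  (11, 2, 7), (16, 0, 8), (15, 0, 8), (14, 0, 8), (13, 2, 7), (13, 0, 8), (12, 2, 7), (11, 2, 7), (10, 2, 7),
  (12, 0, 8), (11, 2, 7), (10, 2, 7), (9, 2, 7), (9, 2, 7), (8, 2, 7), (7, 2, 7), (6, 2, 6), (15, 0, 8), (14,
  0, 8), (13, 0, 8), (12, 2, 7), (12, 0, 8), (11, 2, 7), (10, 2, 7), (9, 2, 7), (11, 0, 8), (10, 2, 7), (9,
  2, 7), (8, 2, 7), (8, 2, 7), (7, 2, 7), (6, 2, 7), (5, 2, 6), (10, 0, 8), (9, 2, 7), (8, 2, 7), (7, 2, 7),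
  (7, 2, 7), (6, 2, 7), (5, 2, 7), (4, 2, 6), (6, 2, 7), (5, 2, 7), (4, 2, 7), (3, 2, 6), (3, 2, 7), (2, 2,
  6), (1, 2, 6), (0, 2, 6)], [(0, 2, 8)]]

theorem hdg : ∀ k : Fin 10, eqE (gath T (nl rows ((0 : Fin 8) : ℕ)) ((0 : Fin 8) : ℕ) k 2160 []) (dg k) = true := by decide +kernel

theorem hne : ∀ k, dg k ≠ [] := by decide +kernel

/-- the eigenvalues -/
def NN : Fin 10 → List ℤ := ![[0, 1, 1, 1, 2, 2, 3, 4, 4, 4, 5, 5, 5, 5, 4, 4, 4, 3, 2, 2, 1, 1, 1], [-1, 0,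
  0, 0, 1, 1, 2, 3, 4, 4, 5, 5, 5, 5, 4, 3, 3, 2, 1, 1], [-1, 0, 0, -1, 0, 0, 1, 2, 3, 3, 4, 5, 4, 4, 3, 2,
  2, 1], [-1, 0, 0, -1, 0, -1, 0, 1, 2, 2, 3, 3, 3, 3, 2, 1, 1], [-1, 0, 0, -1, 0, -1, 0, 1, 0, 0, 1, 1, 1,
  1, 0, 1, 1], [-1, 0, 0, -1, 0, -1, -1, 0, 1, 1, 2, 3, 2, 2, 1], [-1, 0, 0, -1, 0, -1, -1, 0, 0, 0, 1, 1, 1,
  1], [-1, 0, 0, -1, 0, -1, -1, 0, 0, -1, 0, 1], [-1, 0, 0, -1, 0, -1, -1, 0, 0, -1, 0, -1], [-1, 0, 0, -1,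
  0, -1, -1, 0, -1, -1, 0, -1, 0, 0, -1]]

/-- the eigenvectors -/
def UU : Fin 10 → Fin 10 → List ℤ := ![![[1], [1], [1], [1], [1], [1], [1], [1], [1], [1]], ![[0, 0, 0, 0, 0,
  0, 0, 0, 0, 0, 0, 0, 0, 0, 0, 1, 1, 0, 0, 0, 0, 1, 1], [0, 0, 0, 0, 0, 0, 0, 0, 0, 0, 0, 0, 0, 0, -1, 0, 1,
  1, 1, 1], [0, 0, 0, 0, 0, 0, 0, 0, 0, 0, 0, -1, -1, 0, 0, 1, 2, 1], [0, 0, 0, 0, 0, 0, 0, 0, 0, -1, -1, -1,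
  0, 1, 1, 1, 1], [0, 0, 0, 0, 0, 0, 0, 0, -1, -2, -1, 0, 1, 2, 1], [0, 0, 0, 0, 0, 0, -1, -1, 0, 0, 0, 0, 0,
  0, 0, 1, 1], [0, 0, 0, 0, 0, 0, -1, -1, -1, -1, 0, 1, 1, 1], [0, 0, 0, 0, 0, -1, -2, -1, 0, 0, 1, 1], [0,
  0, 0, -1, -1, -1, -1, 0, 1], [-1, -1, 0, 0, 0, 0, -1, -1]], ![[0, 0, 0, 0, 0, 0, 0, 0, 0, 0, 0, 0, 0, 0, 0,
  0, 0, 0, 0, 0, 0, 0, 0, 0, 1, 1, 1, 1, 1, 2, 3, 2, 2, 2, 2, 3, 2, 1, 1, 1, 1, 1], [0, 0, 0, 0, 0, 0, 0, 0,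
  0, 0, 0, 0, 0, 0, 0, 0, 0, 0, 0, 0, 0, 0, 0, -1, 0, 0, 0, 0, 0, 1, 3, 2, 2, 2, 2, 2, 1], [0, 0, 0, 0, 0, 0,
  0, 0, 0, 0, 0, 0, 0, 0, 0, 0, 0, 0, 0, 1, 0, -1, -2, -3, -1, 0, 0, 0, 0, 1, 3, 3, 2, 1], [0, 0, 0, 0, 0, 0,
  0, 0, 0, 0, 0, 0, 0, 0, 0, 1, 1, 1, -1, -1, -2, -2, -2, -3, -1, 0, 0, 1, 1, 2, 2, 1], [0, 0, 0, 0, 0, 0, 0,
  0, 0, 0, 0, 0, 0, 1, 2, 2, 1, -1, -3, -2, -2, -2, -2, -3, -1, 1, 2, 2, 1], [0, 0, 0, 0, 0, 0, 0, 0, 0, 0,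
  1, 1, 1, 0, 0, 0, 0, 0, -2, -1, -2, -2, -1, -2, 0, 0, 0, 0, 0, 1, 1, 1], [0, 0, 0, 0, 0, 0, 0, 0, 0, 0, 1,
  2, 2, 1, 1, 0, 0, -1, -3, -2, -2, -2, -1, -1, 1, 1, 1], [0, 0, 0, 0, 0, 0, 0, 0, 1, 2, 3, 3, 1, 0, 0, 0, 0,
  -1, -3, -2, -1, 0, 1], [0, 0, 0, 0, 0, 1, 2, 2, 2, 2, 2, 3, 1, 0, 0, 0, 0, 0, -1], [1, 1, 1, 1, 1, 2, 3, 2,
  2, 2, 2, 3, 2, 1, 1, 1, 1, 1]], ![[0, 0, 0, 0, 0, 0, 0, 0, 0, 0, 0, 0, 0, 0, 0, 0, 0, 0, 0, 0, 0, 0, 0, 0,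
  0, 0, 0, 0, 0, 0, 1, 2, 2, 3, 5, 7, 9, 10, 11, 14, 16, 16, 16, 16, 16, 16, 14, 11, 10, 9, 7, 5, 3, 2, 2,
  1], [0, 0, 0, 0, 0, 0, 0, 0, 0, 0, 0, 0, 0, 0, 0, 0, 0, 0, 0, 0, 0, 0, 0, 0, 0, 0, 0, 0, 0, -1, -1, 0, -1,
  -2, -2, -1, 1, 2, 2, 5, 8, 9, 9, 9, 8, 7, 5, 3, 2, 1], [0, 0, 0, 0, 0, 0, 0, 0, 0, 0, 0, 0, 0, 0, 0, 0, 0,
  0, 0, 0, 0, 0, 0, 0, 0, 1, 1, 0, 0, -1, -2, -4, -7, -7, -6, -6, -4, -1, 1, 4, 6, 5, 4, 4, 3, 1], [0, 0, 0,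
  0, 0, 0, 0, 0, 0, 0, 0, 0, 0, 0, 0, 0, 0, 0, 0, 0, -1, 0, 2, 3, 2, 3, 4, 2, 0, -3, -6, -7, -8, -8, -7, -4,
  -1, 0, 1, 3, 3, 1, 1, 1], [0, 0, 0, 0, 0, 0, 0, 0, 0, 0, 0, 0, 0, 0, 0, 0, 0, -1, -2, -1, 1, 3, 5, 6, 6, 7,
  6, 2, -2, -6, -7, -6, -6, -5, -3, -1, 1, 2, 1], [0, 0, 0, 0, 0, 0, 0, 0, 0, 0, 0, 0, -1, -1, 0, -1, -1, 0,
  1, 2, 3, 4, 4, 5, 5, 4, 2, 0, 0, -2, -4, -5, -5, -4, -4, -3, -2, -1, 0, 1, 1, 0, 1, 1], [0, 0, 0, 0, 0, 0,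
  0, 0, 0, 0, 0, 0, -1, -1, -1, -3, -3, -1, 0, 1, 4, 7, 8, 8, 7, 6, 3, 0, -2, -4, -3, -2, -3, -2, 0, 1], [0,
  0, 0, 0, 0, 0, 0, 0, 0, 0, -1, -3, -4, -4, -5, -6, -4, -1, 1, 4, 6, 6, 7, 7, 4, 2, 1, 0, 0, -1, -1], [0, 0,
  0, 0, 0, 0, -1, -2, -3, -5, -7, -8, -9, -9, -9, -8, -5, -2, -2, -1, 1, 2, 2, 1, 0, 1, 1], [-1, -2, -2, -3,
  -5, -7, -9, -10, -11, -14, -16, -16, -16, -16, -16, -16, -14, -11, -10, -9, -7, -5, -3, -2, -2, -1]], ![[0,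
  0, 0, 0, 0, 0, 0, 0, 0, 0, 0, 0, 0, 0, 0, 0, 0, 0, 0, 0, 0, 0, 0, 0, 0, 0, 0, 0, 0, 0, 1, 2, 3, 4, 5, 6, 8,
  9, 9, 9, 9, 9, 9, 8, 6, 5, 4, 3, 2, 1], [0, 0, 0, 0, 0, 0, 0, 0, 0, 0, 0, 0, 0, 0, 0, 0, 0, 0, 0, 0, 0, 0,
  0, 0, 0, 0, 0, 0, 0, -1, -1, -1, -1, -1, -1, -1, 1, 2, 2, 2, 2, 2, 2, 1], [0, 0, 0, 0, 0, 0, 0, 0, 0, 0, 0,
  0, 0, 0, 0, 0, 0, 0, 0, 0, 0, 0, 0, 0, 0, 1, 1, 1, 0, -2, -2, -2, -2, -2, -2, -2, 0, 1, 1, 1], [0, 0, 0, 0,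
  0, 0, 0, 0, 0, 0, 0, 0, 0, 0, 0, 0, 0, 0, 0, 0, -1, 0, 1, 2, 2, 2, 2, 2, 1, -1, -1, -1, -1, -1, -1, 0, 1,
  1], [0, 0, 0, 0, 0, 0, 0, 0, 0, 0, 0, 0, 0, 0, 0, 0, 0, -1, -2, -2, -2, 0, 1, 1, 1, 1, 1, 1, 0, -2, -2, -2,
  -1], [0, 0, 0, 0, 0, 0, 0, 0, 0, 0, 0, 0, 1, 1, 1, 1, 2, 3, 4, 5, 5, 7, 8, 9, 9, 9, 9, 8, 7, 5, 5, 4, 3, 2,
  1, 1, 1, 1], [0, 0, 0, 0, 0, 0, 0, 0, 0, 0, 0, 0, 1, 1, 0, -1, -1, -1, -1, -1, -1, 1, 2, 2, 2, 2, 2, 1, 0,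
  -1], [0, 0, 0, 0, 0, 0, 0, 0, 0, 0, 1, 1, 1, 0, -2, -2, -2, -2, -2, -2, -2, 0, 1, 1, 1], [0, 0, 0, 0, 0, 0,
  1, 2, 2, 2, 2, 2, 2, 1, -1, -1, -1, -1, -1, -1, -1], [1, 2, 3, 4, 5, 6, 8, 9, 9, 9, 9, 9, 9, 8, 6, 5, 4, 3,
  2, 1]], ![[0, 0, 0, 0, 0, 0, 0, 0, 0, 0, 0, 0, 0, 0, 0, 0, 0, 0, 0, 0, 0, 0, 0, 0, 0, 0, 0, 0, 0, 0, 0, 0,
  0, 0, 0, 0, 1, 1, 1, 1, 2, 3, 4, 3, 3, 4, 5, 5, 4, 3, 3, 4, 3, 2, 1, 1, 1, 1], [0, 0, 0, 0, 0, 0, 0, 0, 0,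
  0, 0, 0, 0, 0, 0, 0, 0, 0, 0, 0, 0, 0, 0, 0, 0, 0, 0, 0, 0, 0, 0, 0, 0, 0, 0, -1, 0, 0, 0, -1, -1, -1, 1,
  1, 1, 1, 2, 2, 2, 1], [0, 0, 0, 0, 0, 0, 0, 0, 0, 0, 0, 0, 0, 0, 0, 0, 0, 0, 0, 0, 0, 0, 0, 0, 0, 0, 0, 0,
  0, 0, 0, 1, 0, 0, 0, 0, 0, -1, -3, -4, -2, 0, 2, 2, 1], [0, 0, 0, 0, 0, 0, 0, 0, 0, 0, 0, 0, 0, 0, 0, 0, 0,
  0, 0, 0, 0, 0, 0, 0, 0, 0, -1, 0, 0, 2, 1, 3, 1, 1, -1, -3, -3, -2, 0, 0, 1], [0, 0, 0, 0, 0, 0, 0, 0, 0,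
  0, 0, 0, 0, 0, 0, 0, 0, 0, 0, 0, 0, 0, 1, 0, -2, -4, -2, 2, 7, 7, 2, -2, -4, -2, 0, 1], [0, 0, 0, 0, 0, 0,
  0, 0, 0, 0, 0, 0, 0, 0, 0, 0, 0, 0, -1, -1, -1, -1, 0, -1, 0, -1, 1, 0, 1, 1, 0, 1, -1, 0, -1, 0, -1, -1,
  -1, -1], [0, 0, 0, 0, 0, 0, 0, 0, 0, 0, 0, 0, 0, 0, 0, 0, 0, 1, 0, 0, -2, -3, -3, -1, 1, 1, 3, 1, 2, 0, 0,
  -1], [0, 0, 0, 0, 0, 0, 0, 0, 0, 0, 0, 0, 0, 1, 2, 2, 0, -2, -4, -3, -1, 0, 0, 0, 0, 0, 1], [0, 0, 0, 0, 0,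
  0, 0, 0, 1, 2, 2, 2, 1, 1, 1, 1, -1, -1, -1, 0, 0, 0, -1], [1, 1, 1, 1, 2, 3, 4, 3, 3, 4, 5, 5, 4, 3, 3, 4,
  3, 2, 1, 1, 1, 1]], ![[0, 0, 0, 0, 0, 0, 0, 0, 0, 0, 0, 0, 0, 0, 0, 0, 0, 0, 0, 0, 0, 0, 0, 0, 0, 0, 0, 0,
  0, 0, 0, 0, 0, 0, 0, 0, 0, 0, 0, 1, 1, 1, 1, 2, 3, 4, 3, 3, 4, 5, 5, 4, 3, 3, 4, 3, 2, 1, 1, 1, 1], [0, 0,
  0, 0, 0, 0, 0, 0, 0, 0, 0, 0, 0, 0, 0, 0, 0, 0, 0, 0, 0, 0, 0, 0, 0, 0, 0, 0, 0, 0, 0, 0, 0, 0, 0, 0, 0, 0,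
  -1, 0, 0, 0, -1, -1, -1, 1, 0, 0, 0, 1, 1, 1], [0, 0, 0, 0, 0, 0, 0, 0, 0, 0, 0, 0, 0, 0, 0, 0, 0, 0, 0, 0,
  0, 0, 0, 0, 0, 0, 0, 0, 0, 0, 0, 0, 0, 0, 1, 0, 0, 0, 0, 1, 0, -2, -2, -1, 0, 1], [0, 0, 0, 0, 0, 0, 0, 0,
  0, 0, 0, 0, 0, 0, 0, 0, 0, 0, 0, 0, 0, 0, 0, 0, 0, 0, 0, 0, 0, -1, 0, 0, 1, 0, 1, 1, 2, 0, -1, -1], [0, 0,
  0, 0, 0, 0, 0, 0, 0, 0, 0, 0, 0, 0, 0, 0, 0, 0, 0, 0, 0, 0, 0, 0, 0, 1, 0, -1, -2, -2, 0, 2, 2, 1, 0, -1],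
  [0, 0, 0, 0, 0, 0, 0, 0, 0, 0, 0, 0, 0, 0, 0, 0, 0, 0, 0, 0, 0, 0, -1, -1, -1, 0, -1, -1, -1, 0, 0, 0, 1,
  1, 1, 0, 1, 1, 1], [0, 0, 0, 0, 0, 0, 0, 0, 0, 0, 0, 0, 0, 0, 0, 0, 0, 0, 0, 0, 0, 1, 1, 0, -2, -1, -1, 0,
  -1, 0, 0, 1], [0, 0, 0, 0, 0, 0, 0, 0, 0, 0, 0, 0, 0, 0, 0, -1, 0, 1, 2, 2, 0, -1, 0, 0, 0, 0, -1], [0, 0,
  0, 0, 0, 0, 0, 0, 0, -1, -1, -1, 0, 0, 0, -1, 1, 1, 1, 0, 0, 0, 1], [-1, -1, -1, -1, -2, -3, -4, -3, -3,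
  -4, -5, -5, -4, -3, -3, -4, -3, -2, -1, -1, -1, -1]], ![[0, 0, 0, 0, 0, 0, 0, 0, 0, 0, 0, 0, 0, 0, 0, 0, 0,
  0, 0, 0, 0, 0, 0, 0, 0, 0, 0, 0, 0, 0, 0, 0, 0, 0, 0, 0, 0, 0, 0, 0, 0, 0, 1, 2, 4, 6, 9, 12, 17, 21, 26,
  30, 34, 37, 40, 41, 41, 40, 37, 34, 30, 26, 21, 17, 12, 9, 6, 4, 2, 1], [0, 0, 0, 0, 0, 0, 0, 0, 0, 0, 0,
  0, 0, 0, 0, 0, 0, 0, 0, 0, 0, 0, 0, 0, 0, 0, 0, 0, 0, 0, 0, 0, 0, 0, 0, 0, 0, 0, 0, 0, 0, -1, -1, -2, -2,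
  -3, -3, -5, -4, -5, -4, -4, -2, -2, 0, 0, 1, 1, 1], [0, 0, 0, 0, 0, 0, 0, 0, 0, 0, 0, 0, 0, 0, 0, 0, 0, 0,
  0, 0, 0, 0, 0, 0, 0, 0, 0, 0, 0, 0, 0, 0, 0, 0, 0, 0, 0, 1, 1, 2, 2, 2, 2, 3, 2, 1, 0, -2, -2, -2, -1, -1],
  [0, 0, 0, 0, 0, 0, 0, 0, 0, 0, 0, 0, 0, 0, 0, 0, 0, 0, 0, 0, 0, 0, 0, 0, 0, 0, 0, 0, 0, 0, 0, 0, -1, -1,
  -2, -1, -2, 0, -1, 2, 2, 3, 2, 3, 1], [0, 0, 0, 0, 0, 0, 0, 0, 0, 0, 0, 0, 0, 0, 0, 0, 0, 0, 0, 0, 0, 0, 0,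
  0, 0, 0, 0, 0, 1, 1, 1, 0, -1, -3, -3, -3, -3, -1, 0, 1, 1, 1], [0, 0, 0, 0, 0, 0, 0, 0, 0, 0, 0, 0, 0, 0,
  0, 0, 0, 0, 0, 0, 0, 0, 0, 0, 0, 0, 0, -2, -2, -4, -4, -6, -6, -8, -8, -8, -8, -6, -6, -4, -4, -2, -2], [0,
  0, 0, 0, 0, 0, 0, 0, 0, 0, 0, 0, 0, 0, 0, 0, 0, 0, 0, 0, 0, 0, 0, 0, 0, 1, 3, 2, 3, 2, 2, -1, 0, -2, -1,
  -2, -1, -1], [0, 0, 0, 0, 0, 0, 0, 0, 0, 0, 0, 0, 0, 0, 0, 0, 0, 0, -1, -1, -2, -2, -2, 0, 1, 2, 3, 2, 2,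
  2, 2, 1, 1], [0, 0, 0, 0, 0, 0, 0, 0, 0, 0, 0, 1, 1, 1, 0, 0, -2, -2, -4, -4, -5, -4, -5, -3, -3, -2, -2,
  -1, -1], [1, 2, 4, 6, 9, 12, 17, 21, 26, 30, 34, 37, 40, 41, 41, 40, 37, 34, 30, 26, 21, 17, 12, 9, 6, 4,
  2, 1]], ![[0, 0, 0, 0, 0, 0, 0, 0, 0, 0, 0, 0, 0, 0, 0, 0, 0, 0, 0, 0, 0, 0, 0, 0, 0, 0, 0, 0, 0, 0, 0, 0,
  0, 0, 0, 0, 0, 0, 0, 0, 0, 0, 1, 2, 3, 5, 7, 9, 11, 13, 14, 15, 15, 14, 13, 11, 9, 7, 5, 3, 2, 1], [0, 0,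
  0, 0, 0, 0, 0, 0, 0, 0, 0, 0, 0, 0, 0, 0, 0, 0, 0, 0, 0, 0, 0, 0, 0, 0, 0, 0, 0, 0, 0, 0, 0, 0, 0, 0, 0, 0,
  0, 0, 0, -1, -1, -1, -2, -2, -2, -2, -2, -1, -1], [0, 0, 0, 0, 0, 0, 0, 0, 0, 0, 0, 0, 0, 0, 0, 0, 0, 0, 0,
  0, 0, 0, 0, 0, 0, 0, 0, 0, 0, 0, 0, 0, 0, 0, 0, 0, 0, 1, 1, 1, 2, 1, 1, 1], [0, 0, 0, 0, 0, 0, 0, 0, 0, 0,
  0, 0, 0, 0, 0, 0, 0, 0, 0, 0, 0, 0, 0, 0, 0, 0, 0, 0, 0, 0, 0, 0, -1, -1, -1, -1, -1], [0, 0, 0, 0, 0, 0,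
  0, 0, 0, 0, 0, 0, 0, 0, 0, 0, 0, 0, 0, 0, 0, 0, 0, 0, 0, 0, 0, 0, 1, 1, 0, 0, -1, -1], [], [0, 0, 0, 0, 0,
  0, 0, 0, 0, 0, 0, 0, 0, 0, 0, 0, 0, 0, 0, 0, 0, 0, 0, 0, 0, 1, 1, 1, 1, 1], [0, 0, 0, 0, 0, 0, 0, 0, 0, 0,
  0, 0, 0, 0, 0, 0, 0, 0, -1, -1, -1, -2, -1, -1, -1], [0, 0, 0, 0, 0, 0, 0, 0, 0, 0, 0, 1, 1, 2, 2, 2, 2, 2,
  1, 1, 1], [-1, -2, -3, -5, -7, -9, -11, -13, -14, -15, -15, -14, -13, -11, -9, -7, -5, -3, -2, -1]], ![[0,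
  0, 0, 0, 0, 0, 0, 0, 0, 0, 0, 0, 0, 0, 0, 0, 0, 0, 0, 0, 0, 0, 0, 0, 0, 0, 0, 0, 0, 0, 0, 0, 0, 0, 0, 0, 1,
  2, 3, 4, 5, 5, 5, 5, 4, 3, 2, 1], [0, 0, 0, 0, 0, 0, 0, 0, 0, 0, 0, 0, 0, 0, 0, 0, 0, 0, 0, 0, 0, 0, 0, 0,
  0, 0, 0, 0, 0, 0, 0, 0, 0, 0, 0, -1, -1, -1, -1, -1], [0, 0, 0, 0, 0, 0, 0, 0, 0, 0, 0, 0, 0, 0, 0, 0, 0,
  0, 0, 0, 0, 0, 0, 0, 0, 0, 0, 0, 0, 0, 0, 1, 1, 1, 1], [0, 0, 0, 0, 0, 0, 0, 0, 0, 0, 0, 0, 0, 0, 0, 0, 0,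
  0, 0, 0, 0, 0, 0, 0, 0, 0, -1, -1, -1, -1, -1], [0, 0, 0, 0, 0, 0, 0, 0, 0, 0, 0, 0, 0, 0, 0, 0, 0, 0, 0,
  0, 0, 0, 1, 1, 1, 1], [0, 0, 0, 0, 0, 0, 0, 0, 0, 0, 0, 0, 0, 0, 0, 0, 0, 0, 1, 2, 3, 4, 5, 5, 5, 5, 4, 3,
  2, 1], [0, 0, 0, 0, 0, 0, 0, 0, 0, 0, 0, 0, 0, 0, 0, 0, 0, -1, -1, -1, -1, -1], [0, 0, 0, 0, 0, 0, 0, 0, 0,
  0, 0, 0, 0, 1, 1, 1, 1], [0, 0, 0, 0, 0, 0, 0, 0, -1, -1, -1, -1, -1], [1, 2, 3, 4, 5, 5, 5, 5, 4, 3, 2,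
  1]]]

theorem check : checkK dg 1 NN UU 1073741824 560 560 64 := by decide +kernel

theorem hN : ∀ i j, i < j → posL (addL (NN i) (smL (-1) (NN j))) = true := by decide +kernel

theorem hU0 : ∀ i, posL (UU i 0) = true := by decide +kernel

end E8D7

/-- `E₈`, the parabolic subgroup of type `D₇` -/
theorem int_E8_D7 (K : Type u) [Field K] [Fintype K]
    [Fintype (PJ CoxeterMatrix.E₈.toCoxeterSystem hpE8.isCartan (TT chevE8 K) (XX chevE8 8 K) {j | j ≠ 0})]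
    {χ : ↥((chevE8).group K) → ℂ} (hχ : IsIrrCharacter ↥((chevE8).group K) χ)
    (h0 : ∑ g : PJ CoxeterMatrix.E₈.toCoxeterSystem hpE8.isCartan (TT chevE8 K) (XX chevE8 8 K) {j | j ≠ 0}, χ g ≠ 0)
    (g : ↥((chevE8).group K)) : ∃ k : ℤ, χ g = k :=
  int_chev_kron hpE8 K isCartan_cE8 E8D7.tab E8D7.ex1 E8D7.hdg E8D7.hne E8D7.check E8D7.hN E8D7.hU0 hχ h0 g

end Cfsg.Agent.H498.RP
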