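import Cfsg.Agent.H498.RP.ConM
import Cfsg.Agent.H498.RP.PolyM
import Cfsg.Agent.H498.RP.ChevK
import Cfsg.Agent.H667.BR.E8M
import Cfsg.Agent.H116.RatB0.StRow
import Cfsg.Agent.H674.XZ.Gal

/-!
# Untwisted groups: the constituents of the character induced from the Steinberg character of `P_J` (helper498)

`con_chev` : from a table, the constituents: injective numbering, integer valued, degrees, blocks.
`ConData.mem`, `ConData.mem0` : the members of the block of the Steinberg character of degree prime to `p`.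
-/

set_option autoImplicit false
set_option linter.unusedSectionVars false

open Cfsg

namespace Cfsg.Agent.H498.RP

open CoxeterSystem Cfsg.Agent.ChevalleyStructure.CoxeterGeom Cfsg.Agent.Tits.Roots Cfsg.Agent.Tits.Core
  Cfsg.Agent.Tits.Exchange Cfsg.Agent.Nodes.Reps Cfsg.Agent.Nodes.BNOf Cfsg.Agent.Nodes.StabComb
  Cfsg.Agent.Nodes.Bruhat Cfsg.Agent.Nodes.OppDec Cfsg.Agent.Nodes.LeviDec Cfsg.Agent.Nodes.NormalForm
  Cfsg.Agent.H35.ExcIdx Cfsg.Lie Cfsg.Agent.Nodes.RGDChev Cfsg.Agent.ChevalleyStructure.NPerm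
  Cfsg.Agent.H667.BR Cfsg.Agent.Characters

universe u

/-- the constituents -/
structure ConData (S : Type u) [Group S] (q : ℕ) {r : ℕ} (i1 : Fin r) (PP : Fin r → Fin r → List ℤ)
    (DEG : Fin r → List ℤ) (ee : Fin r → ℕ) (χ1 : IrrCharacter S) (χ : Fin r → IrrCharacter S) : Prop where
  inj : Function.Injective χ
  st : χ i1 = χ1
  int : ∀ i g, ∃ k : ℤ, (χ i : S → ℂ) g = k
  deg : ∀ i, (ee i : ℚ) * charDegree (χ i : S → ℂ) = charDegree (χ1 : S → ℂ) * evL (q : ℚ)⁻¹ (DEG i)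
  blk : ∀ (p : ℕ) (M : Ideal AlgInt), IsPModular p M → ¬ p ∣ q → ∀ (i j : Fin r) (N : ℕ),
    (∀ k, ∃ z : ℤ, (q : ℚ) ^ N * (evL (q : ℚ)⁻¹ (PP i k) - evL (q : ℚ)⁻¹ (PP j k)) = p * z) →
      SameBlock M (χ i : S → ℂ) (χ j : S → ℂ)

section Use

variable {S : Type u} [Group S] {q r : ℕ} {i1 : Fin r} {PP : Fin r → Fin r → List ℤ} {DEG : Fin r → List ℤ}
  {ee : Fin r → ℕ} {χ1 : IrrCharacter S} {χ : Fin r → IrrCharacter S} (H : ConData S q i1 PP DEG ee χ1 χ)

include H in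
/-- **The members of the block of the Steinberg character.** -/
theorem ConData.mem (hq : 0 < q) {p : ℕ} {M : Ideal AlgInt} (hM : IsPModular p M) (hpq : ¬ p ∣ q) {Φt : List ℤ}
    (hpal : (1 :: Φt).reverse = 1 :: Φt) (hp : (p : ℤ) ∣ evZ q (1 :: Φt)) {i : Fin r} {n : ℕ}
    (hb : ∀ k, dvdL Φt n (addL (PP i k) (smL (-1) (PP i1 k))) = true) {c : ℤ} {a n' : ℕ}
    (hd : dvdL Φt n' (addL (DEG i) (smL (-c) (shL a [1]))) = true) (hc : ¬ (p : ℤ) ∣ c)
    (hp1 : ¬ p ∣ charDegree (χ1 : S → ℂ)) :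
    SameBlock M (χ i : S → ℂ) (χ1 : S → ℂ) ∧ ¬ p ∣ charDegree (χ i : S → ℂ) := by
  have hq0 : (q : ℚ) ≠ 0 := by exact_mod_cast hq.ne'
  constructor
  · rw [← H.st]
    choose N0 hN0 using fun k => exists_dvd_inv hq hpal hp (hb k)
    refine H.blk p M hM hpq i i1 (∑ k, N0 k) fun k => ?_
    obtain ⟨z, hz⟩ := hN0 k (∑ k, N0 k) (Finset.single_le_sum (f := N0) (fun _ _ => Nat.zero_le _) (Finset.mem_univ k))
    refine ⟨z, ?_⟩
    rw [← hz, evL_add, evL_sm]
    push_cast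
    ring
  · intro h1
    obtain ⟨N0, hN0⟩ := exists_dvd_inv hq hpal hp hd
    obtain ⟨z, hz⟩ := hN0 (N0 + a) (Nat.le_add_right _ _)
    obtain ⟨y, hy⟩ := h1
    have h2 := H.deg i
    rw [evL_add, evL_sm, evL_sh, evL_cons, evL_nil] at hz
    push_cast at hz
    rw [mul_zero, add_zero, mul_one] at hz
    have h3 : (q : ℚ) ^ (N0 + a) * ((q : ℚ)⁻¹) ^ a = (q : ℚ) ^ N0 := by
      rw [pow_add, inv_pow]
      field_simp
    have h4 : ((charDegree (χ1 : S → ℂ) : ℤ) : ℚ) * (c * (q : ℤ) ^ N0 + p * z : ℤ) = ((q : ℤ) ^ (N0 + a) * (ee i) * (p * y) : ℤ) := by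
      push_cast
      rw [hy] at h2
      push_cast at h2
      linear_combination (-(charDegree (χ1 : S → ℂ) : ℚ)) * hz - (q : ℚ) ^ (N0 + a) * h2 -
        (charDegree (χ1 : S → ℂ) : ℚ) * c * h3
    have h5 : (charDegree (χ1 : S → ℂ) : ℤ) * (c * (q : ℤ) ^ N0 + p * z) = (q : ℤ) ^ (N0 + a) * (ee i) * (p * y) := by
      exact_mod_cast h4
    have hpp := Nat.prime_iff_prime_int.1 hM.1
    have h6 : (p : ℤ) ∣ (charDegree (χ1 : S → ℂ) : ℤ) * (c * (q : ℤ) ^ N0 + p * z) := by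
      rw [h5]
      exact Dvd.intro_left ((q : ℤ) ^ (N0 + a) * (ee i) * y) (by ring)
    rcases hpp.dvd_or_dvd h6 with h7 | h7
    · exact hp1 (by exact_mod_cast h7)
    · have h8 : (p : ℤ) ∣ c * (q : ℤ) ^ N0 := (dvd_add_left (dvd_mul_right (p : ℤ) z)).1 h7
      rcases hpp.dvd_or_dvd h8 with h9 | h9
      · exact hc h9
      · exact hpq (by exact_mod_cast hpp.dvd_of_dvd_pow h9)

include H in
/-- the degree as a value at `q` -/
theorem ConData.deg_q (hq : 0 < q) {N : ℕ} (h1 : charDegree (χ1 : S → ℂ) = q ^ N) (i : Fin r)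
    (hN : (DEG i).length ≤ N + 1) :
    (ee i : ℚ) * charDegree (χ i : S → ℂ) = (q : ℚ) ^ (N + 1 - (DEG i).length) * evL (q : ℚ) (DEG i).reverse := by
  have hq0 : (q : ℚ) ≠ 0 := by exact_mod_cast hq.ne'
  have h2 := evL_inv hq0 (DEG i)
  rw [H.deg i, h1]
  push_cast
  apply mul_left_cancel₀ hq0
  have h3 : (q : ℚ) * (q : ℚ) ^ N = (q : ℚ) ^ (N + 1 - (DEG i).length) * (q : ℚ) ^ (DEG i).length := by
    rw [← pow_add, Nat.sub_add_cancel hN, pow_succ, mul_comm]
  rw [← mul_assoc, h3, mul_assoc, h2]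
  ring

end Use

/-! ### the tables -/

section Tab

variable {n m r : ℕ}

/-- all steps of the word are upwards -/
def pwT (T : BT Rw) (rows : List (List ℤ)) : List (Fin n) → ℕ → Bool
  | [], _ => true
  | i :: l, b => decide (0 < dotL (nl rows i) (T.get b).v) && pwT T rows l (nn (T.get b).a (i : ℕ))

variable {A : Fin n → Fin n → ℤ} {i0 : Fin n} {T : BT Rw} {rows : List (List ℤ)} {bs : List ℕ} {hsh : List ℤ} {b0 : ℕ}
  {wd : Fin r → List (Fin n)} (H : TabC m r A i0 T rows bs hsh b0 wd) [NeZero m] [NeZero r]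

theorem pwT_spec (l : List (Fin n)) (b : Fin m) (h : pwT T rows l b = true) : PW (mkOrb H) l b := by
  induction l generalizing b with
  | nil => trivial
  | cons i l ih =>
    rw [pwT, Bool.and_eq_true, decide_eq_true_eq] at h
    refine ⟨?_, ih _ ?_⟩
    · have h1 : pairing A i ((mkOrb H).vec b) = dotL (nl rows i) (T.get b).v := H.pair i b
      rw [h1]
      exact h.1
    · show pwT T rows l ((Fin.ofNat m (nn (T.get b).a i) : Fin m) : ℕ) = true
      rw [H.val_act]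
      exact h.2

theorem foldl_spec (l : List (Fin n)) (b : Fin m) :
    ((l.foldl (fun b i => (mkOrb H).act i b) b : Fin m) : ℕ) =
      l.foldl (fun (b : ℕ) (i : Fin n) => nn (T.get b).a (i : ℕ)) (b : ℕ) := by
  induction l generalizing b with
  | nil => rfl
  | cons i l ih =>
    rw [List.foldl_cons, List.foldl_cons, ih]
    congr 1
    exact H.val_act i b

end Tab

section Chev

variable {D : ChevalleyDatum} {l : ℕ} {M : CoxeterMatrix (Fin l)} (hp : IsType D l M) (K : Type u) [Field K]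
  [Fintype K]

/-- the parabolic subgroups -/
abbrev PK (L : Finset (Fin l)) : Subgroup ↥(D.group K) :=
  PJ M.toCoxeterSystem hp.isCartan (TT D K) (XX D l K) (L : Set (Fin l))

/-- **The Steinberg character.** -/
theorem exists_st_chev : ∃ χ1 : IrrCharacter ↥(D.group K),
    (∀ g, (χ1 : ↥(D.group K) → ℂ) g = ∑ L ∈ (Finset.univ : Finset (Fin l)).powerset, (-1 : ℂ) ^ L.card *
      fixedPointCharacter (PK hp K L) g) ∧
    charDegree (χ1 : ↥(D.group K) → ℂ) = Nat.card (RGD.Sup (XX D l K) (RGD.Pos M.toCoxeterSystem hp.isCartan)) ∧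
    (∀ p : ℕ, p.Prime → ¬ p ∣ Fintype.card K → ¬ p ∣ charDegree (χ1 : ↥(D.group K) → ℂ)) ∧
    ∀ (p : ℕ) (M' : Ideal AlgInt), IsPModular p M' → ¬ p ∣ Fintype.card K →
      (∀ J : Finset (Fin l), J ≠ Finset.univ → p ∣ (PK hp K J).index) → χ1 ∈ principalBlock M' ↥(D.group K) := by
  classical
  obtain ⟨r, hrc⟩ := CharP.exists K
  have hrp : Fact r.Prime := ⟨CharP.char_is_prime K r⟩
  have hfin : Finite M.Group := finite_W hp M.toCoxeterSystem
  have R := rgd (K := K) hp M.toCoxeterSystem r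
  have hG := GG_eq_top (M := M) hp K M.toCoxeterSystem
  obtain ⟨h1, h2⟩ := H116.RatB0.exists_char_PJ R hG
  set χ : IrrCharacter ↥(D.group K) := ⟨_, h1⟩ with hχ
  have hval : ∀ g, (χ : ↥(D.group K) → ℂ) g = ∑ L ∈ (Finset.univ : Finset (Fin l)).powerset, (-1 : ℂ) ^ L.card *
      fixedPointCharacter (PK hp K L) g := fun g => rfl
  have hdeg : charDegree (χ : ↥(D.group K) → ℂ) =
      Nat.card (RGD.Sup (XX D l K) (RGD.Pos M.toCoxeterSystem hp.isCartan)) := by
    have h3 : (charDegree (χ : ↥(D.group K) → ℂ) : ℂ) = (χ : ↥(D.group K) → ℂ) 1 :=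
      (Blocks.Knorr.charDegree_eq χ.2).symm
    have h4 : (χ : ↥(D.group K) → ℂ) 1 =
      (Nat.card (RGD.Sup (XX D l K) (RGD.Pos M.toCoxeterSystem hp.isCartan)) : ℂ) := h2
    rw [h4] at h3
    exact_mod_cast h3
  have hp' : ∀ p : ℕ, p.Prime → ¬ p ∣ Fintype.card K → ¬ p ∣ charDegree (χ : ↥(D.group K) → ℂ) := by
    intro p hpp hpq
    rw [hdeg]
    have h3 : IsPGroup r (RGD.Sup (XX D l K) (RGD.Pos M.toCoxeterSystem hp.isCartan)) := R.isPGroup_Upos
    obtain ⟨k, hk⟩ := IsPGroup.iff_card.1 h3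
    intro h4
    rw [hk] at h4
    have h5 := (Nat.prime_dvd_prime_iff_eq hpp hrp.out).1 (hpp.dvd_of_dvd_pow h4)
    apply hpq
    rw [h5, ← Nat.card_eq_fintype_card]
    obtain ⟨n, hn⟩ := FiniteField.card K r
    rw [Nat.card_eq_fintype_card, hn.2]
    exact dvd_pow_self _ n.2.ne'
  refine ⟨χ, hval, hdeg, hp', fun p M' hM hpq hJ => ?_⟩
  have hpf : Fact p.Prime := ⟨hM.1⟩
  refine H116.RatB0.mem_of_alt hM (Finset.univ : Finset (Fin l)).powerset (fun K => (-1 : ℤ) ^ K.card)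
    (fun L => PK hp K L) χ (fun g => ?_) (hp' p hM.1 hpq) (fun L _ => ?_)
  · rw [hval]
    refine Finset.sum_congr rfl fun L _ => ?_
    push_cast
    rfl
  · by_cases hL : L = Finset.univ
    · refine Or.inr ?_
      rw [hL]
      show H116.RatB0.reg p (PJ M.toCoxeterSystem hp.isCartan (TT D K) (XX D l K) ((Finset.univ : Finset (Fin l)) : Set (Fin l))) ≡ _ [MOD p]
      rw [Finset.coe_univ, H554.RG.PJ_univ R hG]
    · exact Or.inl (hJ L hL)

open PE in
/-- the check of the weights of the levels -/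
def chkNK {n r : ℕ} (dg : Fin r → List (ℕ × ℕ × Fin r)) (wd : Fin r → List (Fin n)) (NK : Fin r → List ℤ) (B : ℕ) : Prop :=
  ∀ k, nrm (NK k) + (dg k).length < B ∧ evZ B (NK k) = (B ^ (wd k).length : ℕ) * (zB B (dg k) : ℤ)

instance {n r : ℕ} (dg : Fin r → List (ℕ × ℕ × Fin r)) (wd : Fin r → List (Fin n)) (NK : Fin r → List ℤ) (B : ℕ) :
    Decidable (chkNK dg wd NK B) := inferInstanceAs (Decidable (∀ _, _ ∧ _))

theorem evL_NK {n r : ℕ} {dg : Fin r → List (ℕ × ℕ × Fin r)} {wd : Fin r → List (Fin n)} {NK : Fin r → List ℤ} {B : ℕ}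
    (h : chkNK dg wd NK B) (x : ℚ) (k : Fin r) :
    evL x (NK k) = x ^ (wd k).length * ((dg k).map fun y => x ^ y.1).sum := by
  obtain ⟨h1, h2⟩ := h k
  have h3 : zL (addL (NK k) (smL (-1) (shL (wd k).length (ZL (dg k))))) = true := by
    refine zL_of_evZ (B := B) ?_ (lt_of_le_of_lt ((nrm_add _ _).trans ?_) h1)
    · rw [evZ_add, evZ_sm, evZ_sh, evZ_ZL, h2]
      push_cast
      ring
    · rw [nrm_sm, nrm_sh]
      simp only [Int.natAbs_neg, Int.natAbs_one, one_mul]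
      exact Nat.add_le_add_left (nrm_ZL _) _
  have h4 := evL_zL x h3
  rw [evL_add, evL_sm, evL_sh, evL_ZL] at h4
  push_cast at h4
  linear_combination h4

/-- the identity for the spherical functions -/
def ePP {r : ℕ} (NK : Fin r → List ℤ) (U PP : Fin r → Fin r → List ℤ) (k0 i k : Fin r) : PE :=
  .add (.mul (.lit (PP i k)) (.lit (U i k0))) (.sm (-1) (.mul (.lit (NK k)) (.lit (U i k))))

/-- the identity for the degrees -/
def eDEG {r : ℕ} (NK : Fin r → List ℤ) (U : Fin r → Fin r → List ℤ) (DEG : Fin r → List ℤ) (ee : Fin r → ℕ)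
    (k0 i : Fin r) : PE :=
  .add (.sm (ee i) (.mul (PE.sumE (List.ofFn fun k => .lit (NK k))) (.mul (.lit (U i k0)) (.lit (U i k0)))))
    (.sm (-1) (.mul (PE.sumE (List.ofFn fun k => .mul (.lit (NK k)) (.mul (.lit (U i k)) (.lit (U i k))))) (.lit (DEG i))))

/-- **Untwisted groups**, with the permutation character of the Borel subgroup. -/
theorem con_chevB {A : Fin l → Fin l → ℤ} (hA : IsCartan M A) {i0 : Fin l} {m r : ℕ} [NeZero m] [NeZero r]
    {T : BT Rw} {rows : List (List ℤ)} {bs : List ℕ} {hsh : List ℤ} {b0 : ℕ} {wd : Fin r → List (Fin l)}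
    (H : TabC m r A i0 T rows bs hsh b0 wd) (hex1 : ∀ k : Fin r, (T.get (nn bs k)).e = 0)
    {dg : Fin r → List (ℕ × ℕ × Fin r)} (hdg : ∀ k : Fin r, eqE (gath T (nl rows i0) i0 k m []) (dg k) = true)
    (hne : ∀ k, dg k ≠ []) {k1 : Fin r} {N : Fin r → List ℤ} {U : Fin r → Fin r → List ℤ} {B C L Dn : ℕ}
    (hc : checkK dg k1 N U B C L Dn)
    (hN : ∀ i j, i < j → posR (addL (N i) (smL (-1) (N j))) = true) {k0 : Fin r}
    (hk0 : (T.get b0).l = k0) (hU0 : ∀ i, posR (U i k0) = true)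
    (hsy : ∀ k : Fin r, (T.get ((wd k).reverse.foldl (fun (b : ℕ) (i : Fin l) => nn (T.get b).a (i : ℕ)) b0)).l = k)
    (hpw : ∀ k : Fin r, pwT T rows (wd k) b0 = true) {i1 : Fin r} (hi1 : ∀ k, U i1 k = [1])
    {NK : Fin r → List ℤ} {B1 : ℕ} (hNK : chkNK dg wd NK B1) {PP : Fin r → Fin r → List ℤ} {B2 : ℕ}
    (hPP : ∀ i k, PE.chk B2 (ePP NK U PP k0 i k) = true) {DEG : Fin r → List ℤ} {ee : Fin r → ℕ} {B3 : ℕ}
    (hDEG : ∀ i, PE.chk B3 (eDEG NK U DEG ee k0 i) = true)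
    {χ1 : IrrCharacter ↥(D.group K)}
    (hval : ∀ g, (χ1 : ↥(D.group K) → ℂ) g = ∑ L ∈ (Finset.univ : Finset (Fin l)).powerset, (-1 : ℂ) ^ L.card *
      fixedPointCharacter (PK hp K L) g) :
    ∃ χ : Fin r → IrrCharacter ↥(D.group K), ConData ↥(D.group K) (Fintype.card K) i1 PP DEG ee χ1 χ ∧
      ∀ i, ∀ [Fintype ↥(D.group K)], classInner (fixedPointCharacter
        (PJ M.toCoxeterSystem hp.isCartan (TT D K) (XX D l K) (∅ : Set (Fin l)))) (χ i : ↥(D.group K) → ℂ) ≠ 0 := by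
  classical
  obtain ⟨p, hpc⟩ := CharP.exists K
  have hpp : Fact p.Prime := ⟨CharP.char_is_prime K p⟩
  have hfin : Finite M.Group := finite_W hp M.toCoxeterSystem
  have hfW : Fintype M.Group := Fintype.ofFinite _
  have R := rgd (K := K) hp M.toCoxeterSystem p
  have hcard : ∀ i, Nat.card (XX D l K (sr i)) = (fun _ : Fin l => Fintype.card K) i := fun i => by
    rw [card_XX hp K M.toCoxeterSystem (isRoot_sr _ _ i), Nat.card_eq_fintype_card]
  obtain ⟨Δ, hiso, htr, hΔ, hPJ⟩ := exists_bldg_PJ R (GG_eq_top hp K _) hcard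
  have hfS : Fintype ↥(D.group K) := Fintype.ofFinite _
  have hfC : Fintype (↥(D.group K) ⧸ RGD.B M.toCoxeterSystem hp.isCartan (TT D K) (XX D l K)) := Fintype.ofFinite _
  have hx : (2 : ℚ) ≤ (Fintype.card K : ℚ) := by
    have := Fintype.one_lt_card (α := K)
    exact_mod_cast this
  have hx0 : (0 : ℚ) < (Fintype.card K : ℚ)⁻¹ := inv_pos.2 (by linarith)
  set x : ℚ := (Fintype.card K : ℚ)⁻¹ with hxdef
  -- the base level
  have hlv0 : (mkOrb H).lv (mkOrb H).b0 = k0 := by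
    apply Fin.ext
    show ((Fin.ofNat r (T.get ((Fin.ofNat m b0 : Fin m) : ℕ)).l : Fin r) : ℕ) = k0
    rw [Fin.val_ofNat, Fin.val_ofNat, Nat.mod_eq_of_lt H.hb0, hk0, Nat.mod_eq_of_lt k0.2]
  have hb0v : (((mkOrb H).b0 : Fin m) : ℕ) = b0 := by
    show ((Fin.ofNat m b0 : Fin m) : ℕ) = b0
    rw [Fin.val_ofNat, Nat.mod_eq_of_lt H.hb0]
  -- the weights
  have hnk : ∀ k, nk (mkOrb H) x (fun b => x ^ (T.get b).e) k = evL x (NK k) := by
    intro k
    rw [evL_NK hNK]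
    unfold nk
    congr 1
    rw [lsum_dat (mkOrb H) (fun b => (T.get b).e) (H.isDat hdg) x (fun _ _ => 1) _ k fun b _ => rfl]
    simp only [mul_one]
  have hUk0 : ∀ i, evL x (U i k0) ≠ 0 := fun i => (evL_posR hx (hU0 i)).ne'
  have hpp1 : ∀ i k, evL x (PP i k) = evL x (NK k) * evL x (U i k) / evL x (U i k0) := by
    intro i k
    have h1 := PE.zero (hPP i k) x
    simp only [ePP, PE.evQ] at h1
    rw [eq_div_iff (hUk0 i)]
    push_cast at h1
    linear_combination h1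
  obtain ⟨χ, hinj, hst, hint, hdeg, hblk, hbor⟩ := exists_con (mkOrb H) hA Δ hΔ hiso htr
    (wt := fun b => x ^ (T.get b).e) (U := fun i k => evL x (U i k))
    (θ := fun i => evL x (N i) / ((dg k1).map fun y => x ^ y.1).sum)
    (by
      intro k
      show x ^ (T.get ((Fin.ofNat m (nn bs k) : Fin m) : ℕ)).e = 1
      rw [H.val_base, hex1, pow_zero])
    (by
      intro j hj b hb
      show x ^ (T.get ((mkOrb H).act j b)).e = x * x ^ (T.get b).e
      rw [H.ex2 j hj b hb, pow_succ, mul_comm])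
    (inj_kron_inv hne hN hx)
    (by
      intro i
      rw [hlv0]
      exact hUk0 i)
    (fun i => eig_kron (mkOrb H) (fun b => (T.get b).e) (H.isDat hdg) hne hc hx0 i)
    (by
      intro k
      apply Fin.ext
      have h1 := foldl_spec H (wd k).reverse (mkOrb H).b0
      rw [hb0v] at h1
      show ((Fin.ofNat r (T.get ((((wd k).reverse.foldl (fun b i => (mkOrb H).act i b) (mkOrb H).b0 : Fin m)) : ℕ)).l : Fin r) : ℕ) = k
      rw [Fin.val_ofNat, h1, hsy, Nat.mod_eq_of_lt k.2])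
    (by
      intro k
      refine pwT_spec H (wd k) _ ?_
      rw [hb0v]
      exact hpw k)
    (QuotientGroup.mk 1) (i1 := i1)
    (by
      intro k
      show evL x (U i1 k) = 1
      rw [hi1, evL_cons, evL_nil]
      push_cast
      ring)
    (fun L => PK hp K L) (fun L g => hPJ _ g) χ1 hval
  refine ⟨χ, ⟨hinj, hst, hint, fun i => ?_, fun p M' hM hpq i j N hN => ?_⟩, fun i inst => ?_⟩
  · have h1 := hdeg i
    have h2 := PE.zero (hDEG i) x
    simp only [eDEG, PE.evQ, PE.evQ_sum_ofFn] at h2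
    simp only [← hxdef, hlv0, hnk] at h1
    set X : ℚ := ∑ k, evL x (NK k) with hX
    set Y : ℚ := ∑ k, evL x (NK k) * evL x (U i k) ^ 2 with hY
    have h3 : ∑ k, evL x (NK k) * (evL x (U i k) * evL x (U i k)) = Y :=
      Finset.sum_congr rfl fun k _ => by rw [sq]
    rw [h3] at h2
    have hXpos : 0 < X := by
      rw [hX]
      refine Finset.sum_pos (fun k _ => ?_) ⟨k0, Finset.mem_univ _⟩
      rw [evL_NK hNK]
      exact mul_pos (pow_pos hx0 _) (ZL_pos hx0 (hne k))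
    have hχ1 : (charDegree (χ1 : ↥(D.group K) → ℂ) : ℚ) ≠ 0 := by
      exact_mod_cast Blocks.Knorr.charDegree_ne_zero χ1.2
    have hY0 : Y ≠ 0 := by
      intro h4
      rw [h4, mul_zero] at h1
      have h5 := mul_ne_zero (mul_ne_zero hχ1 hXpos.ne') (pow_ne_zero 2 (hUk0 i))
      exact h5 h1.symm
    apply mul_right_cancel₀ hY0
    push_cast at h2
    linear_combination (ee i : ℚ) * h1 + (charDegree (χ1 : ↥(D.group K) → ℂ) : ℚ) * h2
  · refine hblk p M' hM hpq i j N fun k => ?_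
    obtain ⟨z, hz⟩ := hN k
    refine ⟨z, ?_⟩
    rw [← hz, hpp1, hpp1]
    simp only [← hxdef, hlv0, hnk]
  · have e : inst = hfS := Subsingleton.elim _ _
    subst e
    refine hbor i _ fun g hg => ?_
    have h1 := (hPJ ∅ g).1 hg
    have h2 : WJ M.toCoxeterSystem (∅ : Set (Fin l)) = ⊥ := by
      rw [eq_bot_iff]
      intro w hw
      obtain ⟨ω, hω, rfl⟩ := exists_word_of_mem_WJ M.toCoxeterSystem hw
      cases ω with
      | nil => rw [wordProd_nil]; exact one_mem _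
      | cons i ω => exact absurd (hω i List.mem_cons_self) (Set.notMem_empty i)
    rw [h2, Subgroup.mem_bot] at h1
    exact ((Δ.eq_one _ _).1 h1).symm

/-- **Untwisted groups.** -/
theorem con_chev {A : Fin l → Fin l → ℤ} (hA : IsCartan M A) {i0 : Fin l} {m r : ℕ} [NeZero m] [NeZero r]
    {T : BT Rw} {rows : List (List ℤ)} {bs : List ℕ} {hsh : List ℤ} {b0 : ℕ} {wd : Fin r → List (Fin l)}
    (H : TabC m r A i0 T rows bs hsh b0 wd) (hex1 : ∀ k : Fin r, (T.get (nn bs k)).e = 0)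
    {dg : Fin r → List (ℕ × ℕ × Fin r)} (hdg : ∀ k : Fin r, eqE (gath T (nl rows i0) i0 k m []) (dg k) = true)
    (hne : ∀ k, dg k ≠ []) {k1 : Fin r} {N : Fin r → List ℤ} {U : Fin r → Fin r → List ℤ} {B C L Dn : ℕ}
    (hc : checkK dg k1 N U B C L Dn)
    (hN : ∀ i j, i < j → posR (addL (N i) (smL (-1) (N j))) = true) {k0 : Fin r}
    (hk0 : (T.get b0).l = k0) (hU0 : ∀ i, posR (U i k0) = true)
    (hsy : ∀ k : Fin r, (T.get ((wd k).reverse.foldl (fun (b : ℕ) (i : Fin l) => nn (T.get b).a (i : ℕ)) b0)).l = k)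
    (hpw : ∀ k : Fin r, pwT T rows (wd k) b0 = true) {i1 : Fin r} (hi1 : ∀ k, U i1 k = [1])
    {NK : Fin r → List ℤ} {B1 : ℕ} (hNK : chkNK dg wd NK B1) {PP : Fin r → Fin r → List ℤ} {B2 : ℕ}
    (hPP : ∀ i k, PE.chk B2 (ePP NK U PP k0 i k) = true) {DEG : Fin r → List ℤ} {ee : Fin r → ℕ} {B3 : ℕ}
    (hDEG : ∀ i, PE.chk B3 (eDEG NK U DEG ee k0 i) = true)
    {χ1 : IrrCharacter ↥(D.group K)}
    (hval : ∀ g, (χ1 : ↥(D.group K) → ℂ) g = ∑ L ∈ (Finset.univ : Finset (Fin l)).powerset, (-1 : ℂ) ^ L.card *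
      fixedPointCharacter (PK hp K L) g) :
    ∃ χ : Fin r → IrrCharacter ↥(D.group K), ConData ↥(D.group K) (Fintype.card K) i1 PP DEG ee χ1 χ := by
  obtain ⟨χ, h1, -⟩ := con_chevB hp K hA H hex1 hdg hne hc hN hk0 hU0 hsy hpw hi1 hNK hPP hDEG hval
  exact ⟨χ, h1⟩

end Chev

end Cfsg.Agent.H498.RP
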