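import Cfsg.Agent.H498.RP.ChevK

/-!
# Tables (helper498), generated
-/

set_option autoImplicit false
set_option maxRecDepth 100000
set_option maxHeartbeats 0

open Cfsg

namespace Cfsg.Agent.H498.RP

open Cfsg.Agent.ChevalleyStructure.CoxeterGeom Cfsg.Agent.H35.ExcIdx Cfsg.Lie Cfsg.Agent.Nodes.RGDChev
  Cfsg.Agent.Nodes.LeviDec Cfsg.Agent.ChevalleyStructure.CoxeterGeomTypes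

universe u

/-- the Cartan matrix -/
def cE8b : Fin 8 → Fin 8 → ℤ := ![![2, 0, -1, 0, 0, 0, 0, 0], ![0, 2, 0, -1, 0, 0, 0, 0], ![-1, 0, 2, -1, 0, 0, 0, 0], ![0, -1, -1, 2, -1, 0, 0, 0], ![0, 0, 0, -1, 2, -1, 0, 0], ![0, 0, 0, 0, -1, 2, -1, 0], ![0, 0, 0, 0, 0, -1, 2, -1], ![0, 0, 0, 0, 0, 0, -1, 2]]

theorem cE8b_eq : cartanOf chevE8 8 = cE8b := by
  funext i j
  revert i j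
  decide +kernel

theorem isCartan_cE8b : IsCartan CoxeterMatrix.E₈ cE8b := by
  rw [← cE8b_eq]
  exact isCartan_E8

namespace E8E7

/-- the table: vector, images, level, exponent -/
def T : BT Rw := .nd (.nd (.nd (.nd (.nd (.nd (.nd (.nd (.lf ⟨[-2, -3, -4, -6, -5, -4, -3, -2], [0, 0, 0, 0,
  0, 0, 0, 1], 4, 0⟩) (.lf ⟨[0, 1, 1, 1, 0, 0, 0, 0], [129, 126, 125, 128, 135, 128, 128, 128], 2, 14⟩)) (.nd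
  (.lf ⟨[-1, -1, -2, -2, -2, -2, -1, 0], [64, 64, 65, 63, 64, 69, 64, 36], 2, 27⟩) (.lf ⟨[1, 1, 1, 1, 1, 1,
  1, 1], [191, 190, 192, 194, 192, 192, 192, 164], 1, 20⟩))) (.nd (.nd (.lf ⟨[-1, -2, -2, -3, -3, -2, -1,
  -1], [32, 33, 32, 31, 34, 32, 22, 60], 3, 14⟩) (.lf ⟨[0, 1, 0, 1, 1, 1, 1, 0], [160, 159, 163, 160, 160,
  160, 143, 188], 2, 12⟩)) (.nd (.lf ⟨[0, -1, 0, -1, -1, -1, 0, 0], [96, 97, 93, 96, 96, 107, 79, 96], 2,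
  20⟩) (.lf ⟨[1, 2, 3, 4, 3, 3, 2, 1], [225, 224, 223, 224, 227, 219, 224, 224], 1, 9⟩)))) (.nd (.nd (.nd
  (.lf ⟨[-1, -2, -2, -4, -3, -3, -2, -1], [16, 16, 15, 17, 13, 21, 16, 16], 3, 17⟩) (.lf ⟨[0, 0, 1, 1, 1, 1,
  0, 0], [145, 146, 142, 144, 144, 133, 161, 144], 2, 13⟩)) (.nd (.lf ⟨[0, 0, 0, -1, -1, -1, -1, 0], [80, 79,
  78, 81, 80, 80, 97, 52], 2, 20⟩) (.lf ⟨[1, 2, 2, 4, 3, 2, 1, 1], [208, 208, 209, 207, 208, 208, 218, 180],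
  1, 12⟩))) (.nd (.nd (.lf ⟨[0, -1, -1, -1, -1, -1, -1, -1], [47, 50, 51, 46, 48, 48, 48, 76], 3, 6⟩) (.lf
  ⟨[1, 1, 2, 3, 2, 2, 1, 0], [176, 177, 176, 175, 178, 171, 176, 204], 2, 5⟩)) (.lf ⟨[-1, 0, -1, -1, 0, 0, 0,
  0], [113, 110, 112, 116, 105, 112, 112, 112], 2, 19⟩)))) (.nd (.nd (.nd (.nd (.lf ⟨[-1, -3, -3, -5, -4, -3,
  -2, -1], [7, 10, 8, 8, 8, 8, 8, 8], 3, 21⟩) (.lf ⟨[1, 1, 1, 1, 1, 0, 0, 0], [135, 134, 136, 138, 129, 147,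
  136, 136], 2, 12⟩)) (.nd (.lf ⟨[-1, -1, -2, -2, -1, -1, -1, 0], [72, 72, 73, 72, 69, 72, 89, 44], 2, 25⟩)
  (.lf ⟨[1, 2, 2, 3, 2, 1, 1, 1], [200, 199, 200, 200, 200, 205, 200, 172], 1, 15⟩))) (.nd (.nd (.lf ⟨[-1,
  -1, -2, -3, -2, -1, -1, -1], [40, 39, 40, 41, 40, 35, 40, 68], 3, 11⟩) (.lf ⟨[0, 1, 1, 2, 2, 1, 1, 0],
  [169, 168, 168, 168, 165, 173, 151, 196], 2, 9⟩)) (.nd (.lf ⟨[0, -1, -1, -1, -1, 0, 0, 0], [103, 106, 107,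
  102, 111, 93, 104, 104], 2, 20⟩) (.lf ⟨[2, 3, 3, 5, 4, 3, 2, 1], [231, 230, 234, 232, 232, 232, 232, 232],
  1, 5⟩)))) (.nd (.nd (.nd (.lf ⟨[-1, -2, -2, -3, -2, -2, -2, -1], [24, 25, 24, 24, 22, 24, 34, 24], 3, 14⟩)
  (.lf ⟨[1, 1, 1, 2, 2, 1, 0, 0], [151, 152, 153, 152, 149, 152, 169, 152], 2, 9⟩)) (.nd (.lf ⟨[0, -1, -1,
  -2, -2, -1, 0, 0], [87, 88, 88, 88, 91, 88, 71, 88], 2, 23⟩) (.lf ⟨[1, 1, 2, 3, 3, 2, 2, 1], [216, 217,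
  216, 216, 214, 221, 206, 216], 1, 13⟩))) (.nd (.nd (.lf ⟨[0, 0, 0, 0, 0, 0, 0, -1], [56, 56, 56, 56, 56,
  56, 55, 183], 3, 0⟩) (.lf ⟨[0, 0, 0, 0, 0, 0, 1, 1], [184, 184, 184, 184, 184, 185, 183, 156], 1, 26⟩))
  (.lf ⟨[1, 0, 0, 0, 0, 0, 0, 0], [119, 120, 123, 120, 120, 120, 120, 120], 2, 16⟩))))) (.nd (.nd (.nd (.nd
  (.nd (.lf ⟨[-2, -3, -4, -6, -4, -3, -2, -1], [4, 4, 4, 5, 3, 4, 4, 4], 3, 24⟩) (.lf ⟨[0, 1, 0, 1, 1, 0, 0,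
  0], [132, 131, 135, 132, 125, 143, 132, 132], 2, 14⟩)) (.nd (.lf ⟨[-1, -1, -2, -3, -2, -1, -1, 0], [68, 67,
  68, 69, 68, 63, 85, 40], 2, 27⟩) (.lf ⟨[0, 1, 1, 2, 2, 1, 1, 1], [197, 196, 196, 196, 193, 201, 196, 168],
  1, 19⟩))) (.nd (.nd (.lf ⟨[-1, -1, -2, -2, -2, -2, -1, -1], [36, 36, 37, 35, 36, 41, 26, 64], 3, 11⟩) (.lf
  ⟨[1, 1, 1, 1, 1, 1, 1, 0], [163, 162, 164, 166, 164, 164, 147, 192], 2, 10⟩)) (.nd (.lf ⟨[-1, -1, -2, -2,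
  -1, 0, 0, 0], [100, 100, 101, 100, 100, 89, 100, 100], 2, 23⟩) (.lf ⟨[2, 2, 3, 4, 4, 3, 2, 1], [227, 228,
  228, 230, 225, 228, 228, 228], 1, 7⟩)))) (.nd (.nd (.nd (.lf ⟨[-1, -2, -3, -4, -3, -2, -2, -1], [19, 20,
  21, 20, 20, 15, 30, 20], 3, 17⟩) (.lf ⟨[0, 1, 1, 2, 1, 1, 0, 0], [149, 148, 148, 146, 151, 137, 165, 148],
  2, 11⟩)) (.nd (.lf ⟨[-1, -2, -2, -3, -2, -1, 0, 0], [84, 85, 84, 84, 84, 84, 67, 84], 2, 27⟩) (.lf ⟨[1, 1,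
  1, 2, 2, 2, 2, 1], [211, 212, 213, 212, 212, 212, 202, 212], 1, 16⟩))) (.nd (.nd (.lf ⟨[0, 0, 0, -1, -1,
  -1, -1, -1], [52, 51, 50, 53, 52, 52, 52, 80], 3, 4⟩) (.lf ⟨[1, 2, 2, 4, 3, 2, 1, 0], [180, 180, 181, 179,
  180, 180, 180, 208], 2, 2⟩)) (.lf ⟨[-1, 0, -1, 0, 0, 0, 0, 0], [117, 116, 119, 112, 116, 116, 116, 116], 2,
  18⟩)))) (.nd (.nd (.nd (.nd (.lf ⟨[-1, -2, -3, -4, -4, -3, -2, -1], [11, 12, 13, 10, 15, 12, 12, 12], 3,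
  19⟩) (.lf ⟨[0, 0, 0, 0, 0, 1, 0, 0], [140, 140, 140, 140, 141, 99, 157, 140], 2, 16⟩)) (.nd (.lf ⟨[0, -1,
  -1, -1, -1, -1, -1, 0], [75, 78, 79, 74, 76, 76, 93, 48], 2, 22⟩) (.lf ⟨[1, 1, 2, 3, 2, 2, 1, 1], [204,
  205, 204, 203, 206, 199, 214, 176], 1, 15⟩))) (.nd (.nd (.lf ⟨[-1, -1, -2, -2, -1, -1, -1, -1], [44, 44,
  45, 44, 41, 44, 44, 72], 3, 9⟩) (.lf ⟨[1, 2, 2, 3, 2, 1, 1, 0], [172, 171, 172, 172, 172, 177, 155, 200],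
  2, 5⟩)) (.nd (.lf ⟨[0, 0, 0, -1, -1, 0, 0, 0], [108, 107, 106, 109, 115, 97, 108, 108], 2, 18⟩) (.lf ⟨[2,
  3, 4, 6, 5, 3, 2, 1], [236, 236, 236, 236, 235, 237, 236, 236], 1, 2⟩)))) (.nd (.nd (.nd (.lf ⟨[0, -1, -1,
  -2, -2, -2, -2, -1], [27, 28, 28, 28, 28, 28, 38, 28], 3, 10⟩) (.lf ⟨[0, 0, 0, 0, 0, 0, 1, 0], [156, 156,
  156, 156, 156, 157, 83, 184], 2, 16⟩)) (.nd (.lf ⟨[-1, -1, -1, -1, -1, -1, 0, 0], [93, 94, 92, 90, 92, 103,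
  75, 92], 2, 22⟩) (.lf ⟨[2, 2, 3, 4, 3, 2, 2, 1], [219, 220, 220, 220, 220, 225, 210, 220], 1, 9⟩))) (.nd
  (.nd (.lf ⟨[-1, -2, -2, -3, -3, -2, -1, 0], [60, 61, 60, 59, 62, 60, 60, 32], 2, 30⟩) (.lf ⟨[0, 1, 0, 1, 1,
  1, 1, 1], [188, 187, 191, 188, 188, 188, 188, 160], 1, 22⟩)) (.lf ⟨[0, 0, 0, 1, 0, 0, 0, 0], [124, 125,
  126, 115, 131, 124, 124, 124], 2, 16⟩)))))) (.nd (.nd (.nd (.nd (.nd (.nd (.lf ⟨[-2, -3, -4, -6, -5, -4,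
  -2, -1], [2, 2, 2, 2, 2, 3, 1, 2], 3, 26⟩) (.lf ⟨[0, 0, 0, 0, 1, 0, 0, 0], [130, 130, 130, 131, 109, 141,
  130, 130], 2, 16⟩)) (.nd (.lf ⟨[0, -1, -1, -2, -2, -2, -1, 0], [65, 66, 66, 66, 66, 71, 66, 38], 2, 25⟩)
  (.lf ⟨[1, 1, 1, 2, 1, 1, 1, 1], [193, 194, 195, 192, 197, 194, 194, 166], 1, 19⟩))) (.nd (.nd (.lf ⟨[-1,
  -2, -2, -3, -2, -2, -1, -1], [34, 35, 34, 34, 32, 39, 24, 62], 3, 13⟩) (.lf ⟨[1, 0, 1, 1, 1, 1, 1, 0],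
  [161, 164, 162, 162, 162, 162, 145, 190], 2, 11⟩)) (.nd (.lf ⟨[0, 0, 0, 0, -1, -1, 0, 0], [98, 98, 98, 97,
  99, 109, 81, 98], 2, 18⟩) (.lf ⟨[1, 2, 2, 4, 4, 3, 2, 1], [226, 226, 227, 226, 223, 226, 226, 226], 1,
  9⟩)))) (.nd (.nd (.nd (.lf ⟨[-1, -1, -2, -3, -3, -3, -2, -1], [18, 17, 18, 18, 18, 23, 18, 18], 3, 15⟩)
  (.lf ⟨[0, 1, 1, 1, 1, 1, 0, 0], [147, 144, 143, 148, 146, 135, 163, 146], 2, 12⟩)) (.nd (.lf ⟨[0, 0, 0, 0,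
  0, -1, -1, 0], [82, 82, 82, 82, 81, 83, 99, 54], 2, 18⟩) (.lf ⟨[2, 2, 3, 4, 3, 2, 1, 1], [209, 210, 210,
  210, 210, 210, 220, 182], 1, 10⟩))) (.nd (.nd (.lf ⟨[0, 0, -1, -1, -1, -1, -1, -1], [49, 48, 52, 50, 50,
  50, 50, 78], 3, 5⟩) (.lf ⟨[1, 1, 2, 3, 3, 2, 1, 0], [178, 179, 178, 178, 176, 178, 178, 206], 2, 4⟩)) (.lf
  ⟨[0, -1, 0, -1, 0, 0, 0, 0], [114, 115, 111, 118, 107, 114, 114, 114], 2, 18⟩)))) (.nd (.nd (.nd (.nd (.lf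
  ⟨[-1, -2, -3, -5, -4, -3, -2, -1], [9, 8, 10, 12, 10, 10, 10, 10], 3, 20⟩) (.lf ⟨[1, 1, 1, 2, 1, 0, 0, 0],
  [137, 138, 139, 136, 138, 149, 138, 138], 2, 11⟩)) (.nd (.lf ⟨[0, -1, -1, -2, -1, -1, -1, 0], [73, 74, 74,
  76, 71, 74, 91, 46], 2, 23⟩) (.lf ⟨[1, 1, 1, 2, 2, 2, 1, 1], [201, 202, 203, 202, 202, 197, 212, 174], 1,
  17⟩))) (.nd (.nd (.lf ⟨[-1, -1, -1, -2, -2, -1, -1, -1], [43, 42, 41, 42, 45, 37, 42, 70], 3, 9⟩) (.lf ⟨[1,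
  1, 2, 2, 2, 1, 1, 0], [170, 170, 169, 171, 167, 175, 153, 198], 2, 7⟩)) (.nd (.lf ⟨[0, 0, -1, -1, -1, 0, 0,
  0], [105, 104, 108, 106, 113, 95, 106, 106], 2, 19⟩) (.lf ⟨[2, 3, 4, 5, 4, 3, 2, 1], [234, 233, 232, 235,
  234, 234, 234, 234], 1, 4⟩)))) (.nd (.nd (.nd (.lf ⟨[-1, -1, -2, -2, -2, -2, -2, -1], [26, 26, 27, 25, 26,
  26, 36, 26], 3, 12⟩) (.lf ⟨[1, 1, 2, 3, 2, 1, 0, 0], [154, 155, 154, 153, 154, 154, 171, 154], 2, 7⟩)) (.nd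
  (.lf ⟨[-1, -1, -1, -2, -1, -1, 0, 0], [91, 90, 89, 92, 87, 101, 73, 90], 2, 23⟩) (.lf ⟨[1, 2, 2, 4, 3, 2,
  2, 1], [218, 218, 219, 217, 218, 223, 208, 218], 1, 11⟩))) (.nd (.nd (.lf ⟨[-1, -2, -3, -4, -3, -2, -1, 0],
  [57, 58, 59, 58, 58, 58, 58, 30], 2, 32⟩) (.lf ⟨[0, 0, 0, 0, 1, 1, 1, 1], [186, 186, 186, 187, 185, 186,
  186, 158], 1, 24⟩)) (.lf ⟨[0, 0, 1, 0, 0, 0, 0, 0], [123, 122, 117, 126, 122, 122, 122, 122], 2, 16⟩)))))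
  (.nd (.nd (.nd (.nd (.nd (.lf ⟨[-2, -2, -4, -5, -4, -3, -2, -1], [6, 5, 9, 6, 6, 6, 6, 6], 3, 22⟩) (.lf
  ⟨[1, 0, 1, 1, 1, 0, 0, 0], [133, 136, 134, 134, 127, 145, 134, 134], 2, 13⟩)) (.nd (.lf ⟨[-1, -1, -1, -2,
  -2, -1, -1, 0], [71, 70, 69, 70, 73, 65, 87, 42], 2, 25⟩) (.lf ⟨[1, 1, 2, 2, 2, 1, 1, 1], [198, 198, 197,
  199, 195, 203, 198, 170], 1, 17⟩))) (.nd (.nd (.lf ⟨[0, -1, -1, -2, -2, -2, -1, -1], [37, 38, 38, 38, 38,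
  43, 28, 66], 3, 9⟩) (.lf ⟨[1, 1, 1, 2, 1, 1, 1, 0], [165, 166, 167, 164, 169, 166, 149, 194], 2, 9⟩)) (.nd
  (.lf ⟨[0, -1, -1, -2, -1, 0, 0, 0], [101, 102, 102, 104, 102, 91, 102, 102], 2, 21⟩) (.lf ⟨[2, 2, 3, 5, 4,
  3, 2, 1], [229, 232, 233, 228, 230, 230, 230, 230], 1, 6⟩)))) (.nd (.nd (.nd (.lf ⟨[-1, -2, -2, -3, -3, -2,
  -2, -1], [22, 23, 22, 21, 24, 17, 32, 22], 3, 15⟩) (.lf ⟨[1, 1, 2, 2, 1, 1, 0, 0], [150, 150, 149, 150,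
  153, 139, 167, 150], 2, 9⟩)) (.nd (.lf ⟨[-1, -1, -2, -2, -2, -1, 0, 0], [86, 86, 87, 85, 89, 86, 69, 86],
  2, 25⟩) (.lf ⟨[1, 1, 2, 3, 2, 2, 2, 1], [214, 215, 214, 213, 216, 214, 204, 214], 1, 14⟩))) (.nd (.nd (.lf
  ⟨[0, 0, 0, 0, 0, -1, -1, -1], [54, 54, 54, 54, 53, 55, 54, 82], 3, 2⟩) (.lf ⟨[2, 2, 3, 4, 3, 2, 1, 0],
  [181, 182, 182, 182, 182, 182, 182, 210], 2, 0⟩)) (.lf ⟨[0, -1, 0, 0, 0, 0, 0, 0], [118, 121, 118, 114,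
  118, 118, 118, 118], 2, 17⟩)))) (.nd (.nd (.nd (.nd (.lf ⟨[-2, -2, -3, -4, -3, -3, -2, -1], [15, 14, 14,
  14, 11, 19, 14, 14], 3, 19⟩) (.lf ⟨[0, 0, 0, 1, 1, 1, 0, 0], [142, 143, 144, 141, 142, 131, 159, 142], 2,
  14⟩)) (.nd (.lf ⟨[0, 0, -1, -1, -1, -1, -1, 0], [77, 76, 80, 78, 78, 78, 95, 50], 2, 21⟩) (.lf ⟨[1, 1, 2,
  3, 3, 2, 1, 1], [206, 207, 206, 206, 204, 206, 216, 178], 1, 14⟩))) (.nd (.nd (.lf ⟨[0, -1, -1, -2, -1, -1,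
  -1, -1], [45, 46, 46, 48, 43, 46, 46, 74], 3, 7⟩) (.lf ⟨[1, 1, 1, 2, 2, 2, 1, 0], [173, 174, 175, 174, 174,
  169, 174, 202], 2, 7⟩)) (.nd (.lf ⟨[-1, -1, -1, -1, 0, 0, 0, 0], [111, 112, 110, 110, 103, 110, 110, 110],
  2, 20⟩) (.lf ⟨[2, 3, 4, 6, 5, 4, 3, 1], [238, 238, 238, 238, 238, 238, 237, 239], 1, 0⟩)))) (.nd (.nd (.nd
  (.lf ⟨[-1, -2, -3, -4, -3, -2, -1, -1], [29, 30, 31, 30, 30, 30, 20, 58], 3, 16⟩) (.lf ⟨[0, 0, 0, 0, 1, 1,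
  1, 0], [158, 158, 158, 159, 157, 158, 141, 186], 2, 14⟩)) (.nd (.lf ⟨[-1, 0, -1, -1, -1, -1, 0, 0], [95,
  92, 94, 94, 94, 105, 77, 94], 2, 21⟩) (.lf ⟨[1, 2, 2, 3, 3, 3, 2, 1], [222, 221, 222, 223, 222, 217, 222,
  222], 1, 11⟩))) (.nd (.nd (.lf ⟨[-1, -2, -2, -3, -2, -2, -1, 0], [62, 63, 62, 62, 60, 67, 62, 34], 2, 29⟩)
  (.lf ⟨[1, 0, 1, 1, 1, 1, 1, 1], [189, 192, 190, 190, 190, 190, 190, 162], 1, 21⟩)) (.lf ⟨[0, 0, 1, 1, 0, 0,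
  0, 0], [127, 128, 124, 122, 133, 126, 126, 126], 2, 15⟩))))))) (.nd (.nd (.nd (.nd (.nd (.nd (.nd (.lf
  ⟨[-2, -3, -4, -6, -5, -4, -3, -1], [1, 1, 1, 1, 1, 1, 2, 0], 3, 27⟩) (.lf ⟨[1, 1, 1, 1, 0, 0, 0, 0], [128,
  127, 129, 129, 136, 129, 129, 129], 2, 13⟩)) (.nd (.lf ⟨[-1, -1, -1, -2, -2, -2, -1, 0], [66, 65, 64, 65,
  65, 70, 65, 37], 2, 26⟩) (.lf ⟨[0, 1, 1, 2, 1, 1, 1, 1], [194, 193, 193, 191, 196, 193, 193, 165], 1,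
  20⟩))) (.nd (.nd (.lf ⟨[-1, -1, -2, -3, -3, -2, -1, -1], [33, 32, 33, 33, 35, 33, 23, 61], 3, 13⟩) (.lf
  ⟨[0, 0, 1, 1, 1, 1, 1, 0], [162, 163, 159, 161, 161, 161, 144, 189], 2, 12⟩)) (.nd (.lf ⟨[0, 0, 0, -1, -1,
  -1, 0, 0], [97, 96, 95, 98, 97, 108, 80, 97], 2, 19⟩) (.lf ⟨[2, 2, 3, 4, 3, 3, 2, 1], [224, 225, 225, 225,
  228, 220, 225, 225], 1, 8⟩)))) (.nd (.nd (.nd (.lf ⟨[-1, -2, -2, -3, -3, -3, -2, -1], [17, 18, 17, 16, 17,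
  22, 17, 17], 3, 16⟩) (.lf ⟨[1, 0, 1, 1, 1, 1, 0, 0], [144, 147, 145, 145, 145, 134, 162, 145], 2, 12⟩))
  (.nd (.lf ⟨[0, 0, 0, 0, -1, -1, -1, 0], [81, 81, 81, 80, 82, 81, 98, 53], 2, 19⟩) (.lf ⟨[1, 2, 3, 4, 3, 2,
  1, 1], [210, 209, 208, 209, 209, 209, 219, 181], 1, 11⟩))) (.nd (.nd (.lf ⟨[-1, 0, -1, -1, -1, -1, -1, -1],
  [50, 47, 49, 49, 49, 49, 49, 77], 3, 6⟩) (.lf ⟨[1, 2, 2, 3, 2, 2, 1, 0], [177, 176, 177, 177, 179, 172,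
  177, 205], 2, 4⟩)) (.lf ⟨[0, 0, -1, -1, 0, 0, 0, 0], [112, 111, 115, 117, 106, 113, 113, 113], 2, 18⟩))))
  (.nd (.nd (.nd (.nd (.lf ⟨[-2, -2, -3, -5, -4, -3, -2, -1], [10, 7, 6, 11, 9, 9, 9, 9], 3, 21⟩) (.lf ⟨[0,
  1, 1, 2, 1, 0, 0, 0], [138, 137, 137, 135, 137, 148, 137, 137], 2, 12⟩)) (.nd (.lf ⟨[-1, -1, -1, -2, -1,
  -1, -1, 0], [74, 73, 72, 75, 70, 73, 90, 45], 2, 24⟩) (.lf ⟨[0, 1, 1, 2, 2, 2, 1, 1], [202, 201, 201, 201,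
  201, 196, 211, 173], 1, 18⟩))) (.nd (.nd (.lf ⟨[-1, -1, -2, -2, -2, -1, -1, -1], [41, 41, 42, 40, 44, 36,
  41, 69], 3, 10⟩) (.lf ⟨[1, 1, 1, 2, 2, 1, 1, 0], [168, 169, 170, 169, 166, 174, 152, 197], 2, 8⟩)) (.nd
  (.lf ⟨[-1, 0, -1, -1, -1, 0, 0, 0], [106, 103, 105, 105, 112, 94, 105, 105], 2, 20⟩) (.lf ⟨[2, 2, 4, 5, 4,
  3, 2, 1], [233, 234, 230, 233, 233, 233, 233, 233], 1, 5⟩)))) (.nd (.nd (.nd (.lf ⟨[-1, -1, -2, -3, -2, -2,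
  -2, -1], [25, 24, 25, 26, 23, 25, 35, 25], 3, 13⟩) (.lf ⟨[1, 1, 2, 2, 2, 1, 0, 0], [153, 153, 152, 154,
  150, 153, 170, 153], 2, 8⟩)) (.nd (.lf ⟨[-1, -1, -2, -2, -1, -1, 0, 0], [89, 89, 90, 89, 86, 100, 72, 89],
  2, 24⟩) (.lf ⟨[1, 2, 2, 3, 3, 2, 2, 1], [217, 216, 217, 218, 215, 222, 207, 217], 1, 12⟩))) (.nd (.nd (.lf
  ⟨[-2, -2, -3, -4, -3, -2, -1, 0], [58, 57, 57, 57, 57, 57, 57, 29], 2, 33⟩) (.lf ⟨[0, 0, 0, 0, 0, 1, 1, 1],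
  [185, 185, 185, 185, 186, 184, 185, 157], 1, 25⟩)) (.lf ⟨[0, 1, 0, 0, 0, 0, 0, 0], [121, 118, 121, 125,
  121, 121, 121, 121], 2, 16⟩))))) (.nd (.nd (.nd (.nd (.nd (.lf ⟨[-2, -3, -4, -5, -4, -3, -2, -1], [5, 6, 7,
  4, 5, 5, 5, 5], 3, 23⟩) (.lf ⟨[0, 0, 1, 1, 1, 0, 0, 0], [134, 135, 131, 133, 126, 144, 133, 133], 2, 14⟩))
  (.nd (.lf ⟨[-1, -1, -2, -2, -2, -1, -1, 0], [69, 69, 70, 68, 72, 64, 86, 41], 2, 26⟩) (.lf ⟨[1, 1, 1, 2, 2,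
  1, 1, 1], [196, 197, 198, 197, 194, 202, 197, 169], 1, 18⟩))) (.nd (.nd (.lf ⟨[-1, -1, -1, -2, -2, -2, -1,
  -1], [38, 37, 36, 37, 37, 42, 27, 65], 3, 10⟩) (.lf ⟨[0, 1, 1, 2, 1, 1, 1, 0], [166, 165, 165, 163, 168,
  165, 148, 193], 2, 10⟩)) (.nd (.lf ⟨[-1, -1, -1, -2, -1, 0, 0, 0], [102, 101, 100, 103, 101, 90, 101, 101],
  2, 22⟩) (.lf ⟨[1, 2, 3, 5, 4, 3, 2, 1], [230, 231, 229, 227, 229, 229, 229, 229], 1, 7⟩)))) (.nd (.nd (.nd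
  (.lf ⟨[-1, -2, -2, -4, -3, -2, -2, -1], [21, 21, 20, 22, 21, 16, 31, 21], 3, 16⟩) (.lf ⟨[1, 1, 1, 2, 1, 1,
  0, 0], [148, 149, 150, 147, 152, 138, 166, 149], 2, 10⟩)) (.nd (.lf ⟨[-1, -1, -2, -3, -2, -1, 0, 0], [85,
  84, 85, 86, 85, 85, 68, 85], 2, 26⟩) (.lf ⟨[1, 1, 2, 2, 2, 2, 2, 1], [213, 213, 212, 214, 213, 213, 203,
  213], 1, 15⟩))) (.nd (.nd (.lf ⟨[0, 0, 0, 0, -1, -1, -1, -1], [53, 53, 53, 52, 54, 53, 53, 81], 3, 3⟩) (.lf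
  ⟨[1, 2, 3, 4, 3, 2, 1, 0], [182, 181, 180, 181, 181, 181, 181, 209], 2, 1⟩)) (.lf ⟨[0, 0, -1, 0, 0, 0, 0,
  0], [116, 117, 122, 113, 117, 117, 117, 117], 2, 17⟩)))) (.nd (.nd (.nd (.nd (.lf ⟨[-1, -2, -2, -4, -4, -3,
  -2, -1], [13, 13, 12, 13, 16, 13, 13, 13], 3, 18⟩) (.lf ⟨[0, 0, 0, 0, 1, 1, 0, 0], [141, 141, 141, 142,
  140, 130, 158, 141], 2, 15⟩)) (.nd (.lf ⟨[-1, 0, -1, -1, -1, -1, -1, 0], [78, 75, 77, 77, 77, 77, 94, 49],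
  2, 22⟩) (.lf ⟨[1, 2, 2, 3, 2, 2, 1, 1], [205, 204, 205, 205, 207, 200, 215, 177], 1, 14⟩))) (.nd (.nd (.lf
  ⟨[-1, -1, -1, -2, -1, -1, -1, -1], [46, 45, 44, 47, 42, 45, 45, 73], 3, 8⟩) (.lf ⟨[0, 1, 1, 2, 2, 2, 1, 0],
  [174, 173, 173, 173, 173, 168, 173, 201], 2, 8⟩)) (.nd (.lf ⟨[0, 0, 0, 0, -1, 0, 0, 0], [109, 109, 109,
  108, 130, 98, 109, 109], 2, 17⟩) (.lf ⟨[2, 3, 4, 6, 5, 4, 2, 1], [237, 237, 237, 237, 237, 236, 238, 237],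
  1, 1⟩)))) (.nd (.nd (.nd (.lf ⟨[-2, -2, -3, -4, -3, -2, -1, -1], [30, 29, 29, 29, 29, 29, 19, 57], 3, 17⟩)
  (.lf ⟨[0, 0, 0, 0, 0, 1, 1, 0], [157, 157, 157, 157, 158, 156, 140, 185], 2, 15⟩)) (.nd (.lf ⟨[0, -1, -1,
  -1, -1, -1, 0, 0], [92, 95, 96, 91, 93, 104, 76, 93], 2, 21⟩) (.lf ⟨[1, 1, 2, 3, 3, 3, 2, 1], [221, 222,
  221, 221, 221, 216, 221, 221], 1, 12⟩))) (.nd (.nd (.lf ⟨[-1, -1, -2, -3, -3, -2, -1, 0], [61, 60, 61, 61,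
  63, 61, 61, 33], 2, 29⟩) (.lf ⟨[0, 0, 1, 1, 1, 1, 1, 1], [190, 191, 187, 189, 189, 189, 189, 161], 1, 22⟩))
  (.lf ⟨[0, 1, 0, 1, 0, 0, 0, 0], [125, 124, 128, 121, 132, 125, 125, 125], 2, 15⟩)))))) (.nd (.nd (.nd (.nd
  (.nd (.nd (.lf ⟨[-2, -3, -4, -6, -5, -3, -2, -1], [3, 3, 3, 3, 4, 2, 3, 3], 3, 25⟩) (.lf ⟨[0, 0, 0, 1, 1,
  0, 0, 0], [131, 132, 133, 130, 124, 142, 131, 131], 2, 15⟩)) (.nd (.lf ⟨[-1, -2, -2, -3, -2, -1, -1, 0],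
  [67, 68, 67, 67, 67, 62, 84, 39], 2, 28⟩) (.lf ⟨[1, 1, 2, 2, 1, 1, 1, 1], [195, 195, 194, 195, 198, 195,
  195, 167], 1, 18⟩))) (.nd (.nd (.lf ⟨[-1, -1, -2, -3, -2, -2, -1, -1], [35, 34, 35, 36, 33, 40, 25, 63], 3,
  12⟩) (.lf ⟨[0, 1, 1, 1, 1, 1, 1, 0], [164, 161, 160, 165, 163, 163, 146, 191], 2, 11⟩)) (.nd (.lf ⟨[0, 0,
  0, 0, 0, -1, 0, 0], [99, 99, 99, 99, 98, 140, 82, 99], 2, 17⟩) (.lf ⟨[1, 2, 3, 4, 4, 3, 2, 1], [228, 227,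
  226, 229, 224, 227, 227, 227], 1, 8⟩)))) (.nd (.nd (.nd (.lf ⟨[-2, -2, -3, -4, -3, -2, -2, -1], [20, 19,
  19, 19, 19, 14, 29, 19], 3, 18⟩) (.lf ⟨[1, 1, 1, 1, 1, 1, 0, 0], [146, 145, 147, 149, 147, 136, 164, 147],
  2, 11⟩)) (.nd (.lf ⟨[0, 0, 0, 0, 0, 0, -1, 0], [83, 83, 83, 83, 83, 82, 156, 55], 2, 17⟩) (.lf ⟨[0, 1, 1,
  2, 2, 2, 2, 1], [212, 211, 211, 211, 211, 211, 201, 211], 1, 17⟩))) (.nd (.nd (.lf ⟨[0, -1, 0, -1, -1, -1,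
  -1, -1], [51, 52, 48, 51, 51, 51, 51, 79], 3, 5⟩) (.lf ⟨[1, 2, 2, 3, 3, 2, 1, 0], [179, 178, 179, 180, 177,
  179, 179, 207], 2, 3⟩)) (.lf ⟨[0, 0, 0, -1, 0, 0, 0, 0], [115, 114, 113, 124, 108, 115, 115, 115], 2,
  17⟩)))) (.nd (.nd (.nd (.nd (.lf ⟨[-2, -2, -3, -4, -4, -3, -2, -1], [12, 11, 11, 9, 14, 11, 11, 11], 3,
  20⟩) (.lf ⟨[1, 1, 2, 2, 1, 0, 0, 0], [139, 139, 138, 139, 139, 150, 139, 139], 2, 10⟩)) (.nd (.lf ⟨[-1, -1,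
  -1, -1, -1, -1, -1, 0], [76, 77, 75, 73, 75, 75, 92, 47], 2, 23⟩) (.lf ⟨[1, 1, 2, 2, 2, 2, 1, 1], [203,
  203, 202, 204, 203, 198, 213, 175], 1, 16⟩))) (.nd (.nd (.lf ⟨[0, -1, -1, -2, -2, -1, -1, -1], [42, 43, 43,
  43, 46, 38, 43, 71], 3, 8⟩) (.lf ⟨[1, 1, 2, 3, 2, 1, 1, 0], [171, 172, 171, 170, 171, 176, 154, 199], 2,
  6⟩)) (.nd (.lf ⟨[0, -1, 0, -1, -1, 0, 0, 0], [107, 108, 104, 107, 114, 96, 107, 107], 2, 19⟩) (.lf ⟨[2, 3,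
  4, 6, 4, 3, 2, 1], [235, 235, 235, 234, 236, 235, 235, 235], 1, 3⟩)))) (.nd (.nd (.nd (.lf ⟨[-1, -1, -1,
  -2, -2, -2, -2, -1], [28, 27, 26, 27, 27, 27, 37, 27], 3, 11⟩) (.lf ⟨[1, 2, 2, 3, 2, 1, 0, 0], [155, 154,
  155, 155, 155, 155, 172, 155], 2, 6⟩)) (.nd (.lf ⟨[0, -1, -1, -2, -1, -1, 0, 0], [90, 91, 91, 93, 88, 102,
  74, 91], 2, 22⟩) (.lf ⟨[1, 2, 3, 4, 3, 2, 2, 1], [220, 219, 218, 219, 219, 224, 209, 219], 1, 10⟩))) (.nd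
  (.nd (.lf ⟨[-1, -2, -2, -4, -3, -2, -1, 0], [59, 59, 58, 60, 59, 59, 59, 31], 2, 31⟩) (.lf ⟨[0, 0, 0, 1, 1,
  1, 1, 1], [187, 188, 189, 186, 187, 187, 187, 159], 1, 23⟩)) (.lf ⟨[1, 0, 1, 0, 0, 0, 0, 0], [122, 123,
  120, 127, 123, 123, 123, 123], 2, 15⟩))))) (.nd (.nd (.nd (.nd (.nd (.lf ⟨[-2, -3, -3, -5, -4, -3, -2, -1],
  [8, 9, 5, 7, 7, 7, 7, 7], 3, 22⟩) (.lf ⟨[0, 1, 1, 1, 1, 0, 0, 0], [136, 133, 132, 137, 128, 146, 135, 135],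
  2, 13⟩)) (.nd (.lf ⟨[0, -1, -1, -2, -2, -1, -1, 0], [70, 71, 71, 71, 74, 66, 88, 43], 2, 24⟩) (.lf ⟨[1, 1,
  2, 3, 2, 1, 1, 1], [199, 200, 199, 198, 199, 204, 199, 171], 1, 16⟩))) (.nd (.nd (.lf ⟨[-1, -2, -2, -3, -2,
  -1, -1, -1], [39, 40, 39, 39, 39, 34, 39, 67], 3, 12⟩) (.lf ⟨[1, 1, 2, 2, 1, 1, 1, 0], [167, 167, 166, 167,
  170, 167, 150, 195], 2, 8⟩)) (.nd (.lf ⟨[-1, -1, -1, -1, -1, 0, 0, 0], [104, 105, 103, 101, 110, 92, 103,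
  103], 2, 21⟩) (.lf ⟨[1, 3, 3, 5, 4, 3, 2, 1], [232, 229, 231, 231, 231, 231, 231, 231], 1, 6⟩)))) (.nd (.nd
  (.nd (.lf ⟨[-1, -1, -2, -3, -3, -2, -2, -1], [23, 22, 23, 23, 25, 18, 33, 23], 3, 14⟩) (.lf ⟨[0, 1, 1, 2,
  2, 1, 0, 0], [152, 151, 151, 151, 148, 151, 168, 151], 2, 10⟩)) (.nd (.lf ⟨[-1, -1, -1, -2, -2, -1, 0, 0],
  [88, 87, 86, 87, 90, 87, 70, 87], 2, 24⟩) (.lf ⟨[1, 2, 2, 3, 2, 2, 2, 1], [215, 214, 215, 215, 217, 215,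
  205, 215], 1, 13⟩))) (.nd (.nd (.lf ⟨[0, 0, 0, 0, 0, 0, -1, -1], [55, 55, 55, 55, 55, 54, 56, 83], 3, 1⟩)
  (.lf ⟨[0, 0, 0, 0, 0, 0, 0, 1], [183, 183, 183, 183, 183, 183, 184, 56], 1, 27⟩)) (.lf ⟨[-1, 0, 0, 0, 0, 0,
  0, 0], [120, 119, 116, 119, 119, 119, 119, 119], 2, 17⟩)))) (.nd (.nd (.nd (.nd (.lf ⟨[-1, -2, -3, -4, -3,
  -3, -2, -1], [14, 15, 16, 15, 12, 20, 15, 15], 3, 18⟩) (.lf ⟨[0, 1, 0, 1, 1, 1, 0, 0], [143, 142, 146, 143,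
  143, 132, 160, 143], 2, 13⟩)) (.nd (.lf ⟨[0, -1, 0, -1, -1, -1, -1, 0], [79, 80, 76, 79, 79, 79, 96, 51],
  2, 21⟩) (.lf ⟨[1, 2, 2, 3, 3, 2, 1, 1], [207, 206, 207, 208, 205, 207, 217, 179], 1, 13⟩))) (.nd (.nd (.lf
  ⟨[-1, -1, -1, -1, -1, -1, -1, -1], [48, 49, 47, 45, 47, 47, 47, 75], 3, 7⟩) (.lf ⟨[1, 1, 2, 2, 2, 2, 1, 0],
  [175, 175, 174, 176, 175, 170, 175, 203], 2, 6⟩)) (.nd (.lf ⟨[0, -1, -1, -1, 0, 0, 0, 0], [110, 113, 114,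
  111, 104, 111, 111, 111], 2, 19⟩) (.lf ⟨[2, 3, 4, 6, 5, 4, 3, 2], [239, 239, 239, 239, 239, 239, 239, 238],
  0, 0⟩)))) (.nd (.nd (.nd (.lf ⟨[-1, -2, -2, -4, -3, -2, -1, -1], [31, 31, 30, 32, 31, 31, 21, 59], 3, 15⟩)
  (.lf ⟨[0, 0, 0, 1, 1, 1, 1, 0], [159, 160, 161, 158, 159, 159, 142, 187], 2, 13⟩)) (.nd (.lf ⟨[0, 0, -1,
  -1, -1, -1, 0, 0], [94, 93, 97, 95, 95, 106, 78, 95], 2, 20⟩) (.lf ⟨[1, 2, 2, 4, 3, 3, 2, 1], [223, 223,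
  224, 222, 226, 218, 223, 223], 1, 10⟩))) (.nd (.nd (.lf ⟨[-1, -1, -2, -3, -2, -2, -1, 0], [63, 62, 63, 64,
  61, 68, 63, 35], 2, 28⟩) (.lf ⟨[0, 1, 1, 1, 1, 1, 1, 1], [192, 189, 188, 193, 191, 191, 191, 163], 1, 21⟩))
  (.lf ⟨[1, 0, 1, 1, 0, 0, 0, 0], [126, 129, 127, 123, 134, 127, 127, 127], 2, 14⟩)))))))

/-- the rows of the Cartan matrix -/
def rows : List (List ℤ) := [[2, 0, -1, 0, 0, 0, 0, 0], [0, 2, 0, -1, 0, 0, 0, 0], [-1, 0, 2, -1, 0, 0, 0,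
  0], [0, -1, -1, 2, -1, 0, 0, 0], [0, 0, 0, -1, 2, -1, 0, 0], [0, 0, 0, 0, -1, 2, -1, 0], [0, 0, 0, 0, 0,
  -1, 2, -1], [0, 0, 0, 0, 0, 0, -1, 2]]

theorem hc : allB (chkB T rows 8 240 5 7 [239, 238, 182, 56, 0] [1, 3, 9, 27, 81, 243, 729, 2187]) 240 = true := by decide +kernel

theorem tab : TabC 240 5 cE8b 7 T rows [239, 238, 182, 56, 0] [1, 3, 9, 27, 81, 243, 729, 2187] 239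
    ![[], [7], [7, 6, 5, 4, 3, 1, 2, 3, 4, 5, 6, 7], [7, 6, 5, 4, 3, 1, 2, 0, 3, 2, 4, 3, 1, 5, 4, 3, 2, 0, 6, 5, 4, 3, 1, 2, 3, 4, 5, 6, 7], [7, 6, 5, 4, 3, 1, 2, 0, 3, 2, 4, 3, 1, 5, 4, 3, 2, 0, 6, 5, 4, 3, 1, 2, 3, 4, 5, 6, 7, 6, 5, 4, 3, 1, 2, 0, 3, 2, 4, 3, 1, 5, 4, 3, 2, 0, 6, 5, 4, 3, 1, 2, 3, 4, 5, 6, 7]] where
  hr1 := by decide +kernel
  hr2 := by decide +kernel
  hr3 := by decide +kernel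
  hh := by decide +kernel
  hsy := by decide +kernel
  hc := hc
  hb0 := by decide +kernel
  hd1 := by decide +kernel
  hd2 := by decide +kernel
  hd3 := by decide +kernel
  hbs := by decide +kernel
  hwd := by decide +kernel

theorem ex1 : ∀ k : Fin 5, (T.get (nn [239, 238, 182, 56, 0] k)).e = 0 := by decide +kernel

/-- exponent, sign, level of the image -/
def dg : Fin 5 → List (ℕ × ℕ × Fin 5) := ![[(0, 1, 1)], [(27, 1, 3), (26, 1, 2), (25, 1, 2), (24, 1, 2), (23,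
  1, 2), (22, 1, 2), (22, 1, 2), (21, 1, 2), (21, 1, 2), (20, 1, 2), (20, 1, 2), (19, 1, 2), (18, 1, 2), (19,
  1, 2), (18, 1, 2), (17, 1, 2), (16, 1, 2), (15, 1, 2), (18, 1, 2), (17, 1, 2), (16, 1, 2), (15, 1, 2), (14,
  1, 2), (14, 1, 2), (13, 1, 2), (12, 1, 2), (11, 1, 2), (10, 1, 2), (17, 0, 1), (16, 0, 1), (15, 0, 1), (14,
  0, 1), (13, 0, 1), (13, 0, 1), (12, 0, 1), (11, 0, 1), (10, 0, 1), (9, 0, 1), (12, 0, 1), (11, 0, 1), (10,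
  0, 1), (9, 0, 1), (8, 0, 1), (9, 0, 1), (8, 0, 1), (7, 0, 1), (7, 0, 1), (6, 0, 1), (6, 0, 1), (5, 0, 1),
  (5, 0, 1), (4, 0, 1), (3, 0, 1), (2, 0, 1), (1, 0, 1), (0, 2, 0)], [(33, 1, 3), (32, 1, 3), (31, 1, 3),
  (30, 1, 3), (29, 1, 3), (29, 1, 3), (28, 1, 3), (27, 1, 3), (26, 1, 3), (25, 1, 3), (28, 1, 3), (27, 1, 3),
  (26, 1, 3), (25, 1, 3), (24, 1, 3), (25, 1, 3), (24, 1, 3), (23, 1, 3), (23, 1, 3), (22, 1, 3), (22, 1, 3),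
  (21, 1, 3), (21, 1, 3), (20, 1, 3), (19, 1, 3), (18, 1, 3), (17, 1, 3), (27, 0, 2), (26, 0, 2), (25, 0, 2),
  (24, 0, 2), (23, 0, 2), (24, 0, 2), (23, 0, 2), (22, 0, 2), (22, 0, 2), (21, 0, 2), (21, 0, 2), (20, 0, 2),
  (20, 0, 2), (19, 0, 2), (18, 0, 2), (17, 0, 2), (23, 0, 2), (22, 0, 2), (21, 0, 2), (21, 0, 2), (20, 0, 2),
  (20, 0, 2), (19, 0, 2), (19, 0, 2), (18, 0, 2), (17, 0, 2), (20, 0, 2), (19, 0, 2), (19, 0, 2), (18, 0, 2),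
  (18, 0, 2), (17, 0, 2), (18, 0, 2), (17, 0, 2), (17, 0, 2), (17, 0, 2), (16, 0, 2), (16, 0, 2), (16, 0, 2),
  (15, 0, 2), (16, 0, 2), (15, 0, 2), (15, 0, 2), (14, 0, 2), (14, 0, 2), (13, 0, 2), (16, 0, 2), (15, 0, 2),
  (14, 0, 2), (14, 0, 2), (13, 0, 2), (13, 0, 2), (12, 0, 2), (12, 0, 2), (11, 0, 2), (10, 0, 2), (16, 0, 2),
  (15, 0, 2), (14, 0, 2), (13, 0, 2), (13, 0, 2), (12, 0, 2), (12, 0, 2), (11, 0, 2), (11, 0, 2), (10, 0, 2),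
  (9, 0, 2), (10, 0, 2), (9, 0, 2), (8, 0, 2), (7, 0, 2), (6, 0, 2), (16, 2, 1), (15, 2, 1), (14, 2, 1), (13,
  2, 1), (12, 2, 1), (12, 2, 1), (11, 2, 1), (11, 2, 1), (10, 2, 1), (10, 2, 1), (9, 2, 1), (8, 2, 1), (9, 2,
  1), (8, 2, 1), (7, 2, 1), (6, 2, 1), (5, 2, 1), (8, 2, 1), (7, 2, 1), (6, 2, 1), (5, 2, 1), (4, 2, 1), (4,
  2, 1), (3, 2, 1), (2, 2, 1), (1, 2, 1), (0, 2, 1)], [(27, 1, 4), (26, 0, 3), (25, 0, 3), (24, 0, 3), (23,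
  0, 3), (22, 0, 3), (22, 0, 3), (21, 0, 3), (21, 0, 3), (20, 0, 3), (20, 0, 3), (19, 0, 3), (18, 0, 3), (19,
  0, 3), (18, 0, 3), (17, 0, 3), (16, 0, 3), (15, 0, 3), (18, 0, 3), (17, 0, 3), (16, 0, 3), (15, 0, 3), (14,
  0, 3), (14, 0, 3), (13, 0, 3), (12, 0, 3), (11, 0, 3), (10, 0, 3), (17, 2, 2), (16, 2, 2), (15, 2, 2), (14,
  2, 2), (13, 2, 2), (13, 2, 2), (12, 2, 2), (11, 2, 2), (10, 2, 2), (9, 2, 2), (12, 2, 2), (11, 2, 2), (10,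
  2, 2), (9, 2, 2), (8, 2, 2), (9, 2, 2), (8, 2, 2), (7, 2, 2), (7, 2, 2), (6, 2, 2), (6, 2, 2), (5, 2, 2),
  (5, 2, 2), (4, 2, 2), (3, 2, 2), (2, 2, 2), (1, 2, 2), (0, 2, 1)], [(0, 2, 3)]]

theorem hdg : ∀ k : Fin 5, eqE (gath T (nl rows ((7 : Fin 8) : ℕ)) ((7 : Fin 8) : ℕ) k 240 []) (dg k) = true := by decide +kernel

theorem hne : ∀ k, dg k ≠ [] := by decide +kernel

/-- the eigenvalues -/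
def NN : Fin 5 → List ℤ := ![[0, 1, 1, 1, 1, 1, 2, 2, 2, 2, 3, 3, 3, 3, 3, 3, 3, 3, 3, 3, 2, 2, 2, 2, 1, 1,
  1, 1, 1], [-1, 0, 0, 0, 0, 0, 1, 1, 1, 1, 2, 2, 2, 2, 3, 2, 2, 2, 2, 2, 1, 1, 1, 1], [-1, 0, 0, 0, 0, -1,
  0, 0, 0, 0, 1, 1, 1, 1, 1, 1, 1, 1, 1, 1], [-1, 0, 0, 0, 0, -1, 0, 0, 0, -1, 0, 0, 0, 0, 1], [-1, 0, 0, 0,
  0, -1, 0, 0, 0, -1, 0, 0, 0, 0, -1]]

/-- the eigenvectors -/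
def UU : Fin 5 → Fin 5 → List ℤ := ![![[1], [1], [1], [1], [1]], ![[0, 0, 0, 0, 0, 0, 0, 0, 0, 0, 0, 0, 0, 0,
  0, 1, 1, 0, -1, -1, 0, 1, 1], [0, 0, 0, 0, 0, 0, 0, 0, 0, 0, 0, 0, 0, 0, -1, 0, 1, 1], [0, 0, 0, 0, 0, 0,
  0, 0, 0, -1, -1, 0, 1, 1], [0, 0, 0, 0, 0, -1, -1, 0, 1], [-1, -1, 0, 1, 1, 0, -1, -1]], ![[0, 0, 0, 0, 0,
  0, 0, 0, 0, 0, 0, 0, 0, 0, 0, 0, 0, 0, 0, 0, 0, 0, 0, 0, 1, 1, 1, 0, 0, 0, 1, 1, 1, 1, 1, 1, 1, 1, 0, 0, 0,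
  1, 1, 1], [0, 0, 0, 0, 0, 0, 0, 0, 0, 0, 0, 0, 0, 0, 0, 0, 0, 0, 0, 0, 0, 0, 0, -1, 0, 0, 1, 0, 0, -1, 0,
  0, 1, 1, 1], [0, 0, 0, 0, 0, 0, 0, 0, 0, 0, 0, 0, 0, 0, 0, 0, 0, 1, 0, 0, -1, -1, -1, -1, 0, 0, 1], [0, 0,
  0, 0, 0, 0, 0, 0, 0, 1, 1, 1, 0, 0, -1, 0, 0, 1, 0, 0, -1], [1, 1, 1, 0, 0, 0, 1, 1, 1, 1, 1, 1, 1, 1, 0,
  0, 0, 1, 1, 1]], ![[0, 0, 0, 0, 0, 0, 0, 0, 0, 0, 0, 0, 0, 0, 0, 0, 0, 0, 0, 0, 0, 0, 0, 0, 0, 0, 0, 0, 0,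
  0, 1, 1, 1, 1, 1, 2, 2, 2, 2, 3, 3, 3, 3, 3, 3, 3, 3, 3, 3, 2, 2, 2, 2, 1, 1, 1, 1, 1], [0, 0, 0, 0, 0, 0,
  0, 0, 0, 0, 0, 0, 0, 0, 0, 0, 0, 0, 0, 0, 0, 0, 0, 0, 0, 0, 0, 0, 0, -1, 0, 0, 0, 0, -1, 0, 0, 0, -1, 0, 0,
  0, 0, 1], [0, 0, 0, 0, 0, 0, 0, 0, 0, 0, 0, 0, 0, 0, 0, 0, 0, 0, 0, 0, 0, 0, 0, 1, 0, 0, 0, 0, 1, -1, 0, 0,
  0, 0, -1], [0, 0, 0, 0, 0, 0, 0, 0, 0, 0, 0, 0, 0, 0, -1, 0, 0, 0, 0, 1, 0, 0, 0, 1, 0, 0, 0, 0, 1], [-1,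
  -1, -1, -1, -1, -2, -2, -2, -2, -3, -3, -3, -3, -3, -3, -3, -3, -3, -3, -2, -2, -2, -2, -1, -1, -1, -1,
  -1]], ![[0, 0, 0, 0, 0, 0, 0, 0, 0, 0, 0, 0, 0, 0, 0, 0, 0, 0, 0, 0, 0, 0, 0, 0, 0, 0, 0, 0, 0, 0, 1, 1, 1,
  2, 2, 2, 3, 3, 3, 3, 3, 3, 3, 3, 2, 2, 2, 1, 1, 1], [0, 0, 0, 0, 0, 0, 0, 0, 0, 0, 0, 0, 0, 0, 0, 0, 0, 0,
  0, 0, 0, 0, 0, 0, 0, 0, 0, 0, 0, -1, 0, 0, -1, 0, 0, -1], [0, 0, 0, 0, 0, 0, 0, 0, 0, 0, 0, 0, 0, 0, 0, 0,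
  0, 0, 0, 0, 0, 0, 0, 1, 0, 0, 1], [0, 0, 0, 0, 0, 0, 0, 0, 0, 0, 0, 0, 0, 0, -1, 0, 0, -1, 0, 0, -1], [1,
  1, 1, 2, 2, 2, 3, 3, 3, 3, 3, 3, 3, 3, 2, 2, 2, 1, 1, 1]]]

theorem check : checkK dg 1 NN UU 4194304 56 126 56 := by decide +kernel

theorem hN : ∀ i j, i < j → posL (addL (NN i) (smL (-1) (NN j))) = true := by decide +kernel

theorem hU0 : ∀ i, posL (UU i 0) = true := by decide +kernel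

end E8E7

/-- `E₈`, the parabolic subgroup of type `E₇` -/
theorem int_E8_E7 (K : Type u) [Field K] [Fintype K]
    [Fintype (PJ CoxeterMatrix.E₈.toCoxeterSystem hpE8.isCartan (TT chevE8 K) (XX chevE8 8 K) {j | j ≠ 7})]
    {χ : ↥((chevE8).group K) → ℂ} (hχ : IsIrrCharacter ↥((chevE8).group K) χ)
    (h0 : ∑ g : PJ CoxeterMatrix.E₈.toCoxeterSystem hpE8.isCartan (TT chevE8 K) (XX chevE8 8 K) {j | j ≠ 7}, χ g ≠ 0)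
    (g : ↥((chevE8).group K)) : ∃ k : ℤ, χ g = k :=
  int_chev_kron hpE8 K isCartan_cE8b E8E7.tab E8E7.ex1 E8E7.hdg E8E7.hne E8E7.check E8E7.hN E8E7.hU0 hχ h0 g

end Cfsg.Agent.H498.RP
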