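import Cfsg.Agent.H498.RP.Mbr
import Cfsg.Agent.H498.RP.E8E7

/-!
# `E8`, node 7: the constituents of the character induced from the Steinberg character (helper498)
-/

set_option autoImplicit false
set_option maxRecDepth 100000
set_option maxHeartbeats 0

open Cfsg

namespace Cfsg.Agent.H498.RP

open CoxeterSystem Cfsg.Agent.ChevalleyStructure.CoxeterGeom Cfsg.Agent.Tits.Roots Cfsg.Agent.Tits.Core
  Cfsg.Agent.Tits.Exchange Cfsg.Agent.Nodes.Reps Cfsg.Agent.Nodes.BNOf Cfsg.Agent.Nodes.StabComb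
  Cfsg.Agent.Nodes.Bruhat Cfsg.Agent.Nodes.OppDec Cfsg.Agent.Nodes.LeviDec Cfsg.Agent.Nodes.NormalForm
  Cfsg.Agent.H35.ExcIdx Cfsg.Lie Cfsg.Agent.Nodes.RGDChev Cfsg.Agent.ChevalleyStructure.NPerm
  Cfsg.Agent.ChevalleyStructure.CoxeterGeomTypes Cfsg.Agent.H667.BR

universe u

namespace E8E7M

/-- the words -/
def wd : Fin 5 → List (Fin 8) := ![[], [7], [7, 6, 5, 4, 3, 1, 2, 3, 4, 5, 6, 7], [7, 6, 5, 4, 3, 1, 2, 0, 3,
  2, 4, 3, 1, 5, 4, 3, 2, 0, 6, 5, 4, 3, 1, 2, 3, 4, 5, 6, 7], [7, 6, 5, 4, 3, 1, 2, 0, 3, 2, 4, 3, 1, 5, 4,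
  3, 2, 0, 6, 5, 4, 3, 1, 2, 3, 4, 5, 6, 7, 6, 5, 4, 3, 1, 2, 0, 3, 2, 4, 3, 1, 5, 4, 3, 2, 0, 6, 5, 4, 3, 1,
  2, 3, 4, 5, 6, 7]]

/-- the weights of the levels -/
def NK : Fin 5 → List ℤ := ![[1], [0, 1, 1, 1, 1, 1, 2, 2, 2, 2, 3, 3, 3, 3, 3, 3, 3, 3, 3, 3, 2, 2, 2, 2, 1,
  1, 1, 1, 1], [0, 0, 0, 0, 0, 0, 0, 0, 0, 0, 0, 0, 1, 1, 1, 1, 2, 2, 3, 3, 4, 4, 5, 5, 6, 6, 6, 6, 7, 7, 6,
  6, 6, 6, 5, 5, 4, 4, 3, 3, 2, 2, 1, 1, 1, 1], [0, 0, 0, 0, 0, 0, 0, 0, 0, 0, 0, 0, 0, 0, 0, 0, 0, 0, 0, 0,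
  0, 0, 0, 0, 0, 0, 0, 0, 0, 1, 1, 1, 1, 1, 2, 2, 2, 2, 3, 3, 3, 3, 3, 3, 3, 3, 3, 3, 2, 2, 2, 2, 1, 1, 1, 1,
  1], [0, 0, 0, 0, 0, 0, 0, 0, 0, 0, 0, 0, 0, 0, 0, 0, 0, 0, 0, 0, 0, 0, 0, 0, 0, 0, 0, 0, 0, 0, 0, 0, 0, 0,
  0, 0, 0, 0, 0, 0, 0, 0, 0, 0, 0, 0, 0, 0, 0, 0, 0, 0, 0, 0, 0, 0, 0, 1]]

/-- the spherical functions times the weights -/
def PP : Fin 5 → Fin 5 → List ℤ := ![![[1], [0, 1, 1, 1, 1, 1, 2, 2, 2, 2, 3, 3, 3, 3, 3, 3, 3, 3, 3, 3, 2,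
  2, 2, 2, 1, 1, 1, 1, 1], [0, 0, 0, 0, 0, 0, 0, 0, 0, 0, 0, 0, 1, 1, 1, 1, 2, 2, 3, 3, 4, 4, 5, 5, 6, 6, 6,
  6, 7, 7, 6, 6, 6, 6, 5, 5, 4, 4, 3, 3, 2, 2, 1, 1, 1, 1], [0, 0, 0, 0, 0, 0, 0, 0, 0, 0, 0, 0, 0, 0, 0, 0,
  0, 0, 0, 0, 0, 0, 0, 0, 0, 0, 0, 0, 0, 1, 1, 1, 1, 1, 2, 2, 2, 2, 3, 3, 3, 3, 3, 3, 3, 3, 3, 3, 2, 2, 2, 2,
  1, 1, 1, 1, 1], [0, 0, 0, 0, 0, 0, 0, 0, 0, 0, 0, 0, 0, 0, 0, 0, 0, 0, 0, 0, 0, 0, 0, 0, 0, 0, 0, 0, 0, 0,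
  0, 0, 0, 0, 0, 0, 0, 0, 0, 0, 0, 0, 0, 0, 0, 0, 0, 0, 0, 0, 0, 0, 0, 0, 0, 0, 0, 1]], ![[1], [-1, 0, 0, 0,
  0, 0, 1, 1, 1, 1, 2, 2, 2, 2, 3, 2, 2, 2, 2, 2, 1, 1, 1, 1], [0, 0, 0, 0, 0, 0, -1, -1, -1, -1, -2, -2, -2,
  -2, -3, -2, -2, -2, -2, -1, 0, 0, 0, 1, 2, 2, 2, 2, 3, 2, 2, 2, 2, 1, 1, 1, 1], [0, 0, 0, 0, 0, 0, 0, 0, 0,
  0, 0, 0, 0, 0, 0, 0, 0, 0, 0, -1, -1, -1, -1, -2, -2, -2, -2, -2, -3, -2, -2, -2, -2, -1, -1, -1, -1, 0, 0,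
  0, 0, 0, 1], [0, 0, 0, 0, 0, 0, 0, 0, 0, 0, 0, 0, 0, 0, 0, 0, 0, 0, 0, 0, 0, 0, 0, 0, 0, 0, 0, 0, 0, 0, 0,
  0, 0, 0, 0, 0, 0, 0, 0, 0, 0, 0, -1]], ![[1], [-1, 0, 0, 0, 0, -1, 0, 0, 0, 0, 1, 1, 1, 1, 1, 1, 1, 1, 1,
  1], [0, 0, 0, 0, 0, 1, 0, 0, 0, 0, -1, -1, -1, -1, -2, -2, -2, -2, -2, -2, -1, -1, -1, -1, 0, 0, 0, 0, 1],
  [0, 0, 0, 0, 0, 0, 0, 0, 0, 0, 0, 0, 0, 0, 1, 1, 1, 1, 1, 1, 1, 1, 1, 1, 0, 0, 0, 0, -1, 0, 0, 0, 0, -1],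
  [0, 0, 0, 0, 0, 0, 0, 0, 0, 0, 0, 0, 0, 0, 0, 0, 0, 0, 0, 0, 0, 0, 0, 0, 0, 0, 0, 0, 0, 0, 0, 0, 0, 1]],
  ![[1], [-1, 0, 0, 0, 0, -1, 0, 0, 0, -1, 0, 0, 0, 0, 1], [0, 0, 0, 0, 0, 1, 0, 0, 0, 1, 0, 0, 0, 1, -1, 0,
  0, 0, -1, 0, 0, 0, -1], [0, 0, 0, 0, 0, 0, 0, 0, 0, 0, 0, 0, 0, -1, 0, 0, 0, 0, 1, 0, 0, 0, 1, 0, 0, 0, 0,
  1], [0, 0, 0, 0, 0, 0, 0, 0, 0, 0, 0, 0, 0, 0, 0, 0, 0, 0, 0, 0, 0, 0, 0, 0, 0, 0, 0, -1]], ![[1], [-1, 0,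
  0, 0, 0, -1, 0, 0, 0, -1, 0, 0, 0, 0, -1], [0, 0, 0, 0, 0, 1, 0, 0, 0, 1, 0, 0, 0, 1, 1, 0, 0, 0, 1, 0, 0,
  0, 1], [0, 0, 0, 0, 0, 0, 0, 0, 0, 0, 0, 0, 0, -1, 0, 0, 0, 0, -1, 0, 0, 0, -1, 0, 0, 0, 0, -1], [0, 0, 0,
  0, 0, 0, 0, 0, 0, 0, 0, 0, 0, 0, 0, 0, 0, 0, 0, 0, 0, 0, 0, 0, 0, 0, 0, 1]]]

/-- the degrees -/
def DEG : Fin 5 → List ℤ := ![[1], [0, 1, 0, 0, 0, 0, 0, 1, 0, 0, 0, 1, 0, 1, 0, 0, 0, 1, 0, 1, 0, 0, 0, 1,
  0, 0, 0, 0, 0, 1], [0, 0, 1, 0, 0, 0, 1, 0, 1, 0, 1, 0, 2, 0, 2, 0, 1, 0, 3, 0, 2, 0, 2, 0, 3, 0, 2, 0, 2,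
  0, 3, 0, 1, 0, 2, 0, 2, 0, 1, 0, 1, 0, 1, 0, 0, 0, 1], [0, 0, 0, 1, 1, 1, 1, 1, 2, 2, 2, 2, 3, 3, 3, 4, 4,
  4, 5, 5, 6, 6, 5, 6, 7, 7, 6, 7, 7, 7, 8, 7, 7, 7, 6, 7, 7, 6, 5, 6, 6, 5, 5, 4, 4, 4, 3, 3, 3, 2, 2, 2, 2,
  1, 1, 1, 1, 1], [0, 0, 0, 1, 1, 1, 1, 1, 0, 2, 2, 2, 1, 3, 1, 4, 4, 4, 1, 5, 2, 6, 5, 6, 1, 7, 4, 7, 5, 7,
  0, 7, 5, 7, 4, 7, 1, 6, 5, 6, 2, 5, 1, 4, 4, 4, 1, 3, 1, 2, 2, 2, 0, 1, 1, 1, 1, 1]]

/-- the denominators -/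
def ee : Fin 5 → ℕ := ![1, 1, 1, 2, 2]

theorem hNr : ∀ i j, i < j → posR (addL (E8E7.NN i) (smL (-1) (E8E7.NN j))) = true := by decide +kernel

theorem hU0r : ∀ i, posR (E8E7.UU i 0) = true := by decide +kernel

theorem hsy : ∀ k : Fin 5, (E8E7.T.get ((wd k).reverse.foldl (fun (b : ℕ) (i : Fin 8) => nn (E8E7.T.get b).a (i : ℕ)) 239)).l = k := by
  decide +kernel

theorem hpw : ∀ k : Fin 5, pwT E8E7.T E8E7.rows (wd k) 239 = true := by decide +kernel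

theorem hi1 : ∀ k, E8E7.UU 0 k = [1] := by decide +kernel

theorem hNK : chkNK E8E7.dg wd NK 256 := by decide +kernel

theorem hPP : ∀ i k, PE.chk 2048 (ePP NK E8E7.UU PP 0 i k) = true := by decide +kernel

theorem hDEG : ∀ i, PE.chk 4194304 (eDEG NK E8E7.UU DEG ee 0 i) = true := by decide +kernel

theorem hlen : ∀ i, (DEG i).length ≤ 121 := by decide +kernel

/-- the constituents -/
theorem con (K : Type u) [Field K] [Fintype K] {χ1 : IrrCharacter ↥((chevE8).group K)}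
    (hval : ∀ g, (χ1 : ↥((chevE8).group K) → ℂ) g = ∑ L ∈ (Finset.univ : Finset (Fin 8)).powerset, (-1 : ℂ) ^ L.card *
      fixedPointCharacter (PK hpE8 K L) g) :
    ∃ χ : Fin 5 → IrrCharacter ↥((chevE8).group K), ConData ↥((chevE8).group K) (Fintype.card K) 0 PP DEG ee χ1 χ :=
  con_chev hpE8 K isCartan_cE8b E8E7.tab E8E7.ex1 E8E7.hdg E8E7.hne E8E7.check hNr (k0 := 0) (by decide +kernel) hU0r hsy hpw
    (i1 := 0) hi1 hNK hPP hDEG hval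

/-- the polynomial `Φ_3` without the constant coefficient -/
def F3 : List ℤ := [1, 1]

theorem pal3 : (1 :: F3).reverse = 1 :: F3 := by decide +kernel

theorem b3_0 : ∀ k, dvdL F3 59 (addL (PP 0 k) (smL (-1) (PP 0 k))) = true := by decide +kernel

theorem d3_0 : dvdL F3 63 (addL (DEG 0) (smL (-(1)) (shL 0 [1]))) = true := by decide +kernel

theorem b3_2 : ∀ k, dvdL F3 59 (addL (PP 2 k) (smL (-1) (PP 0 k))) = true := by decide +kernel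

theorem d3_2 : dvdL F3 63 (addL (DEG 2) (smL (-(5)) (shL 0 [1]))) = true := by decide +kernel

theorem b3_4 : ∀ k, dvdL F3 59 (addL (PP 4 k) (smL (-1) (PP 0 k))) = true := by decide +kernel

theorem d3_4 : dvdL F3 63 (addL (DEG 4) (smL (-(-12)) (shL 0 [1]))) = true := by decide +kernel

/-- the polynomial `Φ_4` without the constant coefficient -/
def F4 : List ℤ := [0, 1]

theorem pal4 : (1 :: F4).reverse = 1 :: F4 := by decide +kernel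

theorem b4_0 : ∀ k, dvdL F4 59 (addL (PP 0 k) (smL (-1) (PP 0 k))) = true := by decide +kernel

theorem d4_0 : dvdL F4 64 (addL (DEG 0) (smL (-(1)) (shL 0 [1]))) = true := by decide +kernel

theorem b4_2 : ∀ k, dvdL F4 59 (addL (PP 2 k) (smL (-1) (PP 0 k))) = true := by decide +kernel

theorem d4_2 : dvdL F4 64 (addL (DEG 2) (smL (-(5)) (shL 2 [1]))) = true := by decide +kernel

theorem b4_3 : ∀ k, dvdL F4 59 (addL (PP 3 k) (smL (-1) (PP 0 k))) = true := by decide +kernel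

theorem d4_3 : dvdL F4 64 (addL (DEG 3) (smL (-(8)) (shL 0 [1]))) = true := by decide +kernel

/-- the polynomial `Φ_5` without the constant coefficient -/
def F5 : List ℤ := [1, 1, 1, 1]

theorem pal5 : (1 :: F5).reverse = 1 :: F5 := by decide +kernel

theorem b5_0 : ∀ k, dvdL F5 59 (addL (PP 0 k) (smL (-1) (PP 0 k))) = true := by decide +kernel

theorem d5_0 : dvdL F5 65 (addL (DEG 0) (smL (-(1)) (shL 0 [1]))) = true := by decide +kernel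

theorem b5_4 : ∀ k, dvdL F5 59 (addL (PP 4 k) (smL (-1) (PP 0 k))) = true := by decide +kernel

theorem d5_4 : dvdL F5 65 (addL (DEG 4) (smL (-(-2)) (shL 0 [1]))) = true := by decide +kernel

/-- the polynomial `Φ_6` without the constant coefficient -/
def F6 : List ℤ := [-1, 1]

theorem pal6 : (1 :: F6).reverse = 1 :: F6 := by decide +kernel

theorem b6_0 : ∀ k, dvdL F6 59 (addL (PP 0 k) (smL (-1) (PP 0 k))) = true := by decide +kernel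

theorem d6_0 : dvdL F6 66 (addL (DEG 0) (smL (-(1)) (shL 0 [1]))) = true := by decide +kernel

theorem b6_1 : ∀ k, dvdL F6 59 (addL (PP 1 k) (smL (-1) (PP 0 k))) = true := by decide +kernel

theorem d6_1 : dvdL F6 66 (addL (DEG 1) (smL (-(4)) (shL 0 [1]))) = true := by decide +kernel

theorem b6_2 : ∀ k, dvdL F6 59 (addL (PP 2 k) (smL (-1) (PP 0 k))) = true := by decide +kernel

theorem d6_2 : dvdL F6 66 (addL (DEG 2) (smL (-(5)) (shL 0 [1]))) = true := by decide +kernel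

theorem b6_4 : ∀ k, dvdL F6 59 (addL (PP 4 k) (smL (-1) (PP 0 k))) = true := by decide +kernel

theorem d6_4 : dvdL F6 66 (addL (DEG 4) (smL (-(20)) (shL 3 [1]))) = true := by decide +kernel

/-- the polynomial `Φ_8` without the constant coefficient -/
def F8 : List ℤ := [0, 0, 0, 1]

theorem pal8 : (1 :: F8).reverse = 1 :: F8 := by decide +kernel

theorem b8_0 : ∀ k, dvdL F8 59 (addL (PP 0 k) (smL (-1) (PP 0 k))) = true := by decide +kernel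

theorem d8_0 : dvdL F8 68 (addL (DEG 0) (smL (-(1)) (shL 0 [1]))) = true := by decide +kernel

theorem b8_2 : ∀ k, dvdL F8 59 (addL (PP 2 k) (smL (-1) (PP 0 k))) = true := by decide +kernel

theorem d8_2 : dvdL F8 68 (addL (DEG 2) (smL (-(1)) (shL 4 [1]))) = true := by decide +kernel

/-- the polynomial `Φ_10` without the constant coefficient -/
def F10 : List ℤ := [-1, 1, -1, 1]

theorem pal10 : (1 :: F10).reverse = 1 :: F10 := by decide +kernel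

theorem b10_0 : ∀ k, dvdL F10 59 (addL (PP 0 k) (smL (-1) (PP 0 k))) = true := by decide +kernel

theorem d10_0 : dvdL F10 70 (addL (DEG 0) (smL (-(1)) (shL 0 [1]))) = true := by decide +kernel

theorem b10_1 : ∀ k, dvdL F10 59 (addL (PP 1 k) (smL (-1) (PP 0 k))) = true := by decide +kernel

theorem d10_1 : dvdL F10 70 (addL (DEG 1) (smL (-(2)) (shL 0 [1]))) = true := by decide +kernel

theorem b10_4 : ∀ k, dvdL F10 59 (addL (PP 4 k) (smL (-1) (PP 0 k))) = true := by decide +kernel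

theorem d10_4 : dvdL F10 70 (addL (DEG 4) (smL (-(6)) (shL 5 [1]))) = true := by decide +kernel

/-- the polynomial `Φ_12` without the constant coefficient -/
def F12 : List ℤ := [0, -1, 0, 1]

theorem pal12 : (1 :: F12).reverse = 1 :: F12 := by decide +kernel

theorem b12_0 : ∀ k, dvdL F12 59 (addL (PP 0 k) (smL (-1) (PP 0 k))) = true := by decide +kernel

theorem d12_0 : dvdL F12 72 (addL (DEG 0) (smL (-(1)) (shL 0 [1]))) = true := by decide +kernel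

theorem b12_2 : ∀ k, dvdL F12 59 (addL (PP 2 k) (smL (-1) (PP 0 k))) = true := by decide +kernel

theorem d12_2 : dvdL F12 72 (addL (DEG 2) (smL (-(1)) (shL 0 [1]))) = true := by decide +kernel

theorem b12_3 : ∀ k, dvdL F12 59 (addL (PP 3 k) (smL (-1) (PP 0 k))) = true := by decide +kernel

theorem d12_3 : dvdL F12 72 (addL (DEG 3) (smL (-(4)) (shL 6 [1]))) = true := by decide +kernel

/-- the polynomial `Φ_15` without the constant coefficient -/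
def F15 : List ℤ := [-1, 0, 1, -1, 1, 0, -1, 1]

theorem pal15 : (1 :: F15).reverse = 1 :: F15 := by decide +kernel

theorem b15_0 : ∀ k, dvdL F15 59 (addL (PP 0 k) (smL (-1) (PP 0 k))) = true := by decide +kernel

theorem d15_0 : dvdL F15 75 (addL (DEG 0) (smL (-(1)) (shL 0 [1]))) = true := by decide +kernel

theorem b15_4 : ∀ k, dvdL F15 59 (addL (PP 4 k) (smL (-1) (PP 0 k))) = true := by decide +kernel

theorem d15_4 : dvdL F15 75 (addL (DEG 4) (smL (-(-2)) (shL 0 [1]))) = true := by decide +kernel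

/-- the polynomial `Φ_20` without the constant coefficient -/
def F20 : List ℤ := [0, -1, 0, 1, 0, -1, 0, 1]

theorem pal20 : (1 :: F20).reverse = 1 :: F20 := by decide +kernel

theorem b20_0 : ∀ k, dvdL F20 59 (addL (PP 0 k) (smL (-1) (PP 0 k))) = true := by decide +kernel

theorem d20_0 : dvdL F20 80 (addL (DEG 0) (smL (-(1)) (shL 0 [1]))) = true := by decide +kernel

theorem b20_3 : ∀ k, dvdL F20 59 (addL (PP 3 k) (smL (-1) (PP 0 k))) = true := by decide +kernel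

theorem d20_3 : dvdL F20 80 (addL (DEG 3) (smL (-(2)) (shL 10 [1]))) = true := by decide +kernel

/-- the polynomial `Φ_24` without the constant coefficient -/
def F24 : List ℤ := [0, 0, 0, -1, 0, 0, 0, 1]

theorem pal24 : (1 :: F24).reverse = 1 :: F24 := by decide +kernel

theorem b24_0 : ∀ k, dvdL F24 59 (addL (PP 0 k) (smL (-1) (PP 0 k))) = true := by decide +kernel

theorem d24_0 : dvdL F24 84 (addL (DEG 0) (smL (-(1)) (shL 0 [1]))) = true := by decide +kernel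

theorem b24_2 : ∀ k, dvdL F24 59 (addL (PP 2 k) (smL (-1) (PP 0 k))) = true := by decide +kernel

theorem d24_2 : dvdL F24 84 (addL (DEG 2) (smL (-(1)) (shL 12 [1]))) = true := by decide +kernel

/-- the polynomial `Φ_30` without the constant coefficient -/
def F30 : List ℤ := [1, 0, -1, -1, -1, 0, 1, 1]

theorem pal30 : (1 :: F30).reverse = 1 :: F30 := by decide +kernel

theorem b30_0 : ∀ k, dvdL F30 59 (addL (PP 0 k) (smL (-1) (PP 0 k))) = true := by decide +kernel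

theorem d30_0 : dvdL F30 90 (addL (DEG 0) (smL (-(1)) (shL 0 [1]))) = true := by decide +kernel

theorem b30_1 : ∀ k, dvdL F30 59 (addL (PP 1 k) (smL (-1) (PP 0 k))) = true := by decide +kernel

theorem d30_1 : dvdL F30 90 (addL (DEG 1) (smL (-(1)) (shL 15 [1]))) = true := by decide +kernel

/-- the member number 0 for the order 3 -/
theorem m3_0 {K : Type u} [Field K] [Fintype K] {p : ℕ} {M' : Ideal AlgInt} (hM : IsPModular p M') (h5 : 5 < p)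
    (hpq : ¬ p ∣ Fintype.card K) (hp : (p : ℤ) ∣ evZ (Fintype.card K) (1 :: F3))
    (hJ : ∀ J : Finset (Fin 8), J ≠ Finset.univ → p ∣ (PK hpE8 K J).index)
    (hcard : Nat.card (RGD.Sup (XX chevE8 8 K) (RGD.Pos CoxeterMatrix.E₈.toCoxeterSystem hpE8.isCartan)) = Fintype.card K ^ 120) :
    Mbr p M' ↥((chevE8).group K) (Fintype.card K) 1 (shL 120 [1]) := by
  have hq : 0 < Fintype.card K := Fintype.card_pos
  obtain ⟨χ1, h1, h2, -, h4⟩ := exists_st_chev hpE8 K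
  obtain ⟨χ, H⟩ := con K h1
  rw [hcard] at h2
  exact H.mbr hq hM hpq pal3 hp (h4 p M' hM hpq hJ) h2 b3_0 d3_0 (not_dvd_of_lt hM.1 h5 (by decide)) (hlen 0)

/-- the member number 2 for the order 3 -/
theorem m3_2 {K : Type u} [Field K] [Fintype K] {p : ℕ} {M' : Ideal AlgInt} (hM : IsPModular p M') (h5 : 5 < p)
    (hpq : ¬ p ∣ Fintype.card K) (hp : (p : ℤ) ∣ evZ (Fintype.card K) (1 :: F3))
    (hJ : ∀ J : Finset (Fin 8), J ≠ Finset.univ → p ∣ (PK hpE8 K J).index)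
    (hcard : Nat.card (RGD.Sup (XX chevE8 8 K) (RGD.Pos CoxeterMatrix.E₈.toCoxeterSystem hpE8.isCartan)) = Fintype.card K ^ 120) :
    Mbr p M' ↥((chevE8).group K) (Fintype.card K) 1 (shL 74 [1, 0, 0, 0, 1, 0, 1, 0, 1, 0, 2, 0, 2, 0, 1, 0, 3, 0, 2, 0, 2, 0, 3, 0, 2, 0, 2, 0, 3, 0, 1, 0, 2, 0, 2, 0, 1, 0, 1, 0, 1, 0, 0, 0, 1, 0, 0]) := by
  have hq : 0 < Fintype.card K := Fintype.card_pos
  obtain ⟨χ1, h1, h2, -, h4⟩ := exists_st_chev hpE8 K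
  obtain ⟨χ, H⟩ := con K h1
  rw [hcard] at h2
  exact H.mbr hq hM hpq pal3 hp (h4 p M' hM hpq hJ) h2 b3_2 d3_2 (not_dvd_of_lt hM.1 h5 (by decide)) (hlen 2)

/-- the member number 4 for the order 3 -/
theorem m3_4 {K : Type u} [Field K] [Fintype K] {p : ℕ} {M' : Ideal AlgInt} (hM : IsPModular p M') (h5 : 5 < p)
    (hpq : ¬ p ∣ Fintype.card K) (hp : (p : ℤ) ∣ evZ (Fintype.card K) (1 :: F3))
    (hJ : ∀ J : Finset (Fin 8), J ≠ Finset.univ → p ∣ (PK hpE8 K J).index)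
    (hcard : Nat.card (RGD.Sup (XX chevE8 8 K) (RGD.Pos CoxeterMatrix.E₈.toCoxeterSystem hpE8.isCartan)) = Fintype.card K ^ 120) :
    Mbr p M' ↥((chevE8).group K) (Fintype.card K) 2 (shL 63 [1, 1, 1, 1, 1, 0, 2, 2, 2, 1, 3, 1, 4, 4, 4, 1, 5, 2, 6, 5, 6, 1, 7, 4, 7, 5, 7, 0, 7, 5, 7, 4, 7, 1, 6, 5, 6, 2, 5, 1, 4, 4, 4, 1, 3, 1, 2, 2, 2, 0, 1, 1, 1, 1, 1, 0, 0, 0]) := by
  have hq : 0 < Fintype.card K := Fintype.card_pos
  obtain ⟨χ1, h1, h2, -, h4⟩ := exists_st_chev hpE8 K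
  obtain ⟨χ, H⟩ := con K h1
  rw [hcard] at h2
  exact H.mbr hq hM hpq pal3 hp (h4 p M' hM hpq hJ) h2 b3_4 d3_4 (not_dvd_of_lt hM.1 h5 (by decide)) (hlen 4)

/-- the member number 0 for the order 4 -/
theorem m4_0 {K : Type u} [Field K] [Fintype K] {p : ℕ} {M' : Ideal AlgInt} (hM : IsPModular p M') (h5 : 5 < p)
    (hpq : ¬ p ∣ Fintype.card K) (hp : (p : ℤ) ∣ evZ (Fintype.card K) (1 :: F4))
    (hJ : ∀ J : Finset (Fin 8), J ≠ Finset.univ → p ∣ (PK hpE8 K J).index)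
    (hcard : Nat.card (RGD.Sup (XX chevE8 8 K) (RGD.Pos CoxeterMatrix.E₈.toCoxeterSystem hpE8.isCartan)) = Fintype.card K ^ 120) :
    Mbr p M' ↥((chevE8).group K) (Fintype.card K) 1 (shL 120 [1]) := by
  have hq : 0 < Fintype.card K := Fintype.card_pos
  obtain ⟨χ1, h1, h2, -, h4⟩ := exists_st_chev hpE8 K
  obtain ⟨χ, H⟩ := con K h1
  rw [hcard] at h2
  exact H.mbr hq hM hpq pal4 hp (h4 p M' hM hpq hJ) h2 b4_0 d4_0 (not_dvd_of_lt hM.1 h5 (by decide)) (hlen 0)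

/-- the member number 2 for the order 4 -/
theorem m4_2 {K : Type u} [Field K] [Fintype K] {p : ℕ} {M' : Ideal AlgInt} (hM : IsPModular p M') (h5 : 5 < p)
    (hpq : ¬ p ∣ Fintype.card K) (hp : (p : ℤ) ∣ evZ (Fintype.card K) (1 :: F4))
    (hJ : ∀ J : Finset (Fin 8), J ≠ Finset.univ → p ∣ (PK hpE8 K J).index)
    (hcard : Nat.card (RGD.Sup (XX chevE8 8 K) (RGD.Pos CoxeterMatrix.E₈.toCoxeterSystem hpE8.isCartan)) = Fintype.card K ^ 120) :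
    Mbr p M' ↥((chevE8).group K) (Fintype.card K) 1 (shL 74 [1, 0, 0, 0, 1, 0, 1, 0, 1, 0, 2, 0, 2, 0, 1, 0, 3, 0, 2, 0, 2, 0, 3, 0, 2, 0, 2, 0, 3, 0, 1, 0, 2, 0, 2, 0, 1, 0, 1, 0, 1, 0, 0, 0, 1, 0, 0]) := by
  have hq : 0 < Fintype.card K := Fintype.card_pos
  obtain ⟨χ1, h1, h2, -, h4⟩ := exists_st_chev hpE8 K
  obtain ⟨χ, H⟩ := con K h1
  rw [hcard] at h2
  exact H.mbr hq hM hpq pal4 hp (h4 p M' hM hpq hJ) h2 b4_2 d4_2 (not_dvd_of_lt hM.1 h5 (by decide)) (hlen 2)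

/-- the member number 3 for the order 4 -/
theorem m4_3 {K : Type u} [Field K] [Fintype K] {p : ℕ} {M' : Ideal AlgInt} (hM : IsPModular p M') (h5 : 5 < p)
    (hpq : ¬ p ∣ Fintype.card K) (hp : (p : ℤ) ∣ evZ (Fintype.card K) (1 :: F4))
    (hJ : ∀ J : Finset (Fin 8), J ≠ Finset.univ → p ∣ (PK hpE8 K J).index)
    (hcard : Nat.card (RGD.Sup (XX chevE8 8 K) (RGD.Pos CoxeterMatrix.E₈.toCoxeterSystem hpE8.isCartan)) = Fintype.card K ^ 120) :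
    Mbr p M' ↥((chevE8).group K) (Fintype.card K) 2 (shL 63 [1, 1, 1, 1, 1, 2, 2, 2, 2, 3, 3, 3, 4, 4, 4, 5, 5, 6, 6, 5, 6, 7, 7, 6, 7, 7, 7, 8, 7, 7, 7, 6, 7, 7, 6, 5, 6, 6, 5, 5, 4, 4, 4, 3, 3, 3, 2, 2, 2, 2, 1, 1, 1, 1, 1, 0, 0, 0]) := by
  have hq : 0 < Fintype.card K := Fintype.card_pos
  obtain ⟨χ1, h1, h2, -, h4⟩ := exists_st_chev hpE8 K
  obtain ⟨χ, H⟩ := con K h1
  rw [hcard] at h2
  exact H.mbr hq hM hpq pal4 hp (h4 p M' hM hpq hJ) h2 b4_3 d4_3 (not_dvd_of_lt hM.1 h5 (by decide)) (hlen 3)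

/-- the member number 0 for the order 5 -/
theorem m5_0 {K : Type u} [Field K] [Fintype K] {p : ℕ} {M' : Ideal AlgInt} (hM : IsPModular p M') (h5 : 5 < p)
    (hpq : ¬ p ∣ Fintype.card K) (hp : (p : ℤ) ∣ evZ (Fintype.card K) (1 :: F5))
    (hJ : ∀ J : Finset (Fin 8), J ≠ Finset.univ → p ∣ (PK hpE8 K J).index)
    (hcard : Nat.card (RGD.Sup (XX chevE8 8 K) (RGD.Pos CoxeterMatrix.E₈.toCoxeterSystem hpE8.isCartan)) = Fintype.card K ^ 120) :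
    Mbr p M' ↥((chevE8).group K) (Fintype.card K) 1 (shL 120 [1]) := by
  have hq : 0 < Fintype.card K := Fintype.card_pos
  obtain ⟨χ1, h1, h2, -, h4⟩ := exists_st_chev hpE8 K
  obtain ⟨χ, H⟩ := con K h1
  rw [hcard] at h2
  exact H.mbr hq hM hpq pal5 hp (h4 p M' hM hpq hJ) h2 b5_0 d5_0 (not_dvd_of_lt hM.1 h5 (by decide)) (hlen 0)

/-- the member number 4 for the order 5 -/
theorem m5_4 {K : Type u} [Field K] [Fintype K] {p : ℕ} {M' : Ideal AlgInt} (hM : IsPModular p M') (h5 : 5 < p)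
    (hpq : ¬ p ∣ Fintype.card K) (hp : (p : ℤ) ∣ evZ (Fintype.card K) (1 :: F5))
    (hJ : ∀ J : Finset (Fin 8), J ≠ Finset.univ → p ∣ (PK hpE8 K J).index)
    (hcard : Nat.card (RGD.Sup (XX chevE8 8 K) (RGD.Pos CoxeterMatrix.E₈.toCoxeterSystem hpE8.isCartan)) = Fintype.card K ^ 120) :
    Mbr p M' ↥((chevE8).group K) (Fintype.card K) 2 (shL 63 [1, 1, 1, 1, 1, 0, 2, 2, 2, 1, 3, 1, 4, 4, 4, 1, 5, 2, 6, 5, 6, 1, 7, 4, 7, 5, 7, 0, 7, 5, 7, 4, 7, 1, 6, 5, 6, 2, 5, 1, 4, 4, 4, 1, 3, 1, 2, 2, 2, 0, 1, 1, 1, 1, 1, 0, 0, 0]) := by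
  have hq : 0 < Fintype.card K := Fintype.card_pos
  obtain ⟨χ1, h1, h2, -, h4⟩ := exists_st_chev hpE8 K
  obtain ⟨χ, H⟩ := con K h1
  rw [hcard] at h2
  exact H.mbr hq hM hpq pal5 hp (h4 p M' hM hpq hJ) h2 b5_4 d5_4 (not_dvd_of_lt hM.1 h5 (by decide)) (hlen 4)

/-- the member number 0 for the order 6 -/
theorem m6_0 {K : Type u} [Field K] [Fintype K] {p : ℕ} {M' : Ideal AlgInt} (hM : IsPModular p M') (h5 : 5 < p)
    (hpq : ¬ p ∣ Fintype.card K) (hp : (p : ℤ) ∣ evZ (Fintype.card K) (1 :: F6))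
    (hJ : ∀ J : Finset (Fin 8), J ≠ Finset.univ → p ∣ (PK hpE8 K J).index)
    (hcard : Nat.card (RGD.Sup (XX chevE8 8 K) (RGD.Pos CoxeterMatrix.E₈.toCoxeterSystem hpE8.isCartan)) = Fintype.card K ^ 120) :
    Mbr p M' ↥((chevE8).group K) (Fintype.card K) 1 (shL 120 [1]) := by
  have hq : 0 < Fintype.card K := Fintype.card_pos
  obtain ⟨χ1, h1, h2, -, h4⟩ := exists_st_chev hpE8 K
  obtain ⟨χ, H⟩ := con K h1
  rw [hcard] at h2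
  exact H.mbr hq hM hpq pal6 hp (h4 p M' hM hpq hJ) h2 b6_0 d6_0 (not_dvd_of_lt hM.1 h5 (by decide)) (hlen 0)

/-- the member number 1 for the order 6 -/
theorem m6_1 {K : Type u} [Field K] [Fintype K] {p : ℕ} {M' : Ideal AlgInt} (hM : IsPModular p M') (h5 : 5 < p)
    (hpq : ¬ p ∣ Fintype.card K) (hp : (p : ℤ) ∣ evZ (Fintype.card K) (1 :: F6))
    (hJ : ∀ J : Finset (Fin 8), J ≠ Finset.univ → p ∣ (PK hpE8 K J).index)
    (hcard : Nat.card (RGD.Sup (XX chevE8 8 K) (RGD.Pos CoxeterMatrix.E₈.toCoxeterSystem hpE8.isCartan)) = Fintype.card K ^ 120) :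
    Mbr p M' ↥((chevE8).group K) (Fintype.card K) 1 (shL 91 [1, 0, 0, 0, 0, 0, 1, 0, 0, 0, 1, 0, 1, 0, 0, 0, 1, 0, 1, 0, 0, 0, 1, 0, 0, 0, 0, 0, 1, 0]) := by
  have hq : 0 < Fintype.card K := Fintype.card_pos
  obtain ⟨χ1, h1, h2, -, h4⟩ := exists_st_chev hpE8 K
  obtain ⟨χ, H⟩ := con K h1
  rw [hcard] at h2
  exact H.mbr hq hM hpq pal6 hp (h4 p M' hM hpq hJ) h2 b6_1 d6_1 (not_dvd_of_lt hM.1 h5 (by decide)) (hlen 1)

/-- the member number 2 for the order 6 -/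
theorem m6_2 {K : Type u} [Field K] [Fintype K] {p : ℕ} {M' : Ideal AlgInt} (hM : IsPModular p M') (h5 : 5 < p)
    (hpq : ¬ p ∣ Fintype.card K) (hp : (p : ℤ) ∣ evZ (Fintype.card K) (1 :: F6))
    (hJ : ∀ J : Finset (Fin 8), J ≠ Finset.univ → p ∣ (PK hpE8 K J).index)
    (hcard : Nat.card (RGD.Sup (XX chevE8 8 K) (RGD.Pos CoxeterMatrix.E₈.toCoxeterSystem hpE8.isCartan)) = Fintype.card K ^ 120) :
    Mbr p M' ↥((chevE8).group K) (Fintype.card K) 1 (shL 74 [1, 0, 0, 0, 1, 0, 1, 0, 1, 0, 2, 0, 2, 0, 1, 0, 3, 0, 2, 0, 2, 0, 3, 0, 2, 0, 2, 0, 3, 0, 1, 0, 2, 0, 2, 0, 1, 0, 1, 0, 1, 0, 0, 0, 1, 0, 0]) := by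
  have hq : 0 < Fintype.card K := Fintype.card_pos
  obtain ⟨χ1, h1, h2, -, h4⟩ := exists_st_chev hpE8 K
  obtain ⟨χ, H⟩ := con K h1
  rw [hcard] at h2
  exact H.mbr hq hM hpq pal6 hp (h4 p M' hM hpq hJ) h2 b6_2 d6_2 (not_dvd_of_lt hM.1 h5 (by decide)) (hlen 2)

/-- the member number 4 for the order 6 -/
theorem m6_4 {K : Type u} [Field K] [Fintype K] {p : ℕ} {M' : Ideal AlgInt} (hM : IsPModular p M') (h5 : 5 < p)
    (hpq : ¬ p ∣ Fintype.card K) (hp : (p : ℤ) ∣ evZ (Fintype.card K) (1 :: F6))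
    (hJ : ∀ J : Finset (Fin 8), J ≠ Finset.univ → p ∣ (PK hpE8 K J).index)
    (hcard : Nat.card (RGD.Sup (XX chevE8 8 K) (RGD.Pos CoxeterMatrix.E₈.toCoxeterSystem hpE8.isCartan)) = Fintype.card K ^ 120) :
    Mbr p M' ↥((chevE8).group K) (Fintype.card K) 2 (shL 63 [1, 1, 1, 1, 1, 0, 2, 2, 2, 1, 3, 1, 4, 4, 4, 1, 5, 2, 6, 5, 6, 1, 7, 4, 7, 5, 7, 0, 7, 5, 7, 4, 7, 1, 6, 5, 6, 2, 5, 1, 4, 4, 4, 1, 3, 1, 2, 2, 2, 0, 1, 1, 1, 1, 1, 0, 0, 0]) := by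
  have hq : 0 < Fintype.card K := Fintype.card_pos
  obtain ⟨χ1, h1, h2, -, h4⟩ := exists_st_chev hpE8 K
  obtain ⟨χ, H⟩ := con K h1
  rw [hcard] at h2
  exact H.mbr hq hM hpq pal6 hp (h4 p M' hM hpq hJ) h2 b6_4 d6_4 (not_dvd_of_lt hM.1 h5 (by decide)) (hlen 4)

/-- the member number 0 for the order 8 -/
theorem m8_0 {K : Type u} [Field K] [Fintype K] {p : ℕ} {M' : Ideal AlgInt} (hM : IsPModular p M') (h5 : 5 < p)
    (hpq : ¬ p ∣ Fintype.card K) (hp : (p : ℤ) ∣ evZ (Fintype.card K) (1 :: F8))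
    (hJ : ∀ J : Finset (Fin 8), J ≠ Finset.univ → p ∣ (PK hpE8 K J).index)
    (hcard : Nat.card (RGD.Sup (XX chevE8 8 K) (RGD.Pos CoxeterMatrix.E₈.toCoxeterSystem hpE8.isCartan)) = Fintype.card K ^ 120) :
    Mbr p M' ↥((chevE8).group K) (Fintype.card K) 1 (shL 120 [1]) := by
  have hq : 0 < Fintype.card K := Fintype.card_pos
  obtain ⟨χ1, h1, h2, -, h4⟩ := exists_st_chev hpE8 K
  obtain ⟨χ, H⟩ := con K h1
  rw [hcard] at h2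
  exact H.mbr hq hM hpq pal8 hp (h4 p M' hM hpq hJ) h2 b8_0 d8_0 (not_dvd_of_lt hM.1 h5 (by decide)) (hlen 0)

/-- the member number 2 for the order 8 -/
theorem m8_2 {K : Type u} [Field K] [Fintype K] {p : ℕ} {M' : Ideal AlgInt} (hM : IsPModular p M') (h5 : 5 < p)
    (hpq : ¬ p ∣ Fintype.card K) (hp : (p : ℤ) ∣ evZ (Fintype.card K) (1 :: F8))
    (hJ : ∀ J : Finset (Fin 8), J ≠ Finset.univ → p ∣ (PK hpE8 K J).index)
    (hcard : Nat.card (RGD.Sup (XX chevE8 8 K) (RGD.Pos CoxeterMatrix.E₈.toCoxeterSystem hpE8.isCartan)) = Fintype.card K ^ 120) :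
    Mbr p M' ↥((chevE8).group K) (Fintype.card K) 1 (shL 74 [1, 0, 0, 0, 1, 0, 1, 0, 1, 0, 2, 0, 2, 0, 1, 0, 3, 0, 2, 0, 2, 0, 3, 0, 2, 0, 2, 0, 3, 0, 1, 0, 2, 0, 2, 0, 1, 0, 1, 0, 1, 0, 0, 0, 1, 0, 0]) := by
  have hq : 0 < Fintype.card K := Fintype.card_pos
  obtain ⟨χ1, h1, h2, -, h4⟩ := exists_st_chev hpE8 K
  obtain ⟨χ, H⟩ := con K h1
  rw [hcard] at h2
  exact H.mbr hq hM hpq pal8 hp (h4 p M' hM hpq hJ) h2 b8_2 d8_2 (not_dvd_of_lt hM.1 h5 (by decide)) (hlen 2)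

/-- the member number 0 for the order 10 -/
theorem m10_0 {K : Type u} [Field K] [Fintype K] {p : ℕ} {M' : Ideal AlgInt} (hM : IsPModular p M') (h5 : 5 < p)
    (hpq : ¬ p ∣ Fintype.card K) (hp : (p : ℤ) ∣ evZ (Fintype.card K) (1 :: F10))
    (hJ : ∀ J : Finset (Fin 8), J ≠ Finset.univ → p ∣ (PK hpE8 K J).index)
    (hcard : Nat.card (RGD.Sup (XX chevE8 8 K) (RGD.Pos CoxeterMatrix.E₈.toCoxeterSystem hpE8.isCartan)) = Fintype.card K ^ 120) :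
    Mbr p M' ↥((chevE8).group K) (Fintype.card K) 1 (shL 120 [1]) := by
  have hq : 0 < Fintype.card K := Fintype.card_pos
  obtain ⟨χ1, h1, h2, -, h4⟩ := exists_st_chev hpE8 K
  obtain ⟨χ, H⟩ := con K h1
  rw [hcard] at h2
  exact H.mbr hq hM hpq pal10 hp (h4 p M' hM hpq hJ) h2 b10_0 d10_0 (not_dvd_of_lt hM.1 h5 (by decide)) (hlen 0)

/-- the member number 1 for the order 10 -/
theorem m10_1 {K : Type u} [Field K] [Fintype K] {p : ℕ} {M' : Ideal AlgInt} (hM : IsPModular p M') (h5 : 5 < p)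
    (hpq : ¬ p ∣ Fintype.card K) (hp : (p : ℤ) ∣ evZ (Fintype.card K) (1 :: F10))
    (hJ : ∀ J : Finset (Fin 8), J ≠ Finset.univ → p ∣ (PK hpE8 K J).index)
    (hcard : Nat.card (RGD.Sup (XX chevE8 8 K) (RGD.Pos CoxeterMatrix.E₈.toCoxeterSystem hpE8.isCartan)) = Fintype.card K ^ 120) :
    Mbr p M' ↥((chevE8).group K) (Fintype.card K) 1 (shL 91 [1, 0, 0, 0, 0, 0, 1, 0, 0, 0, 1, 0, 1, 0, 0, 0, 1, 0, 1, 0, 0, 0, 1, 0, 0, 0, 0, 0, 1, 0]) := by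
  have hq : 0 < Fintype.card K := Fintype.card_pos
  obtain ⟨χ1, h1, h2, -, h4⟩ := exists_st_chev hpE8 K
  obtain ⟨χ, H⟩ := con K h1
  rw [hcard] at h2
  exact H.mbr hq hM hpq pal10 hp (h4 p M' hM hpq hJ) h2 b10_1 d10_1 (not_dvd_of_lt hM.1 h5 (by decide)) (hlen 1)

/-- the member number 4 for the order 10 -/
theorem m10_4 {K : Type u} [Field K] [Fintype K] {p : ℕ} {M' : Ideal AlgInt} (hM : IsPModular p M') (h5 : 5 < p)
    (hpq : ¬ p ∣ Fintype.card K) (hp : (p : ℤ) ∣ evZ (Fintype.card K) (1 :: F10))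
    (hJ : ∀ J : Finset (Fin 8), J ≠ Finset.univ → p ∣ (PK hpE8 K J).index)
    (hcard : Nat.card (RGD.Sup (XX chevE8 8 K) (RGD.Pos CoxeterMatrix.E₈.toCoxeterSystem hpE8.isCartan)) = Fintype.card K ^ 120) :
    Mbr p M' ↥((chevE8).group K) (Fintype.card K) 2 (shL 63 [1, 1, 1, 1, 1, 0, 2, 2, 2, 1, 3, 1, 4, 4, 4, 1, 5, 2, 6, 5, 6, 1, 7, 4, 7, 5, 7, 0, 7, 5, 7, 4, 7, 1, 6, 5, 6, 2, 5, 1, 4, 4, 4, 1, 3, 1, 2, 2, 2, 0, 1, 1, 1, 1, 1, 0, 0, 0]) := by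
  have hq : 0 < Fintype.card K := Fintype.card_pos
  obtain ⟨χ1, h1, h2, -, h4⟩ := exists_st_chev hpE8 K
  obtain ⟨χ, H⟩ := con K h1
  rw [hcard] at h2
  exact H.mbr hq hM hpq pal10 hp (h4 p M' hM hpq hJ) h2 b10_4 d10_4 (not_dvd_of_lt hM.1 h5 (by decide)) (hlen 4)

/-- the member number 0 for the order 12 -/
theorem m12_0 {K : Type u} [Field K] [Fintype K] {p : ℕ} {M' : Ideal AlgInt} (hM : IsPModular p M') (h5 : 5 < p)
    (hpq : ¬ p ∣ Fintype.card K) (hp : (p : ℤ) ∣ evZ (Fintype.card K) (1 :: F12))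
    (hJ : ∀ J : Finset (Fin 8), J ≠ Finset.univ → p ∣ (PK hpE8 K J).index)
    (hcard : Nat.card (RGD.Sup (XX chevE8 8 K) (RGD.Pos CoxeterMatrix.E₈.toCoxeterSystem hpE8.isCartan)) = Fintype.card K ^ 120) :
    Mbr p M' ↥((chevE8).group K) (Fintype.card K) 1 (shL 120 [1]) := by
  have hq : 0 < Fintype.card K := Fintype.card_pos
  obtain ⟨χ1, h1, h2, -, h4⟩ := exists_st_chev hpE8 K
  obtain ⟨χ, H⟩ := con K h1
  rw [hcard] at h2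
  exact H.mbr hq hM hpq pal12 hp (h4 p M' hM hpq hJ) h2 b12_0 d12_0 (not_dvd_of_lt hM.1 h5 (by decide)) (hlen 0)

/-- the member number 2 for the order 12 -/
theorem m12_2 {K : Type u} [Field K] [Fintype K] {p : ℕ} {M' : Ideal AlgInt} (hM : IsPModular p M') (h5 : 5 < p)
    (hpq : ¬ p ∣ Fintype.card K) (hp : (p : ℤ) ∣ evZ (Fintype.card K) (1 :: F12))
    (hJ : ∀ J : Finset (Fin 8), J ≠ Finset.univ → p ∣ (PK hpE8 K J).index)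
    (hcard : Nat.card (RGD.Sup (XX chevE8 8 K) (RGD.Pos CoxeterMatrix.E₈.toCoxeterSystem hpE8.isCartan)) = Fintype.card K ^ 120) :
    Mbr p M' ↥((chevE8).group K) (Fintype.card K) 1 (shL 74 [1, 0, 0, 0, 1, 0, 1, 0, 1, 0, 2, 0, 2, 0, 1, 0, 3, 0, 2, 0, 2, 0, 3, 0, 2, 0, 2, 0, 3, 0, 1, 0, 2, 0, 2, 0, 1, 0, 1, 0, 1, 0, 0, 0, 1, 0, 0]) := by
  have hq : 0 < Fintype.card K := Fintype.card_pos
  obtain ⟨χ1, h1, h2, -, h4⟩ := exists_st_chev hpE8 K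
  obtain ⟨χ, H⟩ := con K h1
  rw [hcard] at h2
  exact H.mbr hq hM hpq pal12 hp (h4 p M' hM hpq hJ) h2 b12_2 d12_2 (not_dvd_of_lt hM.1 h5 (by decide)) (hlen 2)

/-- the member number 3 for the order 12 -/
theorem m12_3 {K : Type u} [Field K] [Fintype K] {p : ℕ} {M' : Ideal AlgInt} (hM : IsPModular p M') (h5 : 5 < p)
    (hpq : ¬ p ∣ Fintype.card K) (hp : (p : ℤ) ∣ evZ (Fintype.card K) (1 :: F12))
    (hJ : ∀ J : Finset (Fin 8), J ≠ Finset.univ → p ∣ (PK hpE8 K J).index)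
    (hcard : Nat.card (RGD.Sup (XX chevE8 8 K) (RGD.Pos CoxeterMatrix.E₈.toCoxeterSystem hpE8.isCartan)) = Fintype.card K ^ 120) :
    Mbr p M' ↥((chevE8).group K) (Fintype.card K) 2 (shL 63 [1, 1, 1, 1, 1, 2, 2, 2, 2, 3, 3, 3, 4, 4, 4, 5, 5, 6, 6, 5, 6, 7, 7, 6, 7, 7, 7, 8, 7, 7, 7, 6, 7, 7, 6, 5, 6, 6, 5, 5, 4, 4, 4, 3, 3, 3, 2, 2, 2, 2, 1, 1, 1, 1, 1, 0, 0, 0]) := by
  have hq : 0 < Fintype.card K := Fintype.card_pos
  obtain ⟨χ1, h1, h2, -, h4⟩ := exists_st_chev hpE8 K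
  obtain ⟨χ, H⟩ := con K h1
  rw [hcard] at h2
  exact H.mbr hq hM hpq pal12 hp (h4 p M' hM hpq hJ) h2 b12_3 d12_3 (not_dvd_of_lt hM.1 h5 (by decide)) (hlen 3)

/-- the member number 0 for the order 15 -/
theorem m15_0 {K : Type u} [Field K] [Fintype K] {p : ℕ} {M' : Ideal AlgInt} (hM : IsPModular p M') (h5 : 5 < p)
    (hpq : ¬ p ∣ Fintype.card K) (hp : (p : ℤ) ∣ evZ (Fintype.card K) (1 :: F15))
    (hJ : ∀ J : Finset (Fin 8), J ≠ Finset.univ → p ∣ (PK hpE8 K J).index)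
    (hcard : Nat.card (RGD.Sup (XX chevE8 8 K) (RGD.Pos CoxeterMatrix.E₈.toCoxeterSystem hpE8.isCartan)) = Fintype.card K ^ 120) :
    Mbr p M' ↥((chevE8).group K) (Fintype.card K) 1 (shL 120 [1]) := by
  have hq : 0 < Fintype.card K := Fintype.card_pos
  obtain ⟨χ1, h1, h2, -, h4⟩ := exists_st_chev hpE8 K
  obtain ⟨χ, H⟩ := con K h1
  rw [hcard] at h2
  exact H.mbr hq hM hpq pal15 hp (h4 p M' hM hpq hJ) h2 b15_0 d15_0 (not_dvd_of_lt hM.1 h5 (by decide)) (hlen 0)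

/-- the member number 4 for the order 15 -/
theorem m15_4 {K : Type u} [Field K] [Fintype K] {p : ℕ} {M' : Ideal AlgInt} (hM : IsPModular p M') (h5 : 5 < p)
    (hpq : ¬ p ∣ Fintype.card K) (hp : (p : ℤ) ∣ evZ (Fintype.card K) (1 :: F15))
    (hJ : ∀ J : Finset (Fin 8), J ≠ Finset.univ → p ∣ (PK hpE8 K J).index)
    (hcard : Nat.card (RGD.Sup (XX chevE8 8 K) (RGD.Pos CoxeterMatrix.E₈.toCoxeterSystem hpE8.isCartan)) = Fintype.card K ^ 120) :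
    Mbr p M' ↥((chevE8).group K) (Fintype.card K) 2 (shL 63 [1, 1, 1, 1, 1, 0, 2, 2, 2, 1, 3, 1, 4, 4, 4, 1, 5, 2, 6, 5, 6, 1, 7, 4, 7, 5, 7, 0, 7, 5, 7, 4, 7, 1, 6, 5, 6, 2, 5, 1, 4, 4, 4, 1, 3, 1, 2, 2, 2, 0, 1, 1, 1, 1, 1, 0, 0, 0]) := by
  have hq : 0 < Fintype.card K := Fintype.card_pos
  obtain ⟨χ1, h1, h2, -, h4⟩ := exists_st_chev hpE8 K
  obtain ⟨χ, H⟩ := con K h1
  rw [hcard] at h2
  exact H.mbr hq hM hpq pal15 hp (h4 p M' hM hpq hJ) h2 b15_4 d15_4 (not_dvd_of_lt hM.1 h5 (by decide)) (hlen 4)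

/-- the member number 0 for the order 20 -/
theorem m20_0 {K : Type u} [Field K] [Fintype K] {p : ℕ} {M' : Ideal AlgInt} (hM : IsPModular p M') (h5 : 5 < p)
    (hpq : ¬ p ∣ Fintype.card K) (hp : (p : ℤ) ∣ evZ (Fintype.card K) (1 :: F20))
    (hJ : ∀ J : Finset (Fin 8), J ≠ Finset.univ → p ∣ (PK hpE8 K J).index)
    (hcard : Nat.card (RGD.Sup (XX chevE8 8 K) (RGD.Pos CoxeterMatrix.E₈.toCoxeterSystem hpE8.isCartan)) = Fintype.card K ^ 120) :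
    Mbr p M' ↥((chevE8).group K) (Fintype.card K) 1 (shL 120 [1]) := by
  have hq : 0 < Fintype.card K := Fintype.card_pos
  obtain ⟨χ1, h1, h2, -, h4⟩ := exists_st_chev hpE8 K
  obtain ⟨χ, H⟩ := con K h1
  rw [hcard] at h2
  exact H.mbr hq hM hpq pal20 hp (h4 p M' hM hpq hJ) h2 b20_0 d20_0 (not_dvd_of_lt hM.1 h5 (by decide)) (hlen 0)

/-- the member number 3 for the order 20 -/
theorem m20_3 {K : Type u} [Field K] [Fintype K] {p : ℕ} {M' : Ideal AlgInt} (hM : IsPModular p M') (h5 : 5 < p)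
    (hpq : ¬ p ∣ Fintype.card K) (hp : (p : ℤ) ∣ evZ (Fintype.card K) (1 :: F20))
    (hJ : ∀ J : Finset (Fin 8), J ≠ Finset.univ → p ∣ (PK hpE8 K J).index)
    (hcard : Nat.card (RGD.Sup (XX chevE8 8 K) (RGD.Pos CoxeterMatrix.E₈.toCoxeterSystem hpE8.isCartan)) = Fintype.card K ^ 120) :
    Mbr p M' ↥((chevE8).group K) (Fintype.card K) 2 (shL 63 [1, 1, 1, 1, 1, 2, 2, 2, 2, 3, 3, 3, 4, 4, 4, 5, 5, 6, 6, 5, 6, 7, 7, 6, 7, 7, 7, 8, 7, 7, 7, 6, 7, 7, 6, 5, 6, 6, 5, 5, 4, 4, 4, 3, 3, 3, 2, 2, 2, 2, 1, 1, 1, 1, 1, 0, 0, 0]) := by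
  have hq : 0 < Fintype.card K := Fintype.card_pos
  obtain ⟨χ1, h1, h2, -, h4⟩ := exists_st_chev hpE8 K
  obtain ⟨χ, H⟩ := con K h1
  rw [hcard] at h2
  exact H.mbr hq hM hpq pal20 hp (h4 p M' hM hpq hJ) h2 b20_3 d20_3 (not_dvd_of_lt hM.1 h5 (by decide)) (hlen 3)

/-- the member number 0 for the order 24 -/
theorem m24_0 {K : Type u} [Field K] [Fintype K] {p : ℕ} {M' : Ideal AlgInt} (hM : IsPModular p M') (h5 : 5 < p)
    (hpq : ¬ p ∣ Fintype.card K) (hp : (p : ℤ) ∣ evZ (Fintype.card K) (1 :: F24))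
    (hJ : ∀ J : Finset (Fin 8), J ≠ Finset.univ → p ∣ (PK hpE8 K J).index)
    (hcard : Nat.card (RGD.Sup (XX chevE8 8 K) (RGD.Pos CoxeterMatrix.E₈.toCoxeterSystem hpE8.isCartan)) = Fintype.card K ^ 120) :
    Mbr p M' ↥((chevE8).group K) (Fintype.card K) 1 (shL 120 [1]) := by
  have hq : 0 < Fintype.card K := Fintype.card_pos
  obtain ⟨χ1, h1, h2, -, h4⟩ := exists_st_chev hpE8 K
  obtain ⟨χ, H⟩ := con K h1
  rw [hcard] at h2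
  exact H.mbr hq hM hpq pal24 hp (h4 p M' hM hpq hJ) h2 b24_0 d24_0 (not_dvd_of_lt hM.1 h5 (by decide)) (hlen 0)

/-- the member number 2 for the order 24 -/
theorem m24_2 {K : Type u} [Field K] [Fintype K] {p : ℕ} {M' : Ideal AlgInt} (hM : IsPModular p M') (h5 : 5 < p)
    (hpq : ¬ p ∣ Fintype.card K) (hp : (p : ℤ) ∣ evZ (Fintype.card K) (1 :: F24))
    (hJ : ∀ J : Finset (Fin 8), J ≠ Finset.univ → p ∣ (PK hpE8 K J).index)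
    (hcard : Nat.card (RGD.Sup (XX chevE8 8 K) (RGD.Pos CoxeterMatrix.E₈.toCoxeterSystem hpE8.isCartan)) = Fintype.card K ^ 120) :
    Mbr p M' ↥((chevE8).group K) (Fintype.card K) 1 (shL 74 [1, 0, 0, 0, 1, 0, 1, 0, 1, 0, 2, 0, 2, 0, 1, 0, 3, 0, 2, 0, 2, 0, 3, 0, 2, 0, 2, 0, 3, 0, 1, 0, 2, 0, 2, 0, 1, 0, 1, 0, 1, 0, 0, 0, 1, 0, 0]) := by
  have hq : 0 < Fintype.card K := Fintype.card_pos
  obtain ⟨χ1, h1, h2, -, h4⟩ := exists_st_chev hpE8 K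
  obtain ⟨χ, H⟩ := con K h1
  rw [hcard] at h2
  exact H.mbr hq hM hpq pal24 hp (h4 p M' hM hpq hJ) h2 b24_2 d24_2 (not_dvd_of_lt hM.1 h5 (by decide)) (hlen 2)

/-- the member number 0 for the order 30 -/
theorem m30_0 {K : Type u} [Field K] [Fintype K] {p : ℕ} {M' : Ideal AlgInt} (hM : IsPModular p M') (h5 : 5 < p)
    (hpq : ¬ p ∣ Fintype.card K) (hp : (p : ℤ) ∣ evZ (Fintype.card K) (1 :: F30))
    (hJ : ∀ J : Finset (Fin 8), J ≠ Finset.univ → p ∣ (PK hpE8 K J).index)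
    (hcard : Nat.card (RGD.Sup (XX chevE8 8 K) (RGD.Pos CoxeterMatrix.E₈.toCoxeterSystem hpE8.isCartan)) = Fintype.card K ^ 120) :
    Mbr p M' ↥((chevE8).group K) (Fintype.card K) 1 (shL 120 [1]) := by
  have hq : 0 < Fintype.card K := Fintype.card_pos
  obtain ⟨χ1, h1, h2, -, h4⟩ := exists_st_chev hpE8 K
  obtain ⟨χ, H⟩ := con K h1
  rw [hcard] at h2
  exact H.mbr hq hM hpq pal30 hp (h4 p M' hM hpq hJ) h2 b30_0 d30_0 (not_dvd_of_lt hM.1 h5 (by decide)) (hlen 0)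

/-- the member number 1 for the order 30 -/
theorem m30_1 {K : Type u} [Field K] [Fintype K] {p : ℕ} {M' : Ideal AlgInt} (hM : IsPModular p M') (h5 : 5 < p)
    (hpq : ¬ p ∣ Fintype.card K) (hp : (p : ℤ) ∣ evZ (Fintype.card K) (1 :: F30))
    (hJ : ∀ J : Finset (Fin 8), J ≠ Finset.univ → p ∣ (PK hpE8 K J).index)
    (hcard : Nat.card (RGD.Sup (XX chevE8 8 K) (RGD.Pos CoxeterMatrix.E₈.toCoxeterSystem hpE8.isCartan)) = Fintype.card K ^ 120) :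
    Mbr p M' ↥((chevE8).group K) (Fintype.card K) 1 (shL 91 [1, 0, 0, 0, 0, 0, 1, 0, 0, 0, 1, 0, 1, 0, 0, 0, 1, 0, 1, 0, 0, 0, 1, 0, 0, 0, 0, 0, 1, 0]) := by
  have hq : 0 < Fintype.card K := Fintype.card_pos
  obtain ⟨χ1, h1, h2, -, h4⟩ := exists_st_chev hpE8 K
  obtain ⟨χ, H⟩ := con K h1
  rw [hcard] at h2
  exact H.mbr hq hM hpq pal30 hp (h4 p M' hM hpq hJ) h2 b30_1 d30_1 (not_dvd_of_lt hM.1 h5 (by decide)) (hlen 1)

end E8E7M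

end Cfsg.Agent.H498.RP
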