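import Cfsg.Agent.H498.RP.Two
import Cfsg.Agent.H667.BR.BldM
import Cfsg.Agent.Tits.Opp
import Cfsg.Agent.Blocks.Local
import Cfsg.Agent.Blocks.Knorr

/-!
# The constituents of the character induced from the Steinberg character of `P_J` (helper498)

* `Zb` : the elements of `W` with a given label, weighted by `x ^ length`;
* `sum_sph` : summation over the chambers of a function of the distance;
* `mker` : the kernels `sg (δ c d) φ (lvl c d)` form a `Ker2`.
-/

set_option autoImplicit false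
set_option linter.unusedSectionVars false

open Cfsg
open scoped ComplexConjugate

namespace Cfsg.Agent.H498.RP

open CoxeterSystem Cfsg.Agent.Tits.Core Cfsg.Agent.Tits.Exchange Cfsg.Agent.ChevalleyStructure.CoxeterGeom
open Cfsg.Agent.Characters.Core Cfsg.Agent.Characters Cfsg.Agent.H796.BR Cfsg.Agent.H667.BR

universe u v

section Cnt

variable {I : Type*} [Fintype I] [DecidableEq I] {A : I → I → ℤ} {i0 : I} {m r : ℕ} (O : Orb A i0 m r)
  {M : CoxeterMatrix I} {W : Type*} [Group W] [Fintype W] (cs : CoxeterSystem M W) (h : IsCartan M A)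

/-- the elements with a given label, weighted -/
noncomputable def Zb (x : ℂ) (b : Fin m) : ℂ := ∑ w : W, if lab O cs h w = b then x ^ cs.length w else 0

theorem Zb_act (x : ℂ) {j : I} {b : Fin m} (hb : 0 < pairing A j (O.vec b)) :
    Zb O cs h x (O.act j b) = x * Zb O cs h x b := by
  classical
  unfold Zb
  rw [Finset.mul_sum]
  refine (Fintype.sum_equiv (Equiv.mulRight (cs.simple j)) _ _ fun w => ?_).symm
  rw [Equiv.coe_mulRight, lab_mul_simple]
  have h1 : O.act j (lab O cs h w) = O.act j b ↔ lab O cs h w = b :=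
    ⟨fun e => by rw [← act_act O h j (lab O cs h w), e, act_act O h], fun e => by rw [e]⟩
  by_cases hw : lab O cs h w = b
  · rw [if_pos hw, if_pos (h1.2 hw)]
    have h2 : cs.length (w * cs.simple j) = cs.length w + 1 := by
      rcases cs.length_mul_simple w j with h3 | h3
      · exact h3
      · exfalso
        have h4 := pairing_nonpos O cs h (w := w) (i := j) (by omega)
        rw [hw] at h4
        omega
    rw [h2, pow_succ, mul_comm]
  · rw [if_neg hw, if_neg (fun h3 => hw (h1.1 h3)), mul_zero]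

theorem Zb_b0 (q : ℕ) : Zb O cs h (q : ℂ)⁻¹ O.b0 = rhoJ cs q {j | j ≠ i0} := by
  classical
  unfold Zb rhoJ
  rw [Finset.sum_filter]
  refine Finset.sum_congr rfl fun w _ => ?_
  have h1 : lab O cs h w = O.b0 ↔ w ∈ WJ cs {j | j ≠ i0} := by
    constructor
    · intro e
      have h2 := vec_lab O cs h w
      rw [e] at h2
      have h3 := mem_WJ_of_fix O cs h w⁻¹ h2.symm
      exact inv_mem_iff.1 h3
    · intro hw
      have h2 := lab_WJ_mul O cs h hw 1
      rwa [mul_one, lab_one] at h2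
  simp only [h1]

theorem Zb_eq {x : ℂ} {wt : Fin m → ℂ} (hw1 : ∀ k, wt (O.base k) = 1)
    (hw2 : ∀ j, j ≠ i0 → ∀ b, 0 < pairing A j (O.vec b) → wt (O.act j b) = x * wt b) (b : Fin m) :
    Zb O cs h x b = wt b * Zb O cs h x (O.base (O.lv b)) := by
  induction hn : O.dp b using Nat.strong_induction_on generalizing b with
  | _ n ih =>
    rcases O.down b with h1 | ⟨j, hj, h2, h3⟩
    · have h4 := hw1 (O.lv b)
      rw [← h1] at h4
      rw [h4, one_mul, ← h1]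
    · have hp : 0 < pairing A j (O.vec (O.act j b)) := by
        rw [pairing_act O h]
        omega
      have h4 := Zb_act O cs h x hp
      have h5 := hw2 j hj _ hp
      rw [act_act O h] at h4 h5
      rw [h4, h5, ih (O.dp (O.act j b)) (by omega) _ rfl, lv_act O hj, mul_assoc]

/-- all steps of the word are upwards -/
def PW (O : Orb A i0 m r) : List I → Fin m → Prop
  | [], _ => True
  | i :: l, b => 0 < pairing A i (O.vec b) ∧ PW O l (O.act i b)

theorem Zb_word (x : ℂ) (l : List I) (b : Fin m) (hl : PW O l b) :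
    Zb O cs h x (l.foldl (fun b i => O.act i b) b) = x ^ l.length * Zb O cs h x b := by
  induction l generalizing b with
  | nil => rw [List.foldl_nil, List.length_nil, pow_zero, one_mul]
  | cons i l ih =>
    rw [List.foldl_cons, ih _ hl.2, Zb_act O cs h x hl.1, List.length_cons, pow_succ]
    ring

/-- the weight of a level -/
def nk (O : Orb A i0 m r) {F : Type*} [Field F] (x : F) (wt : Fin m → F) (k : Fin r) : F :=
  x ^ (O.wd k).length * lsum O wt (fun _ => 1) k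

theorem sum_W {x : ℂ} {wt : Fin m → ℂ} (hw1 : ∀ k, wt (O.base k) = 1)
    (hw2 : ∀ j, j ≠ i0 → ∀ b, 0 < pairing A j (O.vec b) → wt (O.act j b) = x * wt b)
    (hPW : ∀ k, PW O (O.wd k) O.b0) (φ : Fin r → ℂ) :
    ∑ w : W, x ^ cs.length w * φ (O.lv (lab O cs h w)) = Zb O cs h x O.b0 * ∑ k, nk O x wt k * φ k := by
  classical
  have h1 : ∀ w : W, x ^ cs.length w * φ (O.lv (lab O cs h w)) =
      ∑ b, (if lab O cs h w = b then x ^ cs.length w else 0) * φ (O.lv b) := by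
    intro w
    rw [Finset.sum_eq_single (lab O cs h w)]
    · rw [if_pos rfl]
    · intro b _ hb
      rw [if_neg hb.symm, zero_mul]
    · intro h2
      exact absurd (Finset.mem_univ _) h2
  rw [Finset.sum_congr rfl fun w _ => h1 w, Finset.sum_comm]
  have h2 : ∀ b, ∑ w : W, (if lab O cs h w = b then x ^ cs.length w else 0) * φ (O.lv b) =
      ∑ k, if O.lv b = k then Zb O cs h x O.b0 * (x ^ (O.wd k).length * wt b) * φ k else 0 := by
    intro b
    rw [Finset.sum_ite_eq, if_pos (Finset.mem_univ _), ← Finset.sum_mul]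
    congr 1
    have h3 := Zb_eq O cs h hw1 hw2 b
    have h4 := Zb_word O cs h x _ _ (hPW (O.lv b))
    rw [O.word] at h4
    show Zb O cs h x b = _
    rw [h3, h4]
    ring
  rw [Finset.sum_congr rfl fun b _ => h2 b, Finset.sum_comm, Finset.mul_sum]
  refine Finset.sum_congr rfl fun k _ => ?_
  unfold nk lsum
  rw [Finset.mul_sum, Finset.sum_mul, Finset.mul_sum]
  refine Finset.sum_congr rfl fun b _ => ?_
  split_ifs
  · ring
  · ring

end Cnt

section Sph

open Cfsg.Agent.Tits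

variable {I : Type*} {M : CoxeterMatrix I} {W : Type*} [Group W] [Fintype W] {cs : CoxeterSystem M W}
  {C : Type v} [Fintype C] (Δ : Bldg cs C) {q : ℕ}
  (hq : ∀ x i, Nat.card {y // Δ.δ x y = cs.simple i} = q)

include hq in
theorem card_sph_pow (hq0 : 0 < q) (x : C) (w : W) : Nat.card {z : C // Δ.δ x z = w} = q ^ cs.length w := by
  obtain ⟨ω, hω, rfl⟩ := cs.exists_isReduced w
  rw [Opp.card_sphere Δ (q := fun _ => q) (fun i y => ?_) (fun _ => hq0) x hω]
  · rw [List.map_const', List.prod_replicate, hω.eq]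
  · have h4 : Δ.Pan i y = insert y {z : C | Δ.δ y z = cs.simple i} := by
      ext z
      rw [Set.mem_insert_iff]
      rfl
    have h5 : y ∉ {z : C | Δ.δ y z = cs.simple i} := by
      change ¬ (Δ.δ y y = cs.simple i)
      rw [Δ.δ_self]
      intro h6
      have h7 := cs.length_simple i
      rw [← h6, cs.length_one] at h7
      omega
    rw [h4, Nat.card_coe_set_eq, Set.ncard_insert_of_notMem h5, ← Nat.card_coe_set_eq]
    exact congrArg (· + 1) (hq y i)

include hq in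
/-- summation over the spheres -/
theorem sum_sph (hq0 : 0 < q) (f : W → ℂ) (o : C) : ∑ c : C, f (Δ.δ o c) = ∑ w : W, (q : ℂ) ^ cs.length w * f w := by
  classical
  have h1 : ∀ c : C, f (Δ.δ o c) = ∑ w : W, if Δ.δ o c = w then f w else 0 := by
    intro c
    rw [Finset.sum_ite_eq, if_pos (Finset.mem_univ _)]
  rw [Finset.sum_congr rfl fun c _ => h1 c, Finset.sum_comm]
  refine Finset.sum_congr rfl fun w _ => ?_
  rw [← Finset.sum_filter, Finset.sum_const, nsmul_eq_mul]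
  congr 1
  have h2 := card_sph_pow Δ hq hq0 o w
  rw [Nat.card_eq_fintype_card, Fintype.card_subtype] at h2
  rw [h2]
  push_cast
  rfl

end Sph

/-! ### the kernels -/

section Ker

variable {I : Type*} [Fintype I] [DecidableEq I] {A : I → I → ℤ} {i0 : I} {m r : ℕ} (O : Orb A i0 m r)
  {M : CoxeterMatrix I} {W : Type*} [Group W] [Fintype W] {cs : CoxeterSystem M W} (h : IsCartan M A)
  {C : Type v} [Fintype C] (Δ : Bldg cs C) {q : ℕ}
  (hq : ∀ x i, Nat.card {y // Δ.δ x y = cs.simple i} = q)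
  {G : Type u} [Group G] [Fintype G] [MulAction G C]
  (hiso : ∀ (g : G) (x y : C), Δ.δ (g • x) (g • y) = Δ.δ x y)
  (htr : ∀ x y x' y' : C, Δ.δ x y = Δ.δ x' y' → ∃ g : G, g • x = x' ∧ g • y = y')

open Classical in
/-- the adjacency -/
noncomputable def K2 (i0 : I) (c d : C) : ℂ := if Δ.δ c d = cs.simple i0 then 1 else 0

include hq in
/-- the operator on functions of the level -/
theorem hop {wt : Fin m → ℂ} (hw1 : ∀ k, wt (O.base k) = 1)
    (hw2 : ∀ j, j ≠ i0 → ∀ b, 0 < pairing A j (O.vec b) → wt (O.act j b) = (q : ℂ)⁻¹ * wt b) (o : C)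
    (φ : Fin r → ℂ) : Kop (Km Δ q {j | j ≠ i0}) (Kop (K2 Δ i0) (Fl O h Δ q o φ)) =
      (-(q : ℂ) * rhoJ cs q {j | j ≠ i0}) • Fl O h Δ q o (Bop O (fun _ => (q : ℂ)⁻¹) wt φ) := by
  classical
  funext c
  have h1 : ∀ d, Kop (K2 Δ i0) (Fl O h Δ q o φ) d =
      -(q : ℂ) * (sg cs q (Δ.δ o d) * Tf O (fun _ => (q : ℂ)⁻¹) i0 (fun b => φ (O.lv b)) (lab O cs h (Δ.δ o d))) := by
    intro d
    rw [← sum_labM O h Δ hq (fun b => φ (O.lv b)) o d i0, Kop_apply, Finset.sum_filter]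
    refine Finset.sum_congr rfl fun e _ => ?_
    unfold K2
    rw [ite_mul, one_mul, zero_mul]
    rfl
  have h2 : Kop (Km Δ q {j | j ≠ i0}) (Kop (K2 Δ i0) (Fl O h Δ q o φ)) c =
      -(q : ℂ) * Rm O h Δ q o c (Tf O (fun _ => (q : ℂ)⁻¹) i0 (fun b => φ (O.lv b))) := by
    rw [Kop_apply]
    unfold Rm
    rw [Finset.mul_sum]
    refine Finset.sum_congr rfl fun d _ => ?_
    rw [h1]
    ring
  rw [h2, Rm_div O h Δ hq hw1 hw2, Pi.smul_apply, smul_eq_mul, Fl, Bop_apply]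
  unfold lvl
  ring

theorem exists_wd (cs : CoxeterSystem M W) (h : IsCartan M A) : ∀ (l : List I) (w : W),
    lab O cs h (w * cs.wordProd l) = l.foldl (fun b i => O.act i b) (lab O cs h w) := by
  intro l
  induction l with
  | nil => intro w; rw [cs.wordProd_nil, mul_one, List.foldl_nil]
  | cons i l ih =>
    intro w
    rw [cs.wordProd_cons, ← mul_assoc, ih, lab_mul_simple, List.foldl_cons]

/-- the level is symmetric -/
theorem lv_inv (hsym : ∀ k, O.lv ((O.wd k).reverse.foldl (fun b i => O.act i b) O.b0) = k) (w : W) :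
    O.lv (lab O cs h w⁻¹) = O.lv (lab O cs h w) := by
  set k := O.lv (lab O cs h w) with hk
  have h1 : lab O cs h (cs.wordProd (O.wd k)) = O.base k := by
    have h2 := exists_wd O cs h (O.wd k) 1
    rwa [one_mul, lab_one, O.word] at h2
  have h2 : O.lv (lab O cs h (cs.wordProd (O.wd k))) = O.lv (lab O cs h w) := by rw [h1, O.lv_base]
  obtain ⟨u, hu, v, hv, e⟩ := exists_dc O cs h h2
  have h3 : w⁻¹ = v⁻¹ * (cs.wordProd (O.wd k).reverse * u⁻¹) := by
    rw [e, cs.wordProd_reverse]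
    group
  have h4 := exists_wd O cs h (O.wd k).reverse 1
  rw [one_mul, lab_one] at h4
  rw [h3, lab_WJ_mul O cs h (inv_mem hv), lv_mul_WJ O cs h (inv_mem hu), h4, hsym]

open Classical in
include hq in
/-- functions in the span have sum zero on the panels -/
theorem span_panel {f : C → ℂ} {j : I} (hj : j ≠ i0)
    (hf : f ∈ Submodule.span ℂ (Set.range fun p : (Fin r → ℂ) × C => Fl O h Δ q p.2 p.1)) (c : C) :
    ∑ d ∈ Finset.univ.filter (fun d => Δ.δ c d = cs.simple j), f d = - f c := by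
  refine Submodule.span_induction (p := fun f _ => ∑ d ∈ Finset.univ.filter (fun d => Δ.δ c d = cs.simple j), f d =
    - f c) ?_ ?_ ?_ ?_ hf
  · rintro _ ⟨p, rfl⟩
    exact sum_lvM O h Δ hq p.1 p.2 c hj
  · simp
  · intro x y _ _ hx hy
    simp only [Pi.add_apply, Finset.sum_add_distrib]
    rw [hx, hy]
    ring
  · intro a x _ hx
    simp only [Pi.smul_apply, smul_eq_mul, ← Finset.mul_sum]
    rw [hx]
    ring

include hq hiso htr in
/-- **The kernels.** -/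
noncomputable def mker {wt : Fin m → ℂ} (hw1 : ∀ k, wt (O.base k) = 1)
    (hw2 : ∀ j, j ≠ i0 → ∀ b, 0 < pairing A j (O.vec b) → wt (O.act j b) = (q : ℂ)⁻¹ * wt b)
    (hsym : ∀ k, O.lv ((O.wd k).reverse.foldl (fun b i => O.act i b) O.b0) = k) (o : C) : Ker2 G C r where
  F φ c d := Fl O h Δ q c φ d
  A := Kop (Km Δ q {j | j ≠ i0}) ∘ₗ Kop (K2 Δ i0)
  B := Bop O (fun _ => (q : ℂ)⁻¹) wt
  κ := -(q : ℂ) * rhoJ cs q {j | j ≠ i0}
  k0 := O.lv O.b0
  o := o
  κ_ne := mul_ne_zero (neg_ne_zero.2 (q_ne Δ hq o i0)) (rhoJ_ne _ _ _)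
  inv φ g c d := Fl_smul O h Δ hiso c d φ g
  symm φ c d := by
    unfold Fl lvl
    rw [Δ.symm d c, sg_inv, lv_inv O h hsym]
  eig φ c := hop O h Δ hq hw1 hw2 c φ
  inj φ c h1 := by
    funext k
    obtain ⟨x, hx⟩ := exists_lvl O h Δ c k
    have h2 := congrFun h1 x
    unfold Fl at h2
    rw [hx] at h2
    exact (mul_eq_zero.1 h2).resolve_left (sg_ne cs (q_ne Δ hq o i0) _)
  smul a φ c d := by
    unfold Fl
    rw [Pi.smul_apply, smul_eq_mul]
    ring
  sub φ ψ c d := by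
    unfold Fl
    rw [Pi.sub_apply]
    ring
  diag φ c := by
    unfold Fl lvl sg
    rw [Δ.δ_self, cs.length_one, pow_zero, one_mul, lab_one]
  fac H h0 h1 h2 := by
    obtain ⟨ψ, hψ⟩ := exists_factorM O h Δ hq htr (f := H) h0
      (fun j hj o c => span_panel O h Δ hq hj (h1 o) c)
      (fun j hj o c => span_panel O h Δ hq hj (h2 c) o) o
    refine ⟨ψ, ?_⟩
    funext c d
    obtain ⟨g, hg, -⟩ := htr o o c c (by rw [Δ.δ_self, Δ.δ_self])
    have h3 := hψ (g⁻¹ • d)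
    rw [← h0 g, smul_inv_smul, hg] at h3
    rw [h3]
    show sg cs q (Δ.δ o (g⁻¹ • d)) * ψ (lvl O h Δ o (g⁻¹ • d)) = Fl O h Δ q c ψ d
    have h4 : Δ.δ o (g⁻¹ • d) = Δ.δ c d := by rw [← hiso g, smul_inv_smul, hg]
    unfold Fl lvl
    rw [h4]

end Ker

/-! ### the constituents -/

section Con

variable {I : Type*} [Fintype I] [DecidableEq I] {A : I → I → ℤ} {i0 : I} {m r : ℕ} (O : Orb A i0 m r)
  {M : CoxeterMatrix I} {W : Type*} [Group W] [Fintype W] {cs : CoxeterSystem M W} (h : IsCartan M A)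
  {C : Type v} [Fintype C] (Δ : Bldg cs C) {q : ℕ}
  (hq : ∀ x i, Nat.card {y // Δ.δ x y = cs.simple i} = q)
  {G : Type u} [Group G] [Fintype G] [MulAction G C]
  (hiso : ∀ (g : G) (x y : C), Δ.δ (g • x) (g • y) = Δ.δ x y)
  (htr : ∀ x y x' y' : C, Δ.δ x y = Δ.δ x' y' → ∃ g : G, g • x = x' ∧ g • y = y')

include hq in
/-- **The form.** -/
theorem fsum {wt : Fin m → ℂ} (hw1 : ∀ k, wt (O.base k) = 1)
    (hw2 : ∀ j, j ≠ i0 → ∀ b, 0 < pairing A j (O.vec b) → wt (O.act j b) = (q : ℂ)⁻¹ * wt b)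
    (hPW : ∀ k, PW O (O.wd k) O.b0) (hq0 : 0 < q) (φ ψ : Fin r → ℂ) (c : C) :
    ∑ d, Fl O h Δ q c φ d * Fl O h Δ q c ψ d =
      rhoJ cs q {j | j ≠ i0} * ∑ k, nk O (q : ℂ)⁻¹ wt k * (φ k * ψ k) := by
  have hqc : (q : ℂ) ≠ 0 := by exact_mod_cast hq0.ne'
  have h1 := sum_sph Δ hq hq0 (fun w => sg cs q w ^ 2 * (φ (O.lv (lab O cs h w)) * ψ (O.lv (lab O cs h w)))) c
  have h2 := sum_W O cs h hw1 hw2 hPW (fun k => φ k * ψ k)
  rw [Zb_b0] at h2
  rw [← h2]
  refine Eq.trans ?_ (h1.trans ?_)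
  · refine Finset.sum_congr rfl fun d _ => ?_
    unfold Fl lvl
    ring
  · refine Finset.sum_congr rfl fun w _ => ?_
    have h3 : (q : ℂ) ^ cs.length w * sg cs q w ^ 2 = (q : ℂ)⁻¹ ^ cs.length w := by
      unfold sg
      rw [← pow_mul, mul_comm (cs.length w) 2, pow_mul, neg_sq, inv_pow, inv_pow, inv_pow, pow_right_comm]
      field_simp
    rw [← mul_assoc, h3]

/-- summation over an orbit -/
theorem card_mul_sum (htr1 : ∀ x y : C, ∃ g : G, g • x = y) (f : C → ℂ) (o : C) :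
    (Fintype.card C : ℂ) * ∑ a : G, f (a • o) = (Nat.card G : ℂ) * ∑ c : C, f c := by
  have h1 : ∀ c : C, ∑ a : G, f (a • c) = ∑ a : G, f (a • o) := by
    intro c
    obtain ⟨g, hg⟩ := htr1 o c
    refine Fintype.sum_equiv (Equiv.mulRight g) _ _ fun a => ?_
    rw [Equiv.coe_mulRight, mul_smul, hg]
  have h2 : ∑ c : C, ∑ a : G, f (a • c) = (Fintype.card C : ℂ) * ∑ a : G, f (a • o) := by
    rw [Finset.sum_congr rfl fun c _ => h1 c, Finset.sum_const, Finset.card_univ, nsmul_eq_mul]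
  rw [← h2, Finset.sum_comm]
  have h3 : ∀ a : G, ∑ c : C, f (a • c) = ∑ c : C, f c := by
    intro a
    exact Fintype.sum_equiv (MulAction.toPerm a) _ _ fun c => by rw [MulAction.toPerm_apply]
  rw [Finset.sum_congr rfl fun a _ => h3 a, Finset.sum_const, Finset.card_univ, nsmul_eq_mul, Nat.card_eq_fintype_card]

theorem nk_cast (O : Orb A i0 m r) (x : ℚ) (wt : Fin m → ℚ) (k : Fin r) :
    nk O (x : ℂ) (fun b => (wt b : ℂ)) k = ((nk O x wt k : ℚ) : ℂ) := by
  unfold nk lsum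
  rw [Rat.cast_mul, Rat.cast_pow, Rat.cast_sum]
  congr 1
  refine Finset.sum_congr rfl fun b _ => ?_
  split_ifs
  · push_cast; ring
  · simp

include hq in
theorem Km_Fl (o c : C) (φ : Fin r → ℂ) :
    ∑ d, Km Δ q {j | j ≠ i0} c d * Fl O h Δ q o φ d = rhoJ cs q {j | j ≠ i0} * Fl O h Δ q o φ c := by
  have h1 := Km_sum Δ (q := q) (J := {j | j ≠ i0}) (f := Fl O h Δ q o φ) (fun j hj x => sum_lvM O h Δ hq φ o x hj)
  have h2 := congrFun h1 c
  rw [Kop_apply, Pi.smul_apply, smul_eq_mul] at h2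
  exact h2

theorem Km_eq_Fl (c d : C) : Km Δ q {j | j ≠ i0} c d = Fl O h Δ q c (Pi.single (O.lv O.b0) 1) d := by
  classical
  unfold Km Fl lvl sg
  have h1 : Δ.δ c d ∈ WJ cs {j | j ≠ i0} ↔ O.lv (lab O cs h (Δ.δ c d)) = O.lv O.b0 := by
    rw [← lab_one O cs h]
    constructor
    · intro hx
      have h2 := lv_mul_WJ O cs h hx 1
      rwa [one_mul] at h2
    · intro hx
      obtain ⟨u, hu, v, hv, e⟩ := exists_dc O cs h hx.symm
      rw [e, mul_one]
      exact mul_mem hu hv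
  by_cases h2 : Δ.δ c d ∈ WJ cs {j | j ≠ i0}
  · rw [if_pos h2, h1.1 h2, Pi.single_eq_same, mul_one]
  · rw [if_neg h2, Pi.single_eq_of_ne (fun h3 => h2 (h1.2 h3)), mul_zero]

theorem isClassFunction_conj (g : G) [DecidablePred (IsConj g)] :
    IsClassFunction G (fun y => if IsConj g y then (1 : ℂ) else 0) := by
  intro y x
  have h1 : IsConj g (x * y * x⁻¹) ↔ IsConj g y := by
    have h2 : IsConj y (x * y * x⁻¹) := isConj_iff.2 ⟨x, rfl⟩
    exact ⟨fun h3 => h3.trans h2.symm, fun h3 => h3.trans h2⟩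
  simp only [h1]

open Classical in
include h hq hiso htr in
/-- **The central characters.** -/
theorem omega_eq {wt : Fin m → ℚ} (hw1 : ∀ k, wt (O.base k) = 1)
    (hw2 : ∀ j, j ≠ i0 → ∀ b, 0 < pairing A j (O.vec b) → wt (O.act j b) = (q : ℚ)⁻¹ * wt b)
    (hsym : ∀ k, O.lv ((O.wd k).reverse.foldl (fun b i => O.act i b) O.b0) = k)
    (hPW : ∀ k, PW O (O.wd k) O.b0) (o : C) (g : G) :
    ∃ (L : ℕ) (z : Fin r → ℤ), ∀ (φ : Fin r → ℂ),
      (q : ℂ) ^ L * ∑ y : G, (if IsConj g y then (1 : ℂ) else 0) * Fl O h Δ q o φ (y • o) =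
        ∑ k, (z k : ℂ) * (((nk O (q : ℚ)⁻¹ wt k : ℚ) : ℂ) * φ k) := by
  have hqc := q_ne Δ hq o i0
  have hq0 : 0 < q := Nat.pos_of_ne_zero (by exact_mod_cast hqc)
  set wc : Fin m → ℂ := fun b => (wt b : ℂ) with hwc
  have hw1' : ∀ k, wc (O.base k) = 1 := by
    intro k
    simp only [hwc, hw1, Rat.cast_one]
  have hw2' : ∀ j, j ≠ i0 → ∀ b, 0 < pairing A j (O.vec b) → wc (O.act j b) = (q : ℂ)⁻¹ * wc b := by
    intro j hj b hb
    simp only [hwc, hw2 j hj b hb, Rat.cast_mul, Rat.cast_inv, Rat.cast_natCast]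
  set K := mker O h Δ hq hiso htr hw1' hw2' hsym o with hK
  obtain ⟨ψ, hψ⟩ := K.exists_cls (isClassFunction_conj g) (Pi.single (O.lv O.b0) 1)
  have hψ' : ∀ c d, ∑ y : G, (if IsConj g y then (1 : ℂ) else 0) * Km Δ q {j | j ≠ i0} (y⁻¹ • c) d =
      Fl O h Δ q c ψ d := by
    intro c d
    refine Eq.trans ?_ (hψ c d)
    refine Finset.sum_congr rfl fun y _ => ?_
    rw [Km_eq_Fl O h]
    rfl
  -- the denominators
  set L := Finset.univ.sup fun w : W => cs.length w with hL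
  have hle : ∀ w : W, cs.length w ≤ L := fun w => Finset.le_sup (f := fun w : W => cs.length w) (Finset.mem_univ w)
  have hz : ∀ k, ∃ z : ℤ, (q : ℂ) ^ L * ψ k = z := by
    intro k
    obtain ⟨d, hd⟩ := exists_lvl O h Δ o k
    have h1 := hψ' o d
    unfold Fl at h1
    rw [hd] at h1
    have h2 : ∀ c d : C, ∃ z : ℤ, (q : ℂ) ^ L * Km Δ q {j | j ≠ i0} c d = z := by
      intro c d
      unfold Km
      split_ifs
      · refine ⟨(-1) ^ cs.length (Δ.δ c d) * (q : ℤ) ^ (L - cs.length (Δ.δ c d)), ?_⟩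
        push_cast
        have h3 : (q : ℂ) ^ L = (q : ℂ) ^ (L - cs.length (Δ.δ c d)) * (q : ℂ) ^ cs.length (Δ.δ c d) := by
          rw [← pow_add, Nat.sub_add_cancel (hle _)]
        rw [h3, neg_eq_neg_one_mul ((q : ℂ)⁻¹), mul_pow, inv_pow]
        field_simp
      · exact ⟨0, by push_cast; ring⟩
    choose zz hzz using h2
    refine ⟨(-(q : ℤ)) ^ cs.length (Δ.δ o d) * ∑ y : G, (if IsConj g y then (1 : ℤ) else 0) * zz (y⁻¹ • o) d, ?_⟩
    have h3 : ψ k = (-(q : ℂ)) ^ cs.length (Δ.δ o d) * (sg cs q (Δ.δ o d) * ψ k) := by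
      unfold sg
      rw [← mul_assoc, ← mul_pow]
      have h4 : -(q : ℂ) * -(q : ℂ)⁻¹ = 1 := by field_simp
      rw [h4, one_pow, one_mul]
    rw [h3, ← h1]
    push_cast
    rw [Finset.mul_sum, Finset.mul_sum, Finset.mul_sum]
    refine Finset.sum_congr rfl fun y _ => ?_
    rw [← hzz]
    ring
  choose z hz using hz
  refine ⟨L, z, fun φ => ?_⟩
  have hρ := rhoJ_ne cs q {j | j ≠ i0}
  have h1 := fsum O h Δ hq hw1' hw2' hPW hq0 ψ φ o
  have h2 : ∑ d, Fl O h Δ q o ψ d * Fl O h Δ q o φ d = rhoJ cs q {j | j ≠ i0} *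
      ∑ y : G, (if IsConj g y then (1 : ℂ) else 0) * Fl O h Δ q o φ (y • o) := by
    have h3 : ∀ d, Fl O h Δ q o ψ d * Fl O h Δ q o φ d =
        ∑ y : G, (if IsConj g y then (1 : ℂ) else 0) * (Km Δ q {j | j ≠ i0} (y⁻¹ • o) d * Fl O h Δ q o φ d) := by
      intro d
      rw [← hψ', Finset.sum_mul]
      exact Finset.sum_congr rfl fun y _ => by ring
    rw [Finset.sum_congr rfl fun d _ => h3 d, Finset.sum_comm, Finset.mul_sum]
    refine Finset.sum_congr rfl fun y _ => ?_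
    rw [← Finset.mul_sum, Km_Fl O h Δ hq]
    have h4 : Fl O h Δ q o φ (y⁻¹ • o) = Fl O h Δ q o φ (y • o) := K.F_inv φ y
    rw [h4]
    ring
  rw [h1] at h2
  have h3 := mul_left_cancel₀ hρ h2
  rw [← h3, Finset.mul_sum]
  refine Finset.sum_congr rfl fun k _ => ?_
  rw [← hz]
  have h4 := nk_cast O (q : ℚ)⁻¹ wt k
  rw [Rat.cast_inv, Rat.cast_natCast] at h4
  rw [← h4]
  ring

include h hiso htr in
/-- the Steinberg character belongs to the constant function -/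
theorem st_Lc [DecidableEq G] (o : C) (P : Finset I → Subgroup G)
    (hP : ∀ K, ∀ g : G, g ∈ P K ↔ Δ.δ o (g • o) ∈ WJ cs (K : Set I)) {χ : G → ℂ} (hχ : IsIrrCharacter G χ)
    (hval : ∀ g, χ g = ∑ K ∈ (Finset.univ : Finset I).powerset, (-1 : ℂ) ^ K.card * fixedPointCharacter (P K) g) :
    Lc C χ (Fl O h Δ q o fun _ => 1) ≠ 0 := by
  classical
  have hG : (Nat.card G : ℂ) ≠ 0 := by exact_mod_cast Nat.card_pos.ne'
  have hreal : ∀ g, conj (χ g) = χ g := by
    intro g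
    rw [hval, map_sum]
    refine Finset.sum_congr rfl fun K _ => ?_
    rw [map_mul, map_pow, map_neg, map_one]
    congr 1
    unfold fixedPointCharacter
    exact Complex.conj_natCast _
  have h1 : ∑ K ∈ (Finset.univ : Finset I).powerset, (-1 : ℂ) ^ K.card *
      ((Nat.card (P K) : ℂ)⁻¹ * ∑ g : P K, χ g) ≠ 0 := by
    intro h2
    have h3 : (Nat.card G : ℂ) * ∑ K ∈ (Finset.univ : Finset I).powerset, (-1 : ℂ) ^ K.card *
        ((Nat.card (P K) : ℂ)⁻¹ * ∑ g : P K, χ g) = ∑ g : G, χ g * χ g := by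
      have h4 : ∀ g : G, χ g * χ g = ∑ K ∈ (Finset.univ : Finset I).powerset, (-1 : ℂ) ^ K.card *
          (χ g * fixedPointCharacter (P K) g) := by
        intro g
        nth_rw 2 [hval g]
        rw [Finset.mul_sum]
        exact Finset.sum_congr rfl fun K _ => by ring
      rw [Finset.sum_congr rfl fun g _ => h4 g, Finset.sum_comm, Finset.mul_sum]
      refine Finset.sum_congr rfl fun K _ => ?_
      rw [← Finset.mul_sum, sum_mul_fix (P K) hχ]
      ring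
    have h4 := classInner_irr_self hχ
    rw [classInner_def] at h4
    simp only [hreal] at h4
    rw [← h3, h2, mul_zero, mul_zero] at h4
    exact zero_ne_one h4
  have h2 := Km_link Δ hiso htr (q := q) o Finset.univ P (fun K _ => hP K) hχ h1
  have h3 : Km Δ q ((Finset.univ : Finset I) : Set I) o = Fl O h Δ q o fun _ => 1 := by
    funext d
    unfold Km Fl sg
    have h4 : Δ.δ o d ∈ WJ cs ((Finset.univ : Finset I) : Set I) := by
      obtain ⟨ω, hω⟩ := cs.wordProd_surjective (Δ.δ o d)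
      rw [← hω]
      clear hω
      induction ω with
      | nil => rw [cs.wordProd_nil]; exact one_mem _
      | cons i ω ih =>
        rw [cs.wordProd_cons]
        exact mul_mem (simple_mem_WJ cs (by simp)) ih
    rw [if_pos h4, mul_one]
  rwa [h3] at h2

open Classical in
include h hq hiso htr in
/-- **The constituents.** -/
theorem exists_con {wt : Fin m → ℚ} (hw1 : ∀ k, wt (O.base k) = 1)
    (hw2 : ∀ j, j ≠ i0 → ∀ b, 0 < pairing A j (O.vec b) → wt (O.act j b) = (q : ℚ)⁻¹ * wt b)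
    {U : Fin r → Fin r → ℚ} {θ : Fin r → ℚ} (hθ : Function.Injective θ) (hU0 : ∀ i, U i (O.lv O.b0) ≠ 0)
    (hU : ∀ i, Bop O (fun _ => (q : ℚ)⁻¹) wt (U i) = θ i • U i)
    (hsym : ∀ k, O.lv ((O.wd k).reverse.foldl (fun b i => O.act i b) O.b0) = k)
    (hPW : ∀ k, PW O (O.wd k) O.b0) (o : C) {i1 : Fin r} (hi1 : ∀ k, U i1 k = 1) (P : Finset I → Subgroup G)
    (hP : ∀ K, ∀ g : G, g ∈ P K ↔ Δ.δ o (g • o) ∈ WJ cs (K : Set I)) (χ1 : IrrCharacter G)
    (hval : ∀ g, (χ1 : G → ℂ) g =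
      ∑ K ∈ (Finset.univ : Finset I).powerset, (-1 : ℂ) ^ K.card * fixedPointCharacter (P K) g) :
    ∃ χ : Fin r → IrrCharacter G, Function.Injective χ ∧ χ i1 = χ1 ∧ (∀ i g, ∃ k : ℤ, (χ i : G → ℂ) g = k) ∧
      (∀ i, (charDegree (χ i : G → ℂ) : ℚ) * ∑ k, nk O (q : ℚ)⁻¹ wt k * U i k ^ 2 =
        (charDegree (χ1 : G → ℂ) : ℚ) * (∑ k, nk O (q : ℚ)⁻¹ wt k) * U i (O.lv O.b0) ^ 2) ∧
      (∀ (p : ℕ) (M : Ideal AlgInt), IsPModular p M → ¬ p ∣ q → ∀ (i j : Fin r) (N : ℕ),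
        (∀ k, ∃ z : ℤ, (q : ℚ) ^ N * (nk O (q : ℚ)⁻¹ wt k * U i k / U i (O.lv O.b0) -
          nk O (q : ℚ)⁻¹ wt k * U j k / U j (O.lv O.b0)) = p * z) →
        SameBlock M (χ i : G → ℂ) (χ j : G → ℂ)) ∧
      ∀ (i : Fin r) (H : Subgroup G), (∀ g ∈ H, g • o = o) →
        classInner (fixedPointCharacter H) (χ i : G → ℂ) ≠ 0 := by
  have hqc := q_ne Δ hq o i0
  have hq0 : 0 < q := Nat.pos_of_ne_zero (by exact_mod_cast hqc)
  have hG : (Nat.card G : ℂ) ≠ 0 := by exact_mod_cast Nat.card_pos.ne'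
  have htr1 : ∀ x y : C, ∃ g : G, g • x = y := by
    intro x y
    obtain ⟨g, hg, -⟩ := htr x x y y (by rw [Δ.δ_self, Δ.δ_self])
    exact ⟨g, hg⟩
  set wc : Fin m → ℂ := fun b => (wt b : ℂ) with hwc
  have hw1' : ∀ k, wc (O.base k) = 1 := by
    intro k
    simp only [hwc, hw1, Rat.cast_one]
  have hw2' : ∀ j, j ≠ i0 → ∀ b, 0 < pairing A j (O.vec b) → wc (O.act j b) = (q : ℂ)⁻¹ * wc b := by
    intro j hj b hb
    simp only [hwc, hw2 j hj b hb, Rat.cast_mul, Rat.cast_inv, Rat.cast_natCast]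
  have hnk : ∀ k, nk O (q : ℂ)⁻¹ wc k = ((nk O (q : ℚ)⁻¹ wt k : ℚ) : ℂ) := by
    intro k
    rw [← nk_cast, Rat.cast_inv, Rat.cast_natCast]
  set K := mker O h Δ hq hiso htr hw1' hw2' hsym o with hK
  let Uc : Fin r → Fin r → ℂ := fun i k => (U i k : ℂ)
  have hUc : ∀ i, K.B (Uc i) = (θ i : ℂ) • Uc i := by
    intro i
    funext k
    have h1 := Bop_cast O (fun _ => (q : ℚ)⁻¹) wt (U i) k
    rw [hU i] at h1
    simp only [Rat.cast_inv, Rat.cast_natCast] at h1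
    rw [Pi.smul_apply, smul_eq_mul] at h1 ⊢
    rw [← Rat.cast_mul, ← h1]
    rfl
  have hUc0 : ∀ i, Uc i K.k0 ≠ 0 := by
    intro i h1
    have h3 : ((U i (O.lv O.b0) : ℚ) : ℂ) = 0 := h1
    exact hU0 i (by exact_mod_cast h3)
  have hθc : Function.Injective fun i => (θ i : ℂ) := by
    intro i j hij
    have h1 : ((θ i : ℚ) : ℂ) = ((θ j : ℚ) : ℂ) := hij
    exact hθ (by exact_mod_cast h1)
  obtain ⟨χ, hχi, hcc⟩ := K.exists_chi hθc hUc hUc0
  -- the Steinberg character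
  have hU1 : Uc i1 = fun _ => 1 := by
    funext k
    show ((U i1 k : ℚ) : ℂ) = 1
    rw [hi1, Rat.cast_one]
  have hst : K.cc (χ1 : G → ℂ) (Uc i1) ≠ 0 := by
    refine K.cc_of_Lc hθc hUc hUc0 (isIrr_isClassFunction χ1.2) ?_
    rw [hU1]
    exact st_Lc O h Δ hiso htr o P hP χ1.2 hval
  have hχ1 : χ i1 = χ1 := Subtype.ext (K.chi_unique hθc hUc hUc0 χ1.2 (χ i1).2 hst (hcc i1))
  -- the form
  have hform : ∀ i, ∑ d, Fl O h Δ q o (Uc i) d ^ 2 = rhoJ cs q {j | j ≠ i0} *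
      ((∑ k, nk O (q : ℚ)⁻¹ wt k * U i k ^ 2 : ℚ) : ℂ) := by
    intro i
    have h1 := fsum O h Δ hq hw1' hw2' hPW hq0 (Uc i) (Uc i) o
    have h2 : ∑ d, Fl O h Δ q o (Uc i) d ^ 2 = ∑ d, Fl O h Δ q o (Uc i) d * Fl O h Δ q o (Uc i) d :=
      Finset.sum_congr rfl fun d _ => sq _
    rw [h2, h1, Rat.cast_sum]
    congr 1
    refine Finset.sum_congr rfl fun k _ => ?_
    rw [hnk, Rat.cast_mul, Rat.cast_pow, sq]
  -- the degrees
  have hFreal : ∀ i (d : C), Fl O h Δ q o (Uc i) d = (((-(q : ℝ)⁻¹) ^ cs.length (Δ.δ o d) *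
      (U i (lvl O h Δ o d) : ℝ) : ℝ) : ℂ) := by
    intro i d
    unfold Fl sg
    push_cast
    rfl
  have hdeg1 : ∀ i, (χ i : G → ℂ) 1 * ∑ a : G, Fl O h Δ q o (Uc i) (a • o) ^ 2 = (Nat.card G : ℂ) * Uc i (O.lv O.b0) ^ 2 := by
    intro i
    have h1 := K.deg_sq hθc hUc hUc0 (χ i).2 (hcc i)
    have h2 : ∀ a : G, K.F (Uc i) K.o (a • K.o) = Fl O h Δ q o (Uc i) (a • o) := fun a => rfl
    simp only [h2] at h1
    have h3 : K.k0 = O.lv O.b0 := rfl
    rw [h3] at h1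
    obtain ⟨n, hn, hn1⟩ := isIrr_apply_one (χ i).2
    rw [hn1] at h1 ⊢
    set s : ℝ := ∑ a : G, ((-(q : ℝ)⁻¹) ^ cs.length (Δ.δ o (a • o)) * (U i (lvl O h Δ o (a • o)) : ℝ)) ^ 2 with hs
    have h4 : ∑ a : G, Fl O h Δ q o (Uc i) (a • o) ^ 2 = (s : ℂ) := by
      rw [hs, Complex.ofReal_sum]
      refine Finset.sum_congr rfl fun a _ => ?_
      rw [hFreal, Complex.ofReal_pow]
    have h5 : Uc i (O.lv O.b0) = ((U i (O.lv O.b0) : ℝ) : ℂ) := by
      show ((U i (O.lv O.b0) : ℚ) : ℂ) = _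
      push_cast
      rfl
    rw [h4, h5] at h1 ⊢
    have h6 : ((n : ℝ) * s) ^ 2 = ((Nat.card G : ℝ) * (U i (O.lv O.b0) : ℝ) ^ 2) ^ 2 := by exact_mod_cast h1
    have hs0 : 0 ≤ s := Finset.sum_nonneg fun a _ => sq_nonneg _
    have h7 : (n : ℝ) * s = (Nat.card G : ℝ) * (U i (O.lv O.b0) : ℝ) ^ 2 :=
      (sq_eq_sq₀ (by positivity) (by positivity)).1 h6
    exact_mod_cast h7
  have hC : (Fintype.card C : ℂ) ≠ 0 := by
    have : Nonempty C := ⟨o⟩
    exact_mod_cast Fintype.card_pos.ne'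
  have hρ := rhoJ_ne cs q {j | j ≠ i0}
  have hdeg2 : ∀ i, (χ i : G → ℂ) 1 * (rhoJ cs q {j | j ≠ i0} *
      ((∑ k, nk O (q : ℚ)⁻¹ wt k * U i k ^ 2 : ℚ) : ℂ)) = (Fintype.card C : ℂ) * Uc i (O.lv O.b0) ^ 2 := by
    intro i
    have h1 := card_mul_sum htr1 (fun c => Fl O h Δ q o (Uc i) c ^ 2) o
    rw [hform] at h1
    have h2 : (Fintype.card C : ℂ) * ((χ i : G → ℂ) 1 * ∑ a : G, Fl O h Δ q o (Uc i) (a • o) ^ 2) =
        (Fintype.card C : ℂ) * ((Nat.card G : ℂ) * Uc i (O.lv O.b0) ^ 2) := by rw [hdeg1 i]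
    have h3 : (Nat.card G : ℂ) * ((χ i : G → ℂ) 1 * (rhoJ cs q {j | j ≠ i0} *
      ((∑ k, nk O (q : ℚ)⁻¹ wt k * U i k ^ 2 : ℚ) : ℂ))) =
        (Nat.card G : ℂ) * ((Fintype.card C : ℂ) * Uc i (O.lv O.b0) ^ 2) := by
      linear_combination h2 - (χ i : G → ℂ) 1 * h1
    exact mul_left_cancel₀ hG h3
  have hdeg3 : (χ1 : G → ℂ) 1 * (rhoJ cs q {j | j ≠ i0} *
      ((∑ k, nk O (q : ℚ)⁻¹ wt k : ℚ) : ℂ)) = (Fintype.card C : ℂ) := by
    have h1 := hdeg2 i1
    rw [hχ1, hU1, one_pow, mul_one] at h1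
    have h2 : (∑ k, nk O (q : ℚ)⁻¹ wt k * U i1 k ^ 2) = ∑ k, nk O (q : ℚ)⁻¹ wt k :=
      Finset.sum_congr rfl fun k _ => by rw [hi1, one_pow, mul_one]
    rwa [h2] at h1
  refine ⟨χ, hχi, hχ1, fun i g => ?_, fun i => ?_, ?_, fun i H hH => ?_⟩
  · -- rationality
    obtain ⟨n, hn, hn1⟩ := isIrr_apply_one (χ i).2
    have h1 := K.Lc_U hθc hUc hUc0 (χ i).2 (hcc i) o
    have h1' : Lc C (χ i : G → ℂ) (Fl O h Δ q o (Uc i)) =
        ((Nat.card G : ℂ) / (χ i : G → ℂ) 1) • Fl O h Δ q o (Uc i) := h1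
    have h2 : ∀ c, ∃ z : ℚ, Fl O h Δ q o (Uc i) c = z := fun c =>
      ⟨(-(q : ℚ)⁻¹) ^ cs.length (Δ.δ o c) * U i (lvl O h Δ o c), by
        unfold Fl sg
        push_cast
        rfl⟩
    refine int_of_conv (χ i).2 h2 ?_ ?_ g
    · rw [h1']
      intro h3
      have h4 := congrFun h3 o
      have h5 : Fl O h Δ q o (Uc i) o = Uc i (O.lv O.b0) := K.diag (Uc i) o
      rw [Pi.smul_apply, smul_eq_mul, h5, Pi.zero_apply] at h4
      exact (mul_ne_zero (div_ne_zero hG (isIrr_apply_one_ne_zero (χ i).2)) (hUc0 i)) h4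
    · intro c
      obtain ⟨z, hz⟩ := h2 c
      refine ⟨(Nat.card G : ℚ) / n * z, ?_⟩
      rw [h1', Pi.smul_apply, smul_eq_mul, hz, hn1]
      push_cast
      rfl
  · -- the degrees
    have h1 := hdeg2 i
    rw [← hdeg3, Blocks.Knorr.charDegree_eq (χ i).2, Blocks.Knorr.charDegree_eq χ1.2] at h1
    have h2 : ((charDegree (χ i : G → ℂ) : ℂ)) * ((∑ k, nk O (q : ℚ)⁻¹ wt k * U i k ^ 2 : ℚ) : ℂ) =
        (charDegree (χ1 : G → ℂ) : ℂ) * ((∑ k, nk O (q : ℚ)⁻¹ wt k : ℚ) : ℂ) * ((U i (O.lv O.b0) : ℚ) : ℂ) ^ 2 := by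
      apply mul_left_cancel₀ hρ
      linear_combination h1
    exact_mod_cast h2
  · -- the blocks
    intro p M hM hpq i j N hN g
    obtain ⟨L, z, hz⟩ := omega_eq O h Δ hq hiso htr hw1 hw2 hsym hPW o g
    choose y hy using hN
    have h1 : ∀ i, (q : ℂ) ^ L * centralChar (χ i : G → ℂ) g = ∑ k, (z k : ℂ) *
        ((nk O (q : ℚ)⁻¹ wt k * U i k / U i (O.lv O.b0) : ℚ) : ℂ) := by
      intro i
      have h2 := K.omega hθc hUc hUc0 (χ i).2 (hcc i) g
      have h3 := hz (Uc i)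
      have h4 : ∑ y : G, (if IsConj g y then (1 : ℂ) else 0) * Fl O h Δ q o (Uc i) (y • o) =
        centralChar (χ i : G → ℂ) g * Uc i (O.lv O.b0) := h2
      rw [h4] at h3
      have h5 : (Uc i (O.lv O.b0)) ≠ 0 := hUc0 i
      apply mul_right_cancel₀ h5
      rw [Finset.sum_mul, mul_assoc, h3]
      refine Finset.sum_congr rfl fun k _ => ?_
      show (z k : ℂ) * (((nk O (q : ℚ)⁻¹ wt k : ℚ) : ℂ) * (U i k : ℂ)) = (z k : ℂ) * _ * (U i (O.lv O.b0) : ℂ)
      have h6 : ((U i (O.lv O.b0) : ℚ) : ℂ) ≠ 0 := h5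
      push_cast
      field_simp
    have h2 : (q : ℂ) ^ (N + L) * (centralChar (χ i : G → ℂ) g - centralChar (χ j : G → ℂ) g) =
        ((p * ∑ k, z k * y k : ℤ) : ℂ) := by
      rw [pow_add, mul_assoc, mul_sub, h1, h1, ← Finset.sum_sub_distrib, Finset.mul_sum]
      push_cast
      rw [Finset.mul_sum]
      refine Finset.sum_congr rfl fun k _ => ?_
      have h3 : ((((q : ℚ) ^ N * (nk O (q : ℚ)⁻¹ wt k * U i k / U i (O.lv O.b0) -
          nk O (q : ℚ)⁻¹ wt k * U j k / U j (O.lv O.b0))) : ℚ) : ℂ) = ((p * y k : ℚ) : ℂ) := by rw [hy]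
      push_cast at h3
      linear_combination (z k : ℂ) * h3
    refine ⟨((p * ∑ k, z k * y k : ℤ) : AlgInt), ((q ^ (N + L) : ℕ) : AlgInt), ?_, ?_, ?_⟩
    · rw [Blocks.Local.intCast_mem_iff hM]
      exact dvd_mul_right _ _
    · rw [Blocks.Local.natCast_mem_iff hM]
      exact fun h3 => hpq (hM.1.dvd_of_dvd_pow h3)
    · have h3 : ((q : ℂ) ^ (N + L)) ≠ 0 := pow_ne_zero _ hqc
      have h4 : (((q ^ (N + L) : ℕ) : AlgInt) : ℂ) = (q : ℂ) ^ (N + L) := by push_cast; rfl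
      have h5 : (((p * ∑ k, z k * y k : ℤ) : AlgInt) : ℂ) = ((p * ∑ k, z k * y k : ℤ) : ℂ) := by push_cast; rfl
      rw [h4, h5, ← h2]
      field_simp
  · have : Fintype H := Fintype.ofFinite _
    rw [H139.RealB0.Crit.classInner_fixedPointCharacter H (χ i), ← map_sum]
    refine mul_ne_zero (inv_ne_zero (by exact_mod_cast Nat.card_pos.ne')) ?_
    rw [Ne, map_eq_zero]
    exact K.sum_stab_ne (χ i).2 (hcc i) H hH

end Con

end Cfsg.Agent.H498.RP
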