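import Cfsg.Agent.H498.RP.ChevK
import Cfsg.Agent.H498.RP.E6A5

/-!
# Tables (helper498), generated
-/

set_option autoImplicit false
set_option maxRecDepth 100000
set_option maxHeartbeats 0

open Cfsg

namespace Cfsg.Agent.H498.RP

open Cfsg.Agent.ChevalleyStructure.CoxeterGeom Cfsg.Agent.H35.ExcIdx Cfsg.Lie Cfsg.Agent.Nodes.RGDChev
  Cfsg.Agent.Nodes.LeviDec Cfsg.Agent.ChevalleyStructure.CoxeterGeomTypes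

universe u

namespace E6A5K

/-- the table: vector, images, level, exponent -/
def T : BT Rw := .nd (.nd (.nd (.nd (.nd (.nd (.nd (.lf ⟨[-1, -2, -2, -3, -2, -1], [0, 1, 0, 0, 0, 0], 4, 0⟩)
  (.lf ⟨[0, 1, 1, 2, 1, 1], [65, 64, 64, 62, 67, 53], 1, 4⟩)) (.lf ⟨[-1, 0, -1, 0, 0, 0], [33, 32, 35, 28,
  32, 32], 2, 6⟩)) (.nd (.lf ⟨[-1, -1, -2, -2, -1, 0], [16, 16, 17, 16, 16, 5], 3, 6⟩) (.lf ⟨[0, 1, 0, 1, 1,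
  0], [48, 47, 51, 48, 41, 59], 1, 7⟩))) (.nd (.nd (.lf ⟨[-1, -1, -1, -1, -1, -1], [9, 10, 8, 6, 8, 19], 3,
  5⟩) (.lf ⟨[0, 0, 0, 1, 0, 0], [40, 41, 42, 31, 47, 40], 2, 4⟩)) (.nd (.lf ⟨[0, 0, 0, -1, -1, 0], [24, 23,
  22, 25, 31, 13], 2, 6⟩) (.lf ⟨[0, 0, 0, 0, 0, 1], [56, 56, 56, 56, 57, 15], 2, 4⟩)))) (.nd (.nd (.nd (.nd
  (.lf ⟨[0, -1, -1, -2, -2, -1], [3, 4, 4, 4, 7, 4], 3, 6⟩) (.lf ⟨[1, 1, 1, 2, 2, 1], [67, 68, 69, 68, 65,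
  68], 1, 2⟩)) (.lf ⟨[1, 0, 0, 0, 0, 0], [35, 36, 39, 36, 36, 36], 2, 4⟩)) (.nd (.lf ⟨[0, -1, -1, -1, -1, 0],
  [19, 22, 23, 18, 27, 9], 3, 3⟩) (.lf ⟨[1, 1, 1, 1, 1, 0], [51, 50, 52, 54, 45, 63], 1, 5⟩))) (.nd (.nd (.lf
  ⟨[0, -1, 0, -1, -1, -1], [12, 13, 9, 12, 12, 23], 3, 3⟩) (.lf ⟨[0, 1, 1, 1, 0, 0], [45, 42, 41, 44, 51,
  44], 1, 7⟩)) (.nd (.lf ⟨[-1, 0, -1, -1, 0, 0], [29, 26, 28, 32, 21, 28], 2, 7⟩) (.lf ⟨[0, 0, 1, 1, 1, 1],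
  [61, 62, 58, 60, 60, 49], 2, 1⟩))))) (.nd (.nd (.nd (.nd (.nd (.lf ⟨[-1, -1, -2, -2, -2, -1], [2, 2, 3, 1,
  5, 2], 3, 8⟩) (.lf ⟨[1, 1, 2, 2, 1, 1], [66, 66, 65, 66, 69, 55], 1, 2⟩)) (.lf ⟨[0, -1, 0, 0, 0, 0], [34,
  37, 34, 30, 34, 34], 3, 0⟩)) (.nd (.lf ⟨[0, -1, -1, -2, -1, 0], [17, 18, 18, 20, 18, 7], 3, 4⟩) (.lf ⟨[1,
  0, 1, 1, 1, 0], [49, 52, 50, 50, 43, 61], 2, 1⟩))) (.nd (.nd (.lf ⟨[-1, 0, -1, -1, -1, -1], [11, 8, 10, 10,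
  10, 21], 2, 9⟩) (.lf ⟨[0, 0, 1, 1, 0, 0], [43, 44, 40, 38, 49, 42], 2, 3⟩)) (.nd (.lf ⟨[-1, -1, -1, -1, 0,
  0], [27, 28, 26, 26, 19, 26], 3, 3⟩) (.lf ⟨[0, 0, 0, 1, 1, 1], [58, 59, 60, 57, 58, 47], 2, 2⟩)))) (.nd
  (.nd (.nd (.nd (.lf ⟨[-1, -1, -1, -2, -1, -1], [7, 6, 5, 8, 3, 17], 3, 6⟩) (.lf ⟨[1, 1, 2, 3, 2, 1], [70,
  71, 70, 69, 70, 70], 1, 0⟩)) (.lf ⟨[0, 0, 1, 0, 0, 0], [39, 38, 33, 42, 38, 38], 2, 4⟩)) (.nd (.lf ⟨[0, 0,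
  -1, -1, -1, 0], [21, 20, 24, 22, 29, 11], 2, 7⟩) (.lf ⟨[1, 1, 1, 2, 1, 0], [53, 54, 55, 52, 54, 65], 1,
  4⟩))) (.nd (.nd (.lf ⟨[0, 0, 0, 0, -1, -1], [14, 14, 14, 13, 15, 25], 2, 6⟩) (.lf ⟨[0, 0, 0, 0, 1, 0], [46,
  46, 46, 47, 25, 57], 2, 4⟩)) (.nd (.lf ⟨[0, -1, 0, -1, 0, 0], [30, 31, 27, 34, 23, 30], 3, 1⟩) (.lf ⟨[0, 1,
  1, 1, 1, 1], [63, 60, 59, 64, 62, 51], 1, 5⟩)))))) (.nd (.nd (.nd (.nd (.nd (.nd (.lf ⟨[-1, -1, -2, -3, -2,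
  -1], [1, 0, 1, 2, 1, 1], 3, 9⟩) (.lf ⟨[1, 1, 1, 2, 1, 1], [64, 65, 66, 63, 68, 54], 1, 3⟩)) (.lf ⟨[0, 0,
  -1, 0, 0, 0], [32, 33, 38, 29, 33, 33], 2, 5⟩)) (.nd (.lf ⟨[-1, -1, -1, -2, -1, 0], [18, 17, 16, 19, 17,
  6], 3, 5⟩) (.lf ⟨[0, 0, 1, 1, 1, 0], [50, 51, 47, 49, 42, 60], 2, 2⟩))) (.nd (.nd (.lf ⟨[0, -1, -1, -1, -1,
  -1], [8, 11, 12, 7, 9, 20], 3, 4⟩) (.lf ⟨[0, 1, 0, 1, 0, 0], [41, 40, 44, 37, 48, 41], 1, 8⟩)) (.nd (.lf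
  ⟨[0, 0, 0, 0, -1, 0], [25, 25, 25, 24, 46, 14], 2, 5⟩) (.lf ⟨[0, 0, 0, 0, 1, 1], [57, 57, 57, 58, 56, 46],
  2, 3⟩)))) (.nd (.nd (.nd (.nd (.lf ⟨[-1, -1, -2, -2, -1, -1], [5, 5, 6, 5, 2, 16], 3, 7⟩) (.lf ⟨[1, 1, 2,
  2, 2, 1], [69, 69, 68, 70, 66, 69], 1, 1⟩)) (.lf ⟨[0, 1, 0, 0, 0, 0], [37, 34, 37, 41, 37, 37], 1, 9⟩))
  (.nd (.lf ⟨[-1, 0, -1, -1, -1, 0], [22, 19, 21, 21, 28, 10], 2, 8⟩) (.lf ⟨[0, 1, 1, 2, 1, 0], [54, 53, 53,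
  51, 53, 64], 1, 5⟩))) (.nd (.nd (.lf ⟨[0, 0, 0, -1, -1, -1], [13, 12, 11, 14, 13, 24], 2, 7⟩) (.lf ⟨[1, 1,
  1, 1, 0, 0], [44, 43, 45, 45, 52, 45], 1, 6⟩)) (.nd (.lf ⟨[0, 0, -1, -1, 0, 0], [28, 27, 31, 33, 22, 29],
  2, 6⟩) (.lf ⟨[1, 0, 1, 1, 1, 1], [60, 63, 61, 61, 61, 50], 2, 0⟩))))) (.nd (.nd (.nd (.nd (.nd (.lf ⟨[-1,
  -1, -1, -2, -2, -1], [4, 3, 2, 3, 6, 3], 3, 7⟩) (.lf ⟨[0, 1, 1, 2, 2, 1], [68, 67, 67, 67, 64, 67], 1, 3⟩))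
  (.lf ⟨[-1, 0, 0, 0, 0, 0], [36, 35, 32, 35, 35, 35], 2, 5⟩)) (.nd (.lf ⟨[-1, -1, -1, -1, -1, 0], [20, 21,
  19, 17, 26, 8], 3, 4⟩) (.lf ⟨[0, 1, 1, 1, 1, 0], [52, 49, 48, 53, 44, 62], 1, 6⟩))) (.nd (.nd (.lf ⟨[0, 0,
  -1, -1, -1, -1], [10, 9, 13, 11, 11, 22], 2, 8⟩) (.lf ⟨[1, 0, 1, 1, 0, 0], [42, 45, 43, 39, 50, 43], 2,
  2⟩)) (.nd (.lf ⟨[0, -1, -1, -1, 0, 0], [26, 29, 30, 27, 20, 27], 3, 2⟩) (.lf ⟨[0, 1, 0, 1, 1, 1], [59, 58,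
  62, 59, 59, 48], 1, 6⟩)))) (.nd (.nd (.nd (.nd (.lf ⟨[0, -1, -1, -2, -1, -1], [6, 7, 7, 9, 4, 18], 3, 5⟩)
  (.lf ⟨[1, 2, 2, 3, 2, 1], [71, 70, 71, 71, 71, 71], 0, 0⟩)) (.lf ⟨[1, 0, 1, 0, 0, 0], [38, 39, 36, 43, 39,
  39], 2, 3⟩)) (.nd (.lf ⟨[0, -1, 0, -1, -1, 0], [23, 24, 20, 23, 30, 12], 3, 2⟩) (.lf ⟨[1, 1, 2, 2, 1, 0],
  [55, 55, 54, 55, 55, 66], 1, 3⟩))) (.nd (.nd (.lf ⟨[0, 0, 0, 0, 0, -1], [15, 15, 15, 15, 14, 56], 2, 5⟩)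
  (.lf ⟨[0, 0, 0, 1, 1, 0], [47, 48, 49, 46, 40, 58], 2, 3⟩)) (.nd (.lf ⟨[0, 0, 0, -1, 0, 0], [31, 30, 29,
  40, 24, 31], 2, 5⟩) (.lf ⟨[1, 1, 1, 1, 1, 1], [62, 61, 63, 65, 63, 52], 1, 4⟩))))))

/-- the rows of the Cartan matrix -/
def rows : List (List ℤ) := [[2, 0, -1, 0, 0, 0], [0, 2, 0, -1, 0, 0], [-1, 0, 2, -1, 0, 0], [0, -1, -1, 2,
  -1, 0], [0, 0, 0, -1, 2, -1], [0, 0, 0, 0, -1, 2]]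

theorem hc : allB (chkB T rows 6 72 5 1 [71, 70, 61, 34, 0] [1, 3, 9, 27, 81, 243]) 72 = true := by decide +kernel

theorem tab : TabC 72 5 cE6 1 T rows [71, 70, 61, 34, 0] [1, 3, 9, 27, 81, 243] 71
    ![[], [1], [1, 3, 2, 4, 3, 1], [1, 3, 2, 0, 4, 3, 2, 5, 4, 3, 1], [1, 3, 2, 0, 4, 3, 1, 2, 3, 4, 5, 4, 3, 1, 2, 0, 3, 2, 4, 3, 1]] where
  hr1 := by decide +kernel
  hr2 := by decide +kernel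
  hr3 := by decide +kernel
  hh := by decide +kernel
  hsy := by decide +kernel
  hc := hc
  hb0 := by decide +kernel
  hd1 := by decide +kernel
  hd2 := by decide +kernel
  hd3 := by decide +kernel
  hbs := by decide +kernel
  hwd := by decide +kernel

theorem ex1 : ∀ k : Fin 5, (T.get (nn [71, 70, 61, 34, 0] k)).e = 0 := by decide +kernel

/-- exponent, sign, level of the image -/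
def dg : Fin 5 → List (ℕ × ℕ × Fin 5) := ![[(0, 1, 1)], [(9, 1, 3), (8, 1, 2), (7, 1, 2), (6, 1, 2), (7, 1,
  2), (6, 1, 2), (5, 1, 2), (5, 0, 1), (4, 0, 1), (3, 0, 1), (6, 1, 2), (5, 1, 2), (4, 1, 2), (4, 0, 1), (3,
  0, 1), (2, 0, 1), (3, 0, 1), (2, 0, 1), (1, 0, 1), (0, 2, 0)], [(9, 1, 3), (8, 1, 3), (7, 1, 3), (6, 0, 2),
  (5, 0, 2), (8, 1, 3), (7, 1, 3), (6, 1, 3), (5, 0, 2), (7, 1, 3), (6, 1, 3), (5, 1, 3), (6, 0, 2), (5, 0,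
  2), (5, 0, 2), (4, 0, 2), (4, 0, 2), (3, 0, 2), (4, 2, 1), (3, 2, 1), (2, 2, 1), (4, 0, 2), (3, 2, 1), (2,
  2, 1), (1, 2, 1), (4, 0, 2), (3, 0, 2), (2, 2, 1), (1, 2, 1), (0, 2, 1)], [(9, 1, 4), (8, 0, 3), (7, 0, 3),
  (6, 0, 3), (7, 0, 3), (6, 0, 3), (5, 0, 3), (5, 2, 2), (4, 2, 2), (3, 2, 2), (6, 0, 3), (5, 0, 3), (4, 0,
  3), (4, 2, 2), (3, 2, 2), (2, 2, 2), (3, 2, 2), (2, 2, 2), (1, 2, 2), (0, 2, 1)], [(0, 2, 3)]]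

theorem hdg : ∀ k : Fin 5, eqE (gath T (nl rows ((1 : Fin 6) : ℕ)) ((1 : Fin 6) : ℕ) k 72 []) (dg k) = true := by decide +kernel

theorem hne : ∀ k, dg k ≠ [] := by decide +kernel

/-- the eigenvalues -/
def NN : Fin 5 → List ℤ := ![[0, 1, 1, 2, 3, 3, 3, 3, 2, 1, 1], [-1, 0, 0, 1, 2, 3, 2, 2, 1], [-1, 0, -1, 0,
  1, 1, 1, 1], [-1, 0, -1, -1, 0, 1], [-1, 0, -1, -1, 0, -1]]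

/-- the eigenvectors -/
def UU : Fin 5 → Fin 5 → List ℤ := ![![[1], [1], [1], [1], [1]], ![[0, 0, 0, 0, 0, 0, 1, 0, 0, 1], [0, 0, 0,
  0, 0, -1, 1, 1], [0, 0, 0, -1, 0, 0, 1], [0, 0, -1, -1, 1], [-1, 0, 0, -1]], ![[0, 0, 0, 0, 0, 0, 0, 0, 0,
  1, 1, 1, 2, 2, 1, 1, 1], [0, 0, 0, 0, 0, 0, 0, 0, -1, 0, 0, 0, 1, 1], [0, 0, 0, 0, 0, 1, -1, -1, 0, -1, -1,
  1], [0, 0, 0, 1, 1, 0, 0, 0, -1], [1, 1, 1, 2, 2, 1, 1, 1]], ![[0, 0, 0, 0, 0, 0, 0, 0, 0, 0, 0, 0, 1, 1,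
  2, 3, 3, 3, 3, 2, 1, 1], [0, 0, 0, 0, 0, 0, 0, 0, 0, 0, 0, -1, 0, -1, -1, 0, 1], [0, 0, 0, 0, 0, 0, 0, 0,
  1, 0, 1, -1, 0, -1], [0, 0, 0, 0, 0, -1, 0, 1, 1, 0, 1], [-1, -1, -2, -3, -3, -3, -3, -2, -1, -1]], ![[0,
  0, 0, 0, 0, 0, 0, 0, 0, 0, 0, 0, 1, 1, 1, 1, 1], [0, 0, 0, 0, 0, 0, 0, 0, 0, 0, 0, -1], [0, 0, 0, 0, 0, 0,
  0, 0, 1], [0, 0, 0, 0, 0, -1], [1, 1, 1, 1, 1]]]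

theorem check : checkK dg 1 NN UU 131072 20 30 20 := by decide +kernel

theorem hN : ∀ i j, i < j → posL (addL (NN i) (smL (-1) (NN j))) = true := by decide +kernel

theorem hU0 : ∀ i, posL (UU i 0) = true := by decide +kernel

end E6A5K


end Cfsg.Agent.H498.RP
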