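import Cfsg.Agent.H498.RP.Mbr
import Cfsg.Agent.H498.RP.E6A5K

/-!
# `E6`, node 1: the constituents of the character induced from the Steinberg character (helper498)
-/

set_option autoImplicit false
set_option maxRecDepth 100000
set_option maxHeartbeats 0

open Cfsg

namespace Cfsg.Agent.H498.RP

open CoxeterSystem Cfsg.Agent.ChevalleyStructure.CoxeterGeom Cfsg.Agent.Tits.Roots Cfsg.Agent.Tits.Core
  Cfsg.Agent.Tits.Exchange Cfsg.Agent.Nodes.Reps Cfsg.Agent.Nodes.BNOf Cfsg.Agent.Nodes.StabComb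
  Cfsg.Agent.Nodes.Bruhat Cfsg.Agent.Nodes.OppDec Cfsg.Agent.Nodes.LeviDec Cfsg.Agent.Nodes.NormalForm
  Cfsg.Agent.H35.ExcIdx Cfsg.Lie Cfsg.Agent.Nodes.RGDChev Cfsg.Agent.ChevalleyStructure.NPerm
  Cfsg.Agent.ChevalleyStructure.CoxeterGeomTypes Cfsg.Agent.H667.BR

universe u

namespace E6A5M

/-- the words -/
def wd : Fin 5 → List (Fin 6) := ![[], [1], [1, 3, 2, 4, 3, 1], [1, 3, 2, 0, 4, 3, 2, 5, 4, 3, 1], [1, 3, 2,
  0, 4, 3, 1, 2, 3, 4, 5, 4, 3, 1, 2, 0, 3, 2, 4, 3, 1]]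

/-- the weights of the levels -/
def NK : Fin 5 → List ℤ := ![[1], [0, 1, 1, 2, 3, 3, 3, 3, 2, 1, 1], [0, 0, 0, 0, 0, 0, 1, 2, 3, 4, 5, 5, 4,
  3, 2, 1], [0, 0, 0, 0, 0, 0, 0, 0, 0, 0, 0, 1, 1, 2, 3, 3, 3, 3, 2, 1, 1], [0, 0, 0, 0, 0, 0, 0, 0, 0, 0,
  0, 0, 0, 0, 0, 0, 0, 0, 0, 0, 0, 1]]

/-- the spherical functions times the weights -/
def PP : Fin 5 → Fin 5 → List ℤ := ![![[1], [0, 1, 1, 2, 3, 3, 3, 3, 2, 1, 1], [0, 0, 0, 0, 0, 0, 1, 2, 3, 4,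
  5, 5, 4, 3, 2, 1], [0, 0, 0, 0, 0, 0, 0, 0, 0, 0, 0, 1, 1, 2, 3, 3, 3, 3, 2, 1, 1], [0, 0, 0, 0, 0, 0, 0,
  0, 0, 0, 0, 0, 0, 0, 0, 0, 0, 0, 0, 0, 0, 1]], ![[1], [-1, 0, 0, 1, 2, 3, 2, 2, 1], [0, 0, 0, -1, -2, -3,
  -2, -1, 1, 2, 3, 2, 1], [0, 0, 0, 0, 0, 0, 0, -1, -2, -2, -3, -2, -1, 0, 0, 1], [0, 0, 0, 0, 0, 0, 0, 0, 0,
  0, 0, 0, 0, 0, 0, -1]], ![[1], [-1, 0, -1, 0, 1, 1, 1, 1], [0, 0, 1, 0, -1, -2, -2, -2, -1, 0, 1], [0, 0,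
  0, 0, 0, 1, 1, 1, 1, 0, -1, 0, -1], [0, 0, 0, 0, 0, 0, 0, 0, 0, 0, 0, 0, 1]], ![[1], [-1, 0, -1, -1, 0, 1],
  [0, 0, 1, 1, 1, -1, -1, -1], [0, 0, 0, 0, -1, 0, 1, 1, 0, 1], [0, 0, 0, 0, 0, 0, 0, 0, 0, -1]], ![[1], [-1,
  0, -1, -1, 0, -1], [0, 0, 1, 1, 1, 1, 1, 1], [0, 0, 0, 0, -1, 0, -1, -1, 0, -1], [0, 0, 0, 0, 0, 0, 0, 0,
  0, 1]]]

/-- the degrees -/
def DEG : Fin 5 → List ℤ := ![[1], [0, 1, 0, 0, 1, 1, 0, 1, 1, 0, 0, 1], [0, 0, 1, 1, 1, 1, 2, 1, 2, 2, 2, 1,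
  2, 1, 1, 1, 1], [0, 0, 0, 1, 1, 2, 3, 3, 3, 5, 4, 5, 6, 5, 4, 5, 3, 3, 3, 2, 1, 1], [0, 0, 0, 1, 1, 0, 1,
  3, 1, 1, 4, 3, 0, 3, 4, 1, 1, 3, 1, 0, 1, 1]]

/-- the denominators -/
def ee : Fin 5 → ℕ := ![1, 1, 1, 2, 2]

theorem hNr : ∀ i j, i < j → posR (addL (E6A5K.NN i) (smL (-1) (E6A5K.NN j))) = true := by decide +kernel

theorem hU0r : ∀ i, posR (E6A5K.UU i 0) = true := by decide +kernel

theorem hsy : ∀ k : Fin 5, (E6A5K.T.get ((wd k).reverse.foldl (fun (b : ℕ) (i : Fin 6) => nn (E6A5K.T.get b).a (i : ℕ)) 71)).l = k := by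
  decide +kernel

theorem hpw : ∀ k : Fin 5, pwT E6A5K.T E6A5K.rows (wd k) 71 = true := by decide +kernel

theorem hi1 : ∀ k, E6A5K.UU 0 k = [1] := by decide +kernel

theorem hNK : chkNK E6A5K.dg wd NK 64 := by decide +kernel

theorem hPP : ∀ i k, PE.chk 512 (ePP NK E6A5K.UU PP 0 i k) = true := by decide +kernel

theorem hDEG : ∀ i, PE.chk 262144 (eDEG NK E6A5K.UU DEG ee 0 i) = true := by decide +kernel

theorem hlen : ∀ i, (DEG i).length ≤ 37 := by decide +kernel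

/-- the constituents -/
theorem con (K : Type u) [Field K] [Fintype K] {χ1 : IrrCharacter ↥((chevE6).group K)}
    (hval : ∀ g, (χ1 : ↥((chevE6).group K) → ℂ) g = ∑ L ∈ (Finset.univ : Finset (Fin 6)).powerset, (-1 : ℂ) ^ L.card *
      fixedPointCharacter (PK hpE6 K L) g) :
    ∃ χ : Fin 5 → IrrCharacter ↥((chevE6).group K), ConData ↥((chevE6).group K) (Fintype.card K) 0 PP DEG ee χ1 χ :=
  con_chev hpE6 K isCartan_cE6 E6A5K.tab E6A5K.ex1 E6A5K.hdg E6A5K.hne E6A5K.check hNr (k0 := 0) (by decide +kernel) hU0r hsy hpw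
    (i1 := 0) hi1 hNK hPP hDEG hval

/-- the polynomial `Φ_3` without the constant coefficient -/
def F3 : List ℤ := [1, 1]

theorem pal3 : (1 :: F3).reverse = 1 :: F3 := by decide +kernel

theorem b3_0 : ∀ k, dvdL F3 23 (addL (PP 0 k) (smL (-1) (PP 0 k))) = true := by decide +kernel

theorem d3_0 : dvdL F3 27 (addL (DEG 0) (smL (-(1)) (shL 0 [1]))) = true := by decide +kernel

theorem b3_2 : ∀ k, dvdL F3 23 (addL (PP 2 k) (smL (-1) (PP 0 k))) = true := by decide +kernel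

theorem d3_2 : dvdL F3 27 (addL (DEG 2) (smL (-(2)) (shL 0 [1]))) = true := by decide +kernel

theorem b3_4 : ∀ k, dvdL F3 23 (addL (PP 4 k) (smL (-1) (PP 0 k))) = true := by decide +kernel

theorem d3_4 : dvdL F3 27 (addL (DEG 4) (smL (-(-6)) (shL 0 [1]))) = true := by decide +kernel

/-- the member number 0 for the order 3 -/
theorem m3_0 {K : Type u} [Field K] [Fintype K] {p : ℕ} {M' : Ideal AlgInt} (hM : IsPModular p M') (h5 : 5 < p)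
    (hpq : ¬ p ∣ Fintype.card K) (hp : (p : ℤ) ∣ evZ (Fintype.card K) (1 :: F3))
    (hJ : ∀ J : Finset (Fin 6), J ≠ Finset.univ → p ∣ (PK hpE6 K J).index)
    (hcard : Nat.card (RGD.Sup (XX chevE6 6 K) (RGD.Pos CoxeterMatrix.E₆.toCoxeterSystem hpE6.isCartan)) = Fintype.card K ^ 36) :
    Mbr p M' ↥((chevE6).group K) (Fintype.card K) 1 (shL 36 [1]) := by
  have hq : 0 < Fintype.card K := Fintype.card_pos
  obtain ⟨χ1, h1, h2, -, h4⟩ := exists_st_chev hpE6 K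
  obtain ⟨χ, H⟩ := con K h1
  rw [hcard] at h2
  exact H.mbr hq hM hpq pal3 hp (h4 p M' hM hpq hJ) h2 b3_0 d3_0 (not_dvd_of_lt hM.1 h5 (by decide)) (hlen 0)

/-- the member number 2 for the order 3 -/
theorem m3_2 {K : Type u} [Field K] [Fintype K] {p : ℕ} {M' : Ideal AlgInt} (hM : IsPModular p M') (h5 : 5 < p)
    (hpq : ¬ p ∣ Fintype.card K) (hp : (p : ℤ) ∣ evZ (Fintype.card K) (1 :: F3))
    (hJ : ∀ J : Finset (Fin 6), J ≠ Finset.univ → p ∣ (PK hpE6 K J).index)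
    (hcard : Nat.card (RGD.Sup (XX chevE6 6 K) (RGD.Pos CoxeterMatrix.E₆.toCoxeterSystem hpE6.isCartan)) = Fintype.card K ^ 36) :
    Mbr p M' ↥((chevE6).group K) (Fintype.card K) 1 (shL 20 [1, 1, 1, 1, 2, 1, 2, 2, 2, 1, 2, 1, 1, 1, 1, 0, 0]) := by
  have hq : 0 < Fintype.card K := Fintype.card_pos
  obtain ⟨χ1, h1, h2, -, h4⟩ := exists_st_chev hpE6 K
  obtain ⟨χ, H⟩ := con K h1
  rw [hcard] at h2
  exact H.mbr hq hM hpq pal3 hp (h4 p M' hM hpq hJ) h2 b3_2 d3_2 (not_dvd_of_lt hM.1 h5 (by decide)) (hlen 2)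

/-- the member number 4 for the order 3 -/
theorem m3_4 {K : Type u} [Field K] [Fintype K] {p : ℕ} {M' : Ideal AlgInt} (hM : IsPModular p M') (h5 : 5 < p)
    (hpq : ¬ p ∣ Fintype.card K) (hp : (p : ℤ) ∣ evZ (Fintype.card K) (1 :: F3))
    (hJ : ∀ J : Finset (Fin 6), J ≠ Finset.univ → p ∣ (PK hpE6 K J).index)
    (hcard : Nat.card (RGD.Sup (XX chevE6 6 K) (RGD.Pos CoxeterMatrix.E₆.toCoxeterSystem hpE6.isCartan)) = Fintype.card K ^ 36) :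
    Mbr p M' ↥((chevE6).group K) (Fintype.card K) 2 (shL 15 [1, 1, 0, 1, 3, 1, 1, 4, 3, 0, 3, 4, 1, 1, 3, 1, 0, 1, 1, 0, 0, 0]) := by
  have hq : 0 < Fintype.card K := Fintype.card_pos
  obtain ⟨χ1, h1, h2, -, h4⟩ := exists_st_chev hpE6 K
  obtain ⟨χ, H⟩ := con K h1
  rw [hcard] at h2
  exact H.mbr hq hM hpq pal3 hp (h4 p M' hM hpq hJ) h2 b3_4 d3_4 (not_dvd_of_lt hM.1 h5 (by decide)) (hlen 4)

end E6A5M

end Cfsg.Agent.H498.RP
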