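import Cfsg.Agent.H498.RP.Bld
import Cfsg.Agent.Nodes.RGDTwE6

/-!
# The tables for the two end nodes of `F₄` (helper498), generated
-/

set_option autoImplicit false
set_option maxRecDepth 100000

namespace Cfsg.Agent.H498.RP

open Cfsg.Agent.ChevalleyStructure.CoxeterGeom

/-- the sign of the pairing with the root of the node `i0` -/
def code {I : Type*} [Fintype I] [DecidableEq I] {A : I → I → ℤ} {i0 : I} {m r : ℕ} (O : Orb A i0 m r) (b : Fin m) : Fin 3 :=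
  if 0 < pairing A i0 (O.vec b) then 1 else if pairing A i0 (O.vec b) < 0 then 2 else 0

namespace Fa

def vecT : Fin 24 → Fin 4 → ℤ := ![![2, 3, 4, 2], ![1, 3, 4, 2], ![1, 2, 4, 2], ![1, 2, 2, 2], ![1, 2, 2, 0], ![1, 1, 2, 2], ![1, 1, 2, 0], ![1, 1, 0, 0], ![1, 0, 0, 0], ![0, 1, 2, 2], ![0, 1, 2, 0], ![0, 1, 0, 0], ![0, -1, 0, 0], ![0, -1, -2, 0], ![0, -1, -2, -2], ![-1, 0, 0, 0], ![-1, -1, 0, 0], ![-1, -1, -2, 0], ![-1, -1, -2, -2], ![-1, -2, -2, 0], ![-1, -2, -2, -2], ![-1, -2, -4, -2], ![-1, -3, -4, -2], ![-2, -3, -4, -2]]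

def actT : Fin 4 → Fin 24 → Fin 24 := ![![1, 0, 2, 3, 4, 9, 10, 11, 15, 5, 6, 7, 16, 17, 18, 8, 12, 13, 14, 19, 20, 21, 23, 22], ![0, 2, 1, 5, 6, 3, 4, 8, 7, 9, 10, 12, 11, 13, 14, 16, 15, 19, 20, 17, 18, 22, 21, 23], ![0, 1, 3, 2, 4, 5, 7, 6, 8, 9, 11, 10, 13, 12, 14, 15, 17, 16, 18, 19, 21, 20, 22, 23], ![0, 1, 2, 4, 3, 6, 5, 7, 8, 10, 9, 11, 12, 14, 13, 15, 16, 18, 17, 20, 19, 21, 22, 23]]

def lvT : Fin 24 → Fin 5 := ![0, 1, 1, 1, 1, 1, 1, 1, 1, 2, 2, 2, 2, 2, 2, 3, 3, 3, 3, 3, 3, 3, 3, 4]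

def ea : Fin 24 → ℕ := ![0, 0, 1, 1, 1, 2, 2, 2, 3, 0, 0, 0, 1, 1, 1, 0, 1, 1, 1, 2, 2, 2, 3, 0]

def eb : Fin 24 → ℕ := ![0, 0, 0, 1, 2, 1, 2, 3, 3, 0, 1, 2, 2, 3, 4, 0, 0, 1, 2, 1, 2, 3, 3, 0]

/-- the table -/
def orb : Orb Nodes.RGDTwE6.A 0 24 5 where
  vec := vecT
  act := actT
  lv := lvT
  base := ![0, 1, 9, 15, 23]
  dp := fun b => ea b + eb b
  dd := ![2, 2, 1, 1]
  b0 := 0
  wd := ![[], [0], [0, 1, 2, 1, 0], [0, 1, 2, 1, 3, 2, 1, 0], [0, 1, 2, 1, 0, 3, 2, 1, 0, 2, 1, 3, 2, 1, 0]]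
  dd_pos := by decide +kernel
  symm := by decide +kernel
  dom := by decide +kernel
  dom0 := by decide +kernel
  domJ := by decide +kernel
  inj := by decide +kernel
  vec_act := by decide +kernel
  lv_act' := by decide +kernel
  lv_base := by decide +kernel
  down := by decide +kernel
  word := by decide +kernel

/-- the levels -/
def Lk : Fin 5 → List (Fin 24) := ![[0], [1, 2, 3, 4, 5, 6, 7, 8], [9, 10, 11, 12, 13, 14], [15, 16, 17, 18, 19, 20, 21, 22], [23]]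

theorem Lk_nodup : ∀ k, (Lk k).Nodup := by decide +kernel

theorem mem_Lk : ∀ k b, b ∈ Lk k ↔ orb.lv b = k := by decide +kernel

/-- exponents, sign, level of the image -/
def dat : Fin 5 → List (ℕ × ℕ × Fin 3 × Fin 5) := ![[(0, 0, 1, 1)], [(0, 0, 2, 0), (1, 0, 0, 1), (1, 1, 0, 1), (1, 2, 0, 1), (2, 1, 1, 2), (2, 2, 1, 2), (2, 3, 1, 2), (3, 3, 1, 3)], [(0, 0, 2, 1), (0, 1, 2, 1), (0, 2, 2, 1), (1, 2, 1, 3), (1, 3, 1, 3), (1, 4, 1, 3)], [(0, 0, 2, 1), (1, 0, 2, 2), (1, 1, 2, 2), (1, 2, 2, 2), (2, 1, 0, 3), (2, 2, 0, 3), (2, 3, 0, 3), (3, 3, 1, 4)], [(0, 0, 2, 3)]]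

theorem dat_eq : ∀ k, (Lk k).map (fun b => (ea b, eb b, code orb b, orb.lv (orb.act 0 b))) = dat k := by decide +kernel

end Fa

namespace Fb

def vecT : Fin 24 → Fin 4 → ℤ := ![![1, 2, 3, 2], ![1, 2, 3, 1], ![1, 2, 2, 1], ![1, 1, 2, 1], ![1, 1, 1, 1], ![0, 1, 2, 1], ![0, 1, 1, 1], ![0, 0, 1, 1], ![0, 0, 0, 1], ![1, 1, 1, 0], ![0, 1, 1, 0], ![0, 0, 1, 0], ![0, 0, -1, 0], ![0, -1, -1, 0], ![-1, -1, -1, 0], ![0, 0, 0, -1], ![0, 0, -1, -1], ![0, -1, -1, -1], ![0, -1, -2, -1], ![-1, -1, -1, -1], ![-1, -1, -2, -1], ![-1, -2, -2, -1], ![-1, -2, -3, -1], ![-1, -2, -3, -2]]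

def actT : Fin 4 → Fin 24 → Fin 24 := ![![0, 1, 2, 5, 6, 3, 4, 7, 8, 10, 9, 11, 12, 14, 13, 15, 16, 19, 20, 17, 18, 21, 22, 23], ![0, 1, 3, 2, 4, 5, 7, 6, 8, 9, 11, 10, 13, 12, 14, 15, 17, 16, 18, 19, 21, 20, 22, 23], ![0, 2, 1, 4, 3, 6, 5, 8, 7, 9, 10, 12, 11, 13, 14, 16, 15, 18, 17, 20, 19, 22, 21, 23], ![1, 0, 2, 3, 9, 5, 10, 11, 15, 4, 6, 7, 16, 17, 19, 8, 12, 13, 18, 14, 20, 21, 23, 22]]

def lvT : Fin 24 → Fin 5 := ![0, 1, 1, 1, 1, 1, 1, 1, 1, 2, 2, 2, 2, 2, 2, 3, 3, 3, 3, 3, 3, 3, 3, 4]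

def ea : Fin 24 → ℕ := ![0, 0, 1, 1, 2, 1, 2, 2, 3, 0, 0, 0, 1, 1, 1, 0, 1, 1, 2, 1, 2, 2, 3, 0]

def eb : Fin 24 → ℕ := ![0, 0, 0, 1, 1, 2, 2, 3, 3, 0, 1, 2, 2, 3, 4, 0, 0, 1, 1, 2, 2, 3, 3, 0]

/-- the table -/
def orb : Orb Nodes.RGDTwE6.A 3 24 5 where
  vec := vecT
  act := actT
  lv := lvT
  base := ![0, 1, 9, 15, 23]
  dp := fun b => ea b + eb b
  dd := ![2, 2, 1, 1]
  b0 := 0
  wd := ![[], [3], [3, 2, 1, 2, 3], [3, 2, 1, 0, 2, 1, 2, 3], [3, 2, 1, 0, 2, 1, 2, 3, 2, 1, 0, 2, 1, 2, 3]]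
  dd_pos := by decide +kernel
  symm := by decide +kernel
  dom := by decide +kernel
  dom0 := by decide +kernel
  domJ := by decide +kernel
  inj := by decide +kernel
  vec_act := by decide +kernel
  lv_act' := by decide +kernel
  lv_base := by decide +kernel
  down := by decide +kernel
  word := by decide +kernel

/-- the levels -/
def Lk : Fin 5 → List (Fin 24) := ![[0], [1, 2, 3, 4, 5, 6, 7, 8], [9, 10, 11, 12, 13, 14], [15, 16, 17, 18, 19, 20, 21, 22], [23]]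

theorem Lk_nodup : ∀ k, (Lk k).Nodup := by decide +kernel

theorem mem_Lk : ∀ k b, b ∈ Lk k ↔ orb.lv b = k := by decide +kernel

/-- exponents, sign, level of the image -/
def dat : Fin 5 → List (ℕ × ℕ × Fin 3 × Fin 5) := ![[(0, 0, 1, 1)], [(0, 0, 2, 0), (1, 0, 0, 1), (1, 1, 0, 1), (2, 1, 1, 2), (1, 2, 0, 1), (2, 2, 1, 2), (2, 3, 1, 2), (3, 3, 1, 3)], [(0, 0, 2, 1), (0, 1, 2, 1), (0, 2, 2, 1), (1, 2, 1, 3), (1, 3, 1, 3), (1, 4, 1, 3)], [(0, 0, 2, 1), (1, 0, 2, 2), (1, 1, 2, 2), (2, 1, 0, 3), (1, 2, 2, 2), (2, 2, 0, 3), (2, 3, 0, 3), (3, 3, 1, 4)], [(0, 0, 2, 3)]]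

theorem dat_eq : ∀ k, (Lk k).map (fun b => (ea b, eb b, code orb b, orb.lv (orb.act 3 b))) = dat k := by decide +kernel

end Fb

end Cfsg.Agent.H498.RP
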