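import Cfsg.Agent.H796.BR.MLink
import Cfsg.Agent.Characters.Central
import Cfsg.Agent.Characters.Counting
import Cfsg.Agent.Characters.ClassMul
import Cfsg.Agent.SmallSimple.LargePrime

/-!
# Spherical functions: the irreducible characters of a commutative Hecke algebra (helper498)

`Ker2 G C r` : an `r`-dimensional space of symmetric `G`-invariant kernels `F φ` on the `G`-set `C`, closed under
`x ↦ F φ * x * F ψ`, with an operator `A` acting as `κ B` on it. If `B` has `r` eigenvectors `U i` with distinct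
eigenvalues and `U i k0 ≠ 0` then

* `exists_chi` : there are pairwise different irreducible characters `χ i` with `∑ a, F (U i) o (a o) χ i a ≠ 0`;
* `deg_mul` : `χ i 1 * ∑ a, (F (U i) o (a o))² = |G| (U i k0)²`;
* `sum_conj` : `∑ x, F (U i) o (x g x⁻¹ o) = |G| U i k0 χ i g / χ i 1`;
* `Lc_U` : `Lc (χ i) (F (U i) o) = |G| / χ i 1 * F (U i) o`.
-/

set_option autoImplicit false
set_option linter.unusedSectionVars false

open Cfsg
open scoped ComplexConjugate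

namespace Cfsg.Agent.H498.RP

open Cfsg.Agent.Characters.Core Cfsg.Agent.Characters Cfsg.Agent.H796.BR

universe u v

/-- two-sided kernels -/
structure Ker2 (G : Type u) [Group G] (C : Type v) [Fintype C] [MulAction G C] (r : ℕ) where
  F : (Fin r → ℂ) → C → C → ℂ
  A : (C → ℂ) →ₗ[ℂ] (C → ℂ)
  B : (Fin r → ℂ) →ₗ[ℂ] (Fin r → ℂ)
  κ : ℂ
  k0 : Fin r
  o : C
  κ_ne : κ ≠ 0
  inv : ∀ φ (g : G) c d, F φ (g • c) (g • d) = F φ c d
  symm : ∀ φ c d, F φ c d = F φ d c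
  eig : ∀ φ c, A (F φ c) = κ • F (B φ) c
  inj : ∀ φ c, F φ c = 0 → φ = 0
  smul : ∀ (a : ℂ) φ c d, F (a • φ) c d = a * F φ c d
  sub : ∀ φ ψ c d, F (φ - ψ) c d = F φ c d - F ψ c d
  diag : ∀ φ c, F φ c c = φ k0
  fac : ∀ (H : C → C → ℂ), (∀ (g : G) c d, H (g • c) (g • d) = H c d) →
    (∀ c, H c ∈ Submodule.span ℂ (Set.range fun p : (Fin r → ℂ) × C => F p.1 p.2)) →
    (∀ d, (fun c => H c d) ∈ Submodule.span ℂ (Set.range fun p : (Fin r → ℂ) × C => F p.1 p.2)) → ∃ ψ, H = F ψ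

namespace Ker2

variable {G : Type u} [Group G] [Fintype G] {C : Type v} [Fintype C] [MulAction G C] {r : ℕ} (K : Ker2 G C r)

/-- the span of the columns -/
def S (φ : Fin r → ℂ) : Submodule ℂ (C → ℂ) := Submodule.span ℂ (Set.range (K.F φ))

theorem mem_S (φ : Fin r → ℂ) (c : C) : K.F φ c ∈ K.S φ := Submodule.subset_span ⟨c, rfl⟩

theorem S_le (φ : Fin r → ℂ) : K.S φ ≤ Submodule.span ℂ (Set.range fun p : (Fin r → ℂ) × C => K.F p.1 p.2) := by
  refine Submodule.span_le.2 ?_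
  rintro _ ⟨c, rfl⟩
  exact Submodule.subset_span ⟨(φ, c), rfl⟩

theorem A_S {φ : Fin r → ℂ} {θ : ℂ} (hφ : K.B φ = θ • φ) {f : C → ℂ} (hf : f ∈ K.S φ) : K.A f = (K.κ * θ) • f := by
  refine Submodule.span_induction (p := fun f _ => K.A f = (K.κ * θ) • f) ?_ ?_ ?_ ?_ hf
  · rintro _ ⟨c, rfl⟩
    rw [K.eig, hφ, mul_smul]
    congr 1
    funext d
    rw [K.smul, Pi.smul_apply, smul_eq_mul]
  · rw [map_zero, smul_zero]
  · intro x y _ _ hx hy
    rw [map_add, hx, hy, smul_add]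
  · intro a x _ hx
    rw [map_smul, hx, smul_comm]

theorem eig_of {ψ : Fin r → ℂ} {φ : Fin r → ℂ} {θ : ℂ} (hφ : K.B φ = θ • φ) {c : C} (h : K.F ψ c ∈ K.S φ) :
    K.B ψ = θ • ψ := by
  have h1 := K.A_S hφ h
  rw [K.eig, mul_smul] at h1
  have h2 : K.F (K.B ψ) c = θ • K.F ψ c := smul_right_injective _ K.κ_ne h1
  have h3 : K.F (K.B ψ - θ • ψ) c = 0 := by
    funext d
    have h4 := congrFun h2 d
    rw [Pi.smul_apply, smul_eq_mul] at h4
    rw [K.sub, K.smul, h4, sub_self]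
    rfl
  exact sub_eq_zero.1 (K.inj _ _ h3)

variable {U : Fin r → Fin r → ℂ} {θ : Fin r → ℂ} (hθ : Function.Injective θ) (hU : ∀ i, K.B (U i) = θ i • U i)
  (hU0 : ∀ i, U i K.k0 ≠ 0)

include hU0 in
theorem U_ne (i : Fin r) : U i ≠ 0 := by
  intro h
  apply hU0 i
  rw [h]
  rfl

include hU in
theorem exists_ker {i j : Fin r} {H : C → C → ℂ} (h0 : ∀ (g : G) c d, H (g • c) (g • d) = H c d)
    (h1 : ∀ c, H c ∈ K.S (U j)) (h2 : ∀ d, (fun c => H c d) ∈ K.S (U i)) :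
    ∃ ψ, H = K.F ψ ∧ K.B ψ = θ j • ψ ∧ K.B ψ = θ i • ψ := by
  obtain ⟨ψ, hψ⟩ := K.fac H h0 (fun c => K.S_le _ (h1 c)) (fun d => K.S_le _ (h2 d))
  refine ⟨ψ, hψ, ?_, ?_⟩
  · refine K.eig_of (hU j) (c := K.o) ?_
    rw [← hψ]
    exact h1 _
  · refine K.eig_of (hU i) (c := K.o) ?_
    have h3 := h2 K.o
    have e : (fun c => H c K.o) = K.F ψ K.o := by
      funext c
      rw [hψ, K.symm]
    rw [← e]
    exact h3

include hθ hU hU0 in
theorem ker_ne {i j : Fin r} (hij : i ≠ j) {H : C → C → ℂ} (h0 : ∀ (g : G) c d, H (g • c) (g • d) = H c d)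
    (h1 : ∀ c, H c ∈ K.S (U j)) (h2 : ∀ d, (fun c => H c d) ∈ K.S (U i)) (c d : C) : H c d = 0 := by
  obtain ⟨ψ, hψ, h3, h4⟩ := K.exists_ker hU h0 h1 h2
  rw [h3] at h4
  have h5 : (θ j - θ i) • ψ = 0 := by rw [sub_smul, h4, sub_self]
  have h6 : ψ = 0 := (smul_eq_zero.1 h5).resolve_left (sub_ne_zero.2 fun h => hij (hθ h).symm)
  rw [hψ, h6]
  have h7 := K.smul 0 0 c d
  rw [zero_smul, zero_mul] at h7
  exact h7

include hθ hU hU0 in
theorem ker_eq {i : Fin r} {H : C → C → ℂ} (h0 : ∀ (g : G) c d, H (g • c) (g • d) = H c d)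
    (h1 : ∀ c, H c ∈ K.S (U i)) (h2 : ∀ d, (fun c => H c d) ∈ K.S (U i)) :
    ∃ α : ℂ, ∀ c d, H c d = α * K.F (U i) c d := by
  obtain ⟨ψ, hψ, h3, -⟩ := K.exists_ker hU h0 h1 h2
  obtain ⟨α, hα⟩ := eig_mul hθ hU (K.U_ne hU0) h3
  exact ⟨α, fun c d => by rw [hψ, hα, K.smul]⟩

theorem F_inv (φ : Fin r → ℂ) (a : G) : K.F φ K.o (a⁻¹ • K.o) = K.F φ K.o (a • K.o) := by
  rw [← K.inv φ a, smul_inv_smul, K.symm]

/-- the product kernel -/
def HH (φ ψ : Fin r → ℂ) (x : G) (c d : C) : ℂ := ∑ a : G, K.F φ c (a • K.o) * K.F ψ ((a * x) • K.o) d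

theorem HH_inv (φ ψ : Fin r → ℂ) (x : G) (g : G) (c d : C) : K.HH φ ψ x (g • c) (g • d) = K.HH φ ψ x c d := by
  unfold HH
  refine (Fintype.sum_equiv (Equiv.mulLeft g) _ _ fun a => ?_).symm
  rw [Equiv.coe_mulLeft, mul_smul g a, K.inv, mul_assoc, mul_smul g (a * x), K.inv]

theorem HH_right (φ ψ : Fin r → ℂ) (x : G) (c : C) : K.HH φ ψ x c ∈ K.S ψ := by
  have e : K.HH φ ψ x c = ∑ a : G, K.F φ c (a • K.o) • K.F ψ ((a * x) • K.o) := by
    funext d
    rw [Finset.sum_apply]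
    rfl
  rw [e]
  exact Submodule.sum_mem _ fun a _ => Submodule.smul_mem _ _ (K.mem_S _ _)

theorem HH_left (φ ψ : Fin r → ℂ) (x : G) (d : C) : (fun c => K.HH φ ψ x c d) ∈ K.S φ := by
  have e : (fun c => K.HH φ ψ x c d) = ∑ a : G, K.F ψ ((a * x) • K.o) d • K.F φ (a • K.o) := by
    funext c
    rw [Finset.sum_apply]
    unfold HH
    refine Finset.sum_congr rfl fun a _ => ?_
    rw [Pi.smul_apply, smul_eq_mul, K.symm φ c, mul_comm]
  rw [e]
  exact Submodule.sum_mem _ fun a _ => Submodule.smul_mem _ _ (K.mem_S _ _)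

/-- the coefficient of a character at a kernel -/
noncomputable def cc (χ : G → ℂ) (φ : Fin r → ℂ) : ℂ := ∑ a : G, K.F φ K.o (a • K.o) * χ a

/-- the basic identity -/
theorem sum_HH {χ : G → ℂ} (hχ : IsIrrCharacter G χ) (φ ψ : Fin r → ℂ) :
    ∑ x : G, ∑ g : G, χ (g * x⁻¹) * K.HH φ ψ x K.o (g • K.o) =
      (Nat.card G : ℂ) / χ 1 * (K.cc χ φ * K.cc χ ψ) := by
  have hcl := isIrr_isClassFunction hχ
  have h1 : ∀ a b : G, ∑ x : G, χ (a * x * b * x⁻¹) = (Nat.card G : ℂ) * χ a * χ b / χ 1 := by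
    intro a b
    rw [← Central.sum_char_conj_mul hχ a b]
    refine Fintype.sum_equiv (Equiv.inv G) _ _ fun x => ?_
    rw [Equiv.inv_apply, inv_inv, ← hcl (x⁻¹ * a * x * b) x]
    congr 1
    group
  have h2 : ∀ x : G, ∑ g : G, χ (g * x⁻¹) * K.HH φ ψ x K.o (g • K.o) =
      ∑ a : G, ∑ b : G, K.F φ K.o (a • K.o) * K.F ψ K.o (b • K.o) * χ (a * x * b * x⁻¹) := by
    intro x
    unfold HH
    simp only [Finset.mul_sum]
    rw [Finset.sum_comm]
    refine Finset.sum_congr rfl fun a _ => ?_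
    refine (Fintype.sum_equiv (Equiv.mulLeft (a * x)) _ _ fun b => ?_).symm
    rw [Equiv.coe_mulLeft, mul_smul (a * x) b, K.inv]
    ring
  rw [Finset.sum_congr rfl fun x _ => h2 x, Finset.sum_comm]
  unfold cc
  rw [Finset.sum_mul_sum, Finset.mul_sum]
  refine Finset.sum_congr rfl fun a _ => ?_
  rw [Finset.sum_comm, Finset.mul_sum]
  refine Finset.sum_congr rfl fun b _ => ?_
  rw [← Finset.mul_sum, h1]
  ring

include hθ hU hU0 in
/-- a character belongs to at most one eigenvector -/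
theorem cc_ne {χ : G → ℂ} (hχ : IsIrrCharacter G χ) {i j : Fin r} (hij : i ≠ j) (hi : K.cc χ (U i) ≠ 0) :
    K.cc χ (U j) = 0 := by
  have h1 := K.sum_HH hχ (U i) (U j)
  have h2 : ∑ x : G, ∑ g : G, χ (g * x⁻¹) * K.HH (U i) (U j) x K.o (g • K.o) = 0 := by
    refine Finset.sum_eq_zero fun x _ => Finset.sum_eq_zero fun g _ => ?_
    rw [K.ker_ne hθ hU hU0 hij (K.HH_inv _ _ x) (K.HH_right _ _ x) (K.HH_left _ _ x), mul_zero]
  rw [h2] at h1
  have h3 : (Nat.card G : ℂ) / χ 1 ≠ 0 :=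
    div_ne_zero (by exact_mod_cast Nat.card_pos.ne') (isIrr_apply_one_ne_zero hχ)
  exact ((mul_eq_zero.1 ((mul_eq_zero.1 h1.symm).resolve_left h3))).resolve_left hi

/-- every eigenvector has a character -/
theorem exists_cc {φ : Fin r → ℂ} (hφ : φ K.k0 ≠ 0) : ∃ χ : IrrCharacter G, K.cc χ φ ≠ 0 := by
  classical
  have : Finite (IrrCharacter G) := finite_irr
  have : Fintype (IrrCharacter G) := Fintype.ofFinite _
  by_contra hcon
  push Not at hcon
  have h1 : ∑ χ : IrrCharacter G, (χ : G → ℂ) 1 * K.cc χ φ = (Nat.card G : ℂ) * φ K.k0 := by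
    unfold cc
    simp only [Finset.mul_sum]
    rw [Finset.sum_comm]
    have h2 : ∀ a : G, ∑ χ : IrrCharacter G, (χ : G → ℂ) 1 * (K.F φ K.o (a • K.o) * (χ : G → ℂ) a) =
        K.F φ K.o (a • K.o) * if a = 1 then (Nat.card G : ℂ) else 0 := by
      intro a
      rw [← Counting.sum_irr_one_mul, Finset.mul_sum]
      exact Finset.sum_congr rfl fun χ _ => by ring
    rw [Finset.sum_congr rfl fun a _ => h2 a, Finset.sum_eq_single 1]
    · rw [if_pos rfl, one_smul, K.diag]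
      ring
    · intro a _ ha
      rw [if_neg ha, mul_zero]
    · intro h; exact absurd (Finset.mem_univ _) h
  rw [Finset.sum_eq_zero fun χ _ => by rw [hcon χ, mul_zero]] at h1
  exact (mul_ne_zero (by exact_mod_cast Nat.card_pos.ne') hφ) h1.symm

include hθ hU hU0 in
/-- **The characters.** -/
theorem exists_chi : ∃ χ : Fin r → IrrCharacter G, Function.Injective χ ∧ ∀ i, K.cc (χ i) (U i) ≠ 0 := by
  choose χ hχ using fun i => K.exists_cc (hU0 i)
  refine ⟨χ, fun i j hij => ?_, hχ⟩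
  by_contra hne
  have h1 := K.cc_ne hθ hU hU0 (χ i).2 hne (hχ i)
  rw [hij] at h1
  exact hχ j h1

theorem Lc_o (χ : G → ℂ) (φ : Fin r → ℂ) : Lc C χ (K.F φ K.o) K.o = K.cc χ φ := by
  rw [Lc_apply]
  unfold cc
  refine Finset.sum_congr rfl fun g _ => ?_
  rw [K.F_inv, mul_comm]

include hθ hU hU0 in
/-- the convolution is a scalar on the kernel -/
theorem Lc_ker {χ : G → ℂ} (hcl : IsClassFunction G χ) (i : Fin r) :
    ∃ α : ℂ, ∀ c, Lc C χ (K.F (U i) c) = α • K.F (U i) c := by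
  have hinv : ∀ (g : G) (c d : C), Lc C χ (K.F (U i) (g • c)) (g • d) = Lc C χ (K.F (U i) c) d := by
    intro g c d
    have h1 := Lc_perm hcl (K.F (U i) c) g (g • d)
    rw [inv_smul_smul] at h1
    rw [← h1]
    refine congrFun (congrArg (Lc C χ) (funext fun x => ?_)) _
    rw [← K.inv (U i) g c (g⁻¹ • x), smul_inv_smul]
  obtain ⟨α, hα⟩ := K.ker_eq hθ hU hU0 (i := i) (H := fun c d => Lc C χ (K.F (U i) c) d) hinv
    (fun c => by
      have e : (fun d => Lc C χ (K.F (U i) c) d) = ∑ g : G, χ g • K.F (U i) (g • c) := by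
        funext d
        rw [Lc_apply, Finset.sum_apply]
        refine Finset.sum_congr rfl fun g _ => ?_
        rw [Pi.smul_apply, smul_eq_mul, ← K.inv (U i) g c (g⁻¹ • d), smul_inv_smul]
      show (fun d => Lc C χ (K.F (U i) c) d) ∈ _
      rw [e]
      exact Submodule.sum_mem _ fun g _ => Submodule.smul_mem _ _ (K.mem_S _ _))
    (fun d => by
      have e : (fun c => Lc C χ (K.F (U i) c) d) = ∑ g : G, χ g • K.F (U i) (g⁻¹ • d) := by
        funext c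
        rw [Lc_apply, Finset.sum_apply]
        refine Finset.sum_congr rfl fun g _ => ?_
        rw [Pi.smul_apply, smul_eq_mul, K.symm]
      show (fun c => Lc C χ (K.F (U i) c) d) ∈ _
      rw [e]
      exact Submodule.sum_mem _ fun g _ => Submodule.smul_mem _ _ (K.mem_S _ _))
  exact ⟨α, fun c => funext fun d => hα c d⟩

include hθ hU hU0 in
theorem cc_of_Lc {χ : G → ℂ} (hcl : IsClassFunction G χ) {i : Fin r} (h : Lc C χ (K.F (U i) K.o) ≠ 0) :
    K.cc χ (U i) ≠ 0 := by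
  obtain ⟨α, hα⟩ := K.Lc_ker hθ hU hU0 hcl i
  rw [← K.Lc_o, hα, Pi.smul_apply, smul_eq_mul, K.diag]
  refine mul_ne_zero ?_ (hU0 i)
  rintro rfl
  apply h
  rw [hα, zero_smul]

/-- the kernels are closed under the central elements -/
theorem exists_cls {z : G → ℂ} (hz : IsClassFunction G z) (φ : Fin r → ℂ) :
    ∃ ψ, ∀ c d, ∑ y : G, z y * K.F φ (y⁻¹ • c) d = K.F ψ c d := by
  obtain ⟨ψ, hψ⟩ := K.fac (fun c d => ∑ y : G, z y * K.F φ (y⁻¹ • c) d) (fun g c d => by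
      refine Fintype.sum_equiv (MulAut.conj g⁻¹).toEquiv _ _ fun y => ?_
      show z y * K.F φ (y⁻¹ • g • c) (g • d) = z (g⁻¹ * y * g⁻¹⁻¹) * K.F φ ((g⁻¹ * y * g⁻¹⁻¹)⁻¹ • c) d
      have e : (g⁻¹ * y * g⁻¹⁻¹)⁻¹ • c = g⁻¹ • y⁻¹ • g • c := by
        rw [← mul_smul, ← mul_smul]
        congr 1
        group
      rw [hz y g⁻¹, ← K.inv φ g⁻¹ (y⁻¹ • g • c), inv_smul_smul, e])
    (fun c => by
      have e : (fun d => ∑ y : G, z y * K.F φ (y⁻¹ • c) d) = ∑ y : G, z y • K.F φ (y⁻¹ • c) := by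
        funext d
        rw [Finset.sum_apply]
        rfl
      show (fun d => ∑ y : G, z y * K.F φ (y⁻¹ • c) d) ∈ _
      rw [e]
      exact Submodule.sum_mem _ fun y _ => Submodule.smul_mem _ _ (Submodule.subset_span ⟨(φ, y⁻¹ • c), rfl⟩))
    (fun d => by
      have e : (fun c => ∑ y : G, z y * K.F φ (y⁻¹ • c) d) = ∑ y : G, z y • K.F φ (y • d) := by
        funext c
        rw [Finset.sum_apply]
        refine Finset.sum_congr rfl fun y _ => ?_
        rw [Pi.smul_apply, smul_eq_mul, ← K.inv φ y (y⁻¹ • c), smul_inv_smul, K.symm]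
      show (fun c => ∑ y : G, z y * K.F φ (y⁻¹ • c) d) ∈ _
      rw [e]
      exact Submodule.sum_mem _ fun y _ => Submodule.smul_mem _ _ (Submodule.subset_span ⟨(φ, y • d), rfl⟩))
  exact ⟨ψ, fun c d => congrFun (congrFun hψ c) d⟩

include hθ hU hU0 in
/-- the eigenvalue of the convolution -/
theorem Lc_U {χ : G → ℂ} (hχ : IsIrrCharacter G χ) {i : Fin r} (hi : K.cc χ (U i) ≠ 0) (c : C) :
    Lc C χ (K.F (U i) c) = ((Nat.card G : ℂ) / χ 1) • K.F (U i) c := by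
  obtain ⟨α, hL⟩ := K.Lc_ker hθ hU hU0 (isIrr_isClassFunction hχ) i
  have h1 := Lc_Lc hχ (K.F (U i) c)
  rw [hL, map_smul, hL] at h1
  have h2 := K.Lc_o χ (U i)
  have h3 : α ≠ 0 := by
    rintro rfl
    apply hi
    rw [← h2, hL, zero_smul]
    rfl
  have h4 := smul_right_injective (C → ℂ) h3 (h1.trans (smul_comm _ _ _))
  rw [hL]
  exact h4

include hθ hU hU0 in
theorem cc_eq {χ : G → ℂ} (hχ : IsIrrCharacter G χ) {i : Fin r} (hi : K.cc χ (U i) ≠ 0) :
    K.cc χ (U i) = (Nat.card G : ℂ) / χ 1 * U i K.k0 := by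
  rw [← K.Lc_o, K.Lc_U hθ hU hU0 hχ hi, Pi.smul_apply, smul_eq_mul, K.diag]

include hθ hU hU0 in
/-- the character is determined by the eigenvector -/
theorem chi_unique {χ χ' : G → ℂ} (hχ : IsIrrCharacter G χ) (hχ' : IsIrrCharacter G χ') {i : Fin r}
    (hi : K.cc χ (U i) ≠ 0) (hi' : K.cc χ' (U i) ≠ 0) : χ' = χ := by
  by_contra hne
  have h1 := Lc_Lc_ne hχ hχ' hne (K.F (U i) K.o)
  rw [K.Lc_U hθ hU hU0 hχ' hi', map_smul, K.Lc_U hθ hU hU0 hχ hi] at h1
  have h2 := congrFun h1 K.o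
  rw [Pi.smul_apply, Pi.smul_apply, K.diag] at h2
  have h3 : (Nat.card G : ℂ) ≠ 0 := by exact_mod_cast Nat.card_pos.ne'
  exact (mul_ne_zero (div_ne_zero h3 (isIrr_apply_one_ne_zero hχ'))
    (mul_ne_zero (div_ne_zero h3 (isIrr_apply_one_ne_zero hχ)) (hU0 i))) h2

include hθ hU hU0 in
/-- **The values.** -/
theorem sum_conj {χ : G → ℂ} (hχ : IsIrrCharacter G χ) {i : Fin r} (hi : K.cc χ (U i) ≠ 0) (g : G) :
    ∑ x : G, K.F (U i) K.o ((x * g * x⁻¹) • K.o) = (Nat.card G : ℂ) * χ g / χ 1 * U i K.k0 := by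
  have hG : (Nat.card G : ℂ) ≠ 0 := by exact_mod_cast Nat.card_pos.ne'
  have h10 := isIrr_apply_one_ne_zero hχ
  have h1 : ∀ d, (Nat.card G : ℂ) / χ 1 * K.F (U i) K.o d = ∑ h : G, χ h * K.F (U i) K.o (h⁻¹ • d) := by
    intro d
    have h2 := congrFun (K.Lc_U hθ hU hU0 hχ hi K.o) d
    rw [Lc_apply, Pi.smul_apply, smul_eq_mul] at h2
    exact h2.symm
  have h2 : (Nat.card G : ℂ) / χ 1 * ∑ x : G, K.F (U i) K.o ((x * g * x⁻¹) • K.o) =
      (Nat.card G : ℂ) * χ g / χ 1 * K.cc χ (U i) := by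
    rw [Finset.mul_sum]
    have h3 : ∀ x : G, (Nat.card G : ℂ) / χ 1 * K.F (U i) K.o ((x * g * x⁻¹) • K.o) =
        ∑ k : G, χ (x * g * x⁻¹ * k) * K.F (U i) K.o (k • K.o) := by
      intro x
      rw [h1]
      refine Fintype.sum_equiv (Equiv.mulLeft (x * g * x⁻¹)⁻¹) _ _ fun h => ?_
      rw [Equiv.coe_mulLeft, mul_inv_cancel_left, ← K.F_inv (U i) ((x * g * x⁻¹)⁻¹ * h), mul_inv_rev, inv_inv,
        mul_smul h⁻¹]
    rw [Finset.sum_congr rfl fun x _ => h3 x, Finset.sum_comm]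
    unfold cc
    rw [Finset.mul_sum]
    refine Finset.sum_congr rfl fun k _ => ?_
    rw [← Finset.sum_mul, Central.sum_char_conj_mul hχ g k]
    ring
  rw [K.cc_eq hθ hU hU0 hχ hi] at h2
  have h3 : (Nat.card G : ℂ) / χ 1 ≠ 0 := div_ne_zero hG h10
  apply mul_left_cancel₀ h3
  rw [h2]
  ring

/-- the characters are constituents of the permutation character -/
theorem sum_stab_ne {χ : G → ℂ} (hχ : IsIrrCharacter G χ) {φ : Fin r → ℂ} (hi : K.cc χ φ ≠ 0) (H : Subgroup G)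
    [Fintype H] (hH : ∀ g ∈ H, g • K.o = K.o) : ∑ b : H, χ b ≠ 0 := by
  intro h0
  have hH0 : (Nat.card H : ℂ) ≠ 0 := by exact_mod_cast Nat.card_pos.ne'
  obtain ⟨k, hk1, hk2⟩ := SmallSimple.LargePrime.exists_avg hχ H
  have hk : k = 0 := by
    rw [h0] at hk1
    exact_mod_cast (mul_eq_zero.1 hk1.symm).resolve_left hH0
  have h1 := hk2 hk
  apply hi
  have h2 : (Nat.card H : ℂ) * K.cc χ φ = 0 := by
    have h3 : ∀ b : H, K.cc χ φ = ∑ a : G, K.F φ K.o (a • K.o) * χ (b * a) := by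
      intro b
      unfold cc
      refine (Fintype.sum_equiv (Equiv.mulLeft (b : G)) _ _ fun a => ?_).symm
      rw [Equiv.coe_mulLeft, mul_smul, ← K.inv φ (b : G) K.o (a • K.o), hH b b.2]
    calc (Nat.card H : ℂ) * K.cc χ φ = ∑ _b : H, K.cc χ φ := by
          rw [Finset.sum_const, Finset.card_univ, nsmul_eq_mul, Nat.card_eq_fintype_card]
      _ = ∑ b : H, ∑ a : G, K.F φ K.o (a • K.o) * χ (b * a) := Finset.sum_congr rfl fun b _ => h3 b
      _ = 0 := by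
          rw [Finset.sum_comm]
          refine Finset.sum_eq_zero fun a _ => ?_
          rw [← Finset.mul_sum, h1, mul_zero]
  exact (mul_eq_zero.1 h2).resolve_left hH0

open Classical in
include hθ hU hU0 in
/-- **The central characters.** -/
theorem omega {χ : G → ℂ} (hχ : IsIrrCharacter G χ) {i : Fin r} (hi : K.cc χ (U i) ≠ 0) (g : G) :
    ∑ y : G, (if IsConj g y then (1 : ℂ) else 0) * K.F (U i) K.o (y • K.o) = centralChar χ g * U i K.k0 := by
  have h1 := K.sum_conj hθ hU hU0 hχ hi g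
  rw [ClassMul.sum_conj_eq_smul (fun y => K.F (U i) K.o (y • K.o)) g, nsmul_eq_mul] at h1
  have h2 : (Nat.card (Subgroup.centralizer ({g} : Set G)) : ℂ) ≠ 0 := by exact_mod_cast Nat.card_pos.ne'
  have h3 : ((Nat.card (Subgroup.centralizer ({g} : Set G)) : ℕ) : ℂ) *
      ((Subgroup.centralizer ({g} : Set G)).index : ℂ) = (Nat.card G : ℂ) := by
    exact_mod_cast (Subgroup.centralizer ({g} : Set G)).card_mul_index
  apply mul_left_cancel₀ h2
  rw [← h3] at h1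
  have h4 : ∑ y : G, (if IsConj g y then (1 : ℂ) else 0) * K.F (U i) K.o (y • K.o) =
      ∑ y with IsConj g y, K.F (U i) K.o (y • K.o) := by
    rw [Finset.sum_filter]
    refine Finset.sum_congr rfl fun y _ => ?_
    split_ifs
    · rw [one_mul]
    · rw [zero_mul]
  rw [h4, h1]
  unfold centralChar
  ring

include hθ hU hU0 in
/-- **The degree** (up to sign). -/
theorem deg_sq {χ : G → ℂ} (hχ : IsIrrCharacter G χ) {i : Fin r} (hi : K.cc χ (U i) ≠ 0) :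
    (χ 1 * ∑ a : G, K.F (U i) K.o (a • K.o) ^ 2) ^ 2 = ((Nat.card G : ℂ) * U i K.k0 ^ 2) ^ 2 := by
  have hG : (Nat.card G : ℂ) ≠ 0 := by exact_mod_cast Nat.card_pos.ne'
  have h10 := isIrr_apply_one_ne_zero hχ
  choose α hα using fun x => K.ker_eq hθ hU hU0 (i := i) (K.HH_inv (U i) (U i) x) (K.HH_right _ _ x) (K.HH_left _ _ x)
  have h1 : α 1 * U i K.k0 = ∑ a : G, K.F (U i) K.o (a • K.o) ^ 2 := by
    rw [← K.diag (U i) K.o, ← hα 1]
    unfold HH
    refine Finset.sum_congr rfl fun a _ => ?_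
    rw [mul_one, K.symm (U i) (a • K.o), sq]
  have h2 : ∀ x, α x * U i K.k0 = α 1 * K.F (U i) K.o (x • K.o) := by
    intro x
    rw [← K.diag (U i) K.o, ← hα x, ← hα 1]
    unfold HH
    refine Fintype.sum_equiv (Equiv.inv G) _ _ fun a => ?_
    rw [Equiv.inv_apply, K.F_inv, mul_one, mul_smul, ← K.inv (U i) a⁻¹ (a • x • K.o), inv_smul_smul,
      K.symm (U i) (x • K.o)]
  have h3 : ∀ x, ∑ g : G, χ (g * x⁻¹) * K.F (U i) K.o (g • K.o) = (Nat.card G : ℂ) / χ 1 * K.F (U i) K.o (x • K.o) := by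
    intro x
    have h4 := congrFun (K.Lc_U hθ hU hU0 hχ hi (x • K.o)) K.o
    rw [Lc_apply, Pi.smul_apply, smul_eq_mul] at h4
    rw [K.symm (U i) K.o (x • K.o), ← h4]
    refine Fintype.sum_equiv (Equiv.mulRight x⁻¹) _ _ fun g => ?_
    rw [Equiv.coe_mulRight, mul_inv_rev, inv_inv, mul_smul x, K.inv, ← K.inv (U i) g⁻¹, inv_smul_smul, K.symm]
  have h4 := K.sum_HH hχ (U i) (U i)
  have h5 : ∑ x : G, ∑ g : G, χ (g * x⁻¹) * K.HH (U i) (U i) x K.o (g • K.o) =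
      ∑ x : G, α x * ((Nat.card G : ℂ) / χ 1 * K.F (U i) K.o (x • K.o)) := by
    refine Finset.sum_congr rfl fun x _ => ?_
    rw [← h3, Finset.mul_sum]
    refine Finset.sum_congr rfl fun g _ => ?_
    rw [hα]
    ring
  rw [h5, K.cc_eq hθ hU hU0 hχ hi] at h4
  set S := ∑ a : G, K.F (U i) K.o (a • K.o) ^ 2 with hS
  have h6 : U i K.k0 ^ 2 * ∑ x : G, α x * ((Nat.card G : ℂ) / χ 1 * K.F (U i) K.o (x • K.o)) =
      (Nat.card G : ℂ) / χ 1 * S ^ 2 := by
    calc _ = ∑ x : G, (Nat.card G : ℂ) / χ 1 * (α 1 * U i K.k0) * K.F (U i) K.o (x • K.o) ^ 2 := by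
          rw [Finset.mul_sum]
          refine Finset.sum_congr rfl fun x _ => ?_
          calc _ = (α x * U i K.k0) * (U i K.k0 * ((Nat.card G : ℂ) / χ 1 * K.F (U i) K.o (x • K.o))) := by ring
            _ = _ := by rw [h2]; ring
      _ = _ := by rw [← Finset.mul_sum, h1, ← hS]; ring
  rw [h4] at h6
  have h7 : (Nat.card G : ℂ) / χ 1 ≠ 0 := div_ne_zero hG h10
  have h8 : U i K.k0 ^ 2 * ((Nat.card G : ℂ) / χ 1 * U i K.k0) ^ 2 = S ^ 2 := by
    apply mul_left_cancel₀ h7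
    rw [← h6]
    ring
  rw [mul_pow, ← h8]
  field_simp

end Ker2

end Cfsg.Agent.H498.RP
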